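import Mathlib
import Cfsg.Prelude.Def_ChevE7
import Cfsg.Agent.Lib.Helper5.ChevSymAdd

set_option autoImplicit false

namespace Cfsg.Agent.Lib.Helper5.ChevSym

open Cfsg Cfsg.Lie

set_option maxRecDepth 1000000 in
theorem chkAdd_E7_0 : checkRange (checkAdd chevE7) 0 12 = true := by
  decide +kernel

set_option maxRecDepth 1000000 in
theorem chkAdd_E7_12 : checkRange (checkAdd chevE7) 12 12 = true := by
  decide +kernel

set_option maxRecDepth 1000000 in
theorem chkAdd_E7_24 : checkRange (checkAdd chevE7) 24 12 = true := by
  decide +kernel

set_option maxRecDepth 1000000 in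
theorem chkAdd_E7_36 : checkRange (checkAdd chevE7) 36 12 = true := by
  decide +kernel

set_option maxRecDepth 1000000 in
theorem chkAdd_E7_48 : checkRange (checkAdd chevE7) 48 12 = true := by
  decide +kernel

set_option maxRecDepth 1000000 in
theorem chkAdd_E7_60 : checkRange (checkAdd chevE7) 60 12 = true := by
  decide +kernel

set_option maxRecDepth 1000000 in
theorem chkAdd_E7_72 : checkRange (checkAdd chevE7) 72 12 = true := by
  decide +kernel

set_option maxRecDepth 1000000 in
theorem chkAdd_E7_84 : checkRange (checkAdd chevE7) 84 12 = true := by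
  decide +kernel

set_option maxRecDepth 1000000 in
theorem chkAdd_E7_96 : checkRange (checkAdd chevE7) 96 12 = true := by
  decide +kernel

set_option maxRecDepth 1000000 in
theorem chkAdd_E7_108 : checkRange (checkAdd chevE7) 108 12 = true := by
  decide +kernel

set_option maxRecDepth 1000000 in
theorem chkAdd_E7_120 : checkRange (checkAdd chevE7) 120 6 = true := by
  decide +kernel

end Cfsg.Agent.Lib.Helper5.ChevSym
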