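import Mathlib
import Cfsg.Prelude.Def_ChevE7
import Cfsg.Agent.Lib.Helper5.ChevSymAdd
import Cfsg.Agent.Lib.Helper5.ChevChk.AddE7_0

set_option autoImplicit false

namespace Cfsg.Agent.Lib.Helper5.ChevSym

open Cfsg Cfsg.Lie

theorem chkAdd_E7 (r : ℕ) (hr : r < 126) : checkAdd chevE7 r = true := by
  rcases Nat.lt_or_ge r 12 with h | h
  · exact of_checkRange chkAdd_E7_0 r (by omega) (by omega)
  rcases Nat.lt_or_ge r 24 with h | h
  · exact of_checkRange chkAdd_E7_12 r (by omega) (by omega)
  rcases Nat.lt_or_ge r 36 with h | h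
  · exact of_checkRange chkAdd_E7_24 r (by omega) (by omega)
  rcases Nat.lt_or_ge r 48 with h | h
  · exact of_checkRange chkAdd_E7_36 r (by omega) (by omega)
  rcases Nat.lt_or_ge r 60 with h | h
  · exact of_checkRange chkAdd_E7_48 r (by omega) (by omega)
  rcases Nat.lt_or_ge r 72 with h | h
  · exact of_checkRange chkAdd_E7_60 r (by omega) (by omega)
  rcases Nat.lt_or_ge r 84 with h | h
  · exact of_checkRange chkAdd_E7_72 r (by omega) (by omega)
  rcases Nat.lt_or_ge r 96 with h | h
  · exact of_checkRange chkAdd_E7_84 r (by omega) (by omega)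
  rcases Nat.lt_or_ge r 108 with h | h
  · exact of_checkRange chkAdd_E7_96 r (by omega) (by omega)
  rcases Nat.lt_or_ge r 120 with h | h
  · exact of_checkRange chkAdd_E7_108 r (by omega) (by omega)
  rcases Nat.lt_or_ge r 126 with h | h
  · exact of_checkRange chkAdd_E7_120 r (by omega) (by omega)
  omega

end Cfsg.Agent.Lib.Helper5.ChevSym
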