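import Mathlib
import Cfsg.Prelude.Def_ChevE8
import Cfsg.Agent.Lib.Helper5.ChevSymAdd

set_option autoImplicit false

namespace Cfsg.Agent.Lib.Helper5.ChevSym

open Cfsg Cfsg.Lie

set_option maxRecDepth 1000000 in
theorem chkAdd_E8_0 : checkRange (checkAdd chevE8) 0 6 = true := by
  decide +kernel

set_option maxRecDepth 1000000 in
theorem chkAdd_E8_6 : checkRange (checkAdd chevE8) 6 6 = true := by
  decide +kernel

set_option maxRecDepth 1000000 in
theorem chkAdd_E8_12 : checkRange (checkAdd chevE8) 12 6 = true := by
  decide +kernel

set_option maxRecDepth 1000000 in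
theorem chkAdd_E8_18 : checkRange (checkAdd chevE8) 18 6 = true := by
  decide +kernel

set_option maxRecDepth 1000000 in
theorem chkAdd_E8_24 : checkRange (checkAdd chevE8) 24 6 = true := by
  decide +kernel

set_option maxRecDepth 1000000 in
theorem chkAdd_E8_30 : checkRange (checkAdd chevE8) 30 6 = true := by
  decide +kernel

set_option maxRecDepth 1000000 in
theorem chkAdd_E8_36 : checkRange (checkAdd chevE8) 36 6 = true := by
  decide +kernel

set_option maxRecDepth 1000000 in
theorem chkAdd_E8_42 : checkRange (checkAdd chevE8) 42 6 = true := by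
  decide +kernel

set_option maxRecDepth 1000000 in
theorem chkAdd_E8_48 : checkRange (checkAdd chevE8) 48 6 = true := by
  decide +kernel

set_option maxRecDepth 1000000 in
theorem chkAdd_E8_54 : checkRange (checkAdd chevE8) 54 6 = true := by
  decide +kernel

end Cfsg.Agent.Lib.Helper5.ChevSym
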