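import Mathlib
import Cfsg.Prelude.Def_ChevE8
import Cfsg.Agent.Lib.Helper5.ChevSymAdd

set_option autoImplicit false

namespace Cfsg.Agent.Lib.Helper5.ChevSym

open Cfsg Cfsg.Lie

set_option maxRecDepth 1000000 in
theorem chkAdd_E8_60 : checkRange (checkAdd chevE8) 60 6 = true := by
  decide +kernel

set_option maxRecDepth 1000000 in
theorem chkAdd_E8_66 : checkRange (checkAdd chevE8) 66 6 = true := by
  decide +kernel

set_option maxRecDepth 1000000 in
theorem chkAdd_E8_72 : checkRange (checkAdd chevE8) 72 6 = true := by
  decide +kernel

set_option maxRecDepth 1000000 in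
theorem chkAdd_E8_78 : checkRange (checkAdd chevE8) 78 6 = true := by
  decide +kernel

set_option maxRecDepth 1000000 in
theorem chkAdd_E8_84 : checkRange (checkAdd chevE8) 84 6 = true := by
  decide +kernel

set_option maxRecDepth 1000000 in
theorem chkAdd_E8_90 : checkRange (checkAdd chevE8) 90 6 = true := by
  decide +kernel

set_option maxRecDepth 1000000 in
theorem chkAdd_E8_96 : checkRange (checkAdd chevE8) 96 6 = true := by
  decide +kernel

set_option maxRecDepth 1000000 in
theorem chkAdd_E8_102 : checkRange (checkAdd chevE8) 102 6 = true := by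
  decide +kernel

set_option maxRecDepth 1000000 in
theorem chkAdd_E8_108 : checkRange (checkAdd chevE8) 108 6 = true := by
  decide +kernel

set_option maxRecDepth 1000000 in
theorem chkAdd_E8_114 : checkRange (checkAdd chevE8) 114 6 = true := by
  decide +kernel

end Cfsg.Agent.Lib.Helper5.ChevSym
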