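import Mathlib
import Cfsg.Prelude.Def_ChevE8
import Cfsg.Agent.Lib.Helper5.ChevSymAdd

set_option autoImplicit false

namespace Cfsg.Agent.Lib.Helper5.ChevSym

open Cfsg Cfsg.Lie

set_option maxRecDepth 1000000 in
theorem chkAdd_E8_120 : checkRange (checkAdd chevE8) 120 6 = true := by
  decide +kernel

set_option maxRecDepth 1000000 in
theorem chkAdd_E8_126 : checkRange (checkAdd chevE8) 126 6 = true := by
  decide +kernel

set_option maxRecDepth 1000000 in
theorem chkAdd_E8_132 : checkRange (checkAdd chevE8) 132 6 = true := by
  decide +kernel

set_option maxRecDepth 1000000 in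
theorem chkAdd_E8_138 : checkRange (checkAdd chevE8) 138 6 = true := by
  decide +kernel

set_option maxRecDepth 1000000 in
theorem chkAdd_E8_144 : checkRange (checkAdd chevE8) 144 6 = true := by
  decide +kernel

set_option maxRecDepth 1000000 in
theorem chkAdd_E8_150 : checkRange (checkAdd chevE8) 150 6 = true := by
  decide +kernel

set_option maxRecDepth 1000000 in
theorem chkAdd_E8_156 : checkRange (checkAdd chevE8) 156 6 = true := by
  decide +kernel

set_option maxRecDepth 1000000 in
theorem chkAdd_E8_162 : checkRange (checkAdd chevE8) 162 6 = true := by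
  decide +kernel

set_option maxRecDepth 1000000 in
theorem chkAdd_E8_168 : checkRange (checkAdd chevE8) 168 6 = true := by
  decide +kernel

set_option maxRecDepth 1000000 in
theorem chkAdd_E8_174 : checkRange (checkAdd chevE8) 174 6 = true := by
  decide +kernel

end Cfsg.Agent.Lib.Helper5.ChevSym
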