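import Mathlib
import Cfsg.Prelude.Def_ChevE8
import Cfsg.Agent.Lib.Helper5.ChevSymAdd

set_option autoImplicit false

namespace Cfsg.Agent.Lib.Helper5.ChevSym

open Cfsg Cfsg.Lie

set_option maxRecDepth 1000000 in
theorem chkAdd_E8_180 : checkRange (checkAdd chevE8) 180 6 = true := by
  decide +kernel

set_option maxRecDepth 1000000 in
theorem chkAdd_E8_186 : checkRange (checkAdd chevE8) 186 6 = true := by
  decide +kernel

set_option maxRecDepth 1000000 in
theorem chkAdd_E8_192 : checkRange (checkAdd chevE8) 192 6 = true := by
  decide +kernel

set_option maxRecDepth 1000000 in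
theorem chkAdd_E8_198 : checkRange (checkAdd chevE8) 198 6 = true := by
  decide +kernel

set_option maxRecDepth 1000000 in
theorem chkAdd_E8_204 : checkRange (checkAdd chevE8) 204 6 = true := by
  decide +kernel

set_option maxRecDepth 1000000 in
theorem chkAdd_E8_210 : checkRange (checkAdd chevE8) 210 6 = true := by
  decide +kernel

set_option maxRecDepth 1000000 in
theorem chkAdd_E8_216 : checkRange (checkAdd chevE8) 216 6 = true := by
  decide +kernel

set_option maxRecDepth 1000000 in
theorem chkAdd_E8_222 : checkRange (checkAdd chevE8) 222 6 = true := by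
  decide +kernel

set_option maxRecDepth 1000000 in
theorem chkAdd_E8_228 : checkRange (checkAdd chevE8) 228 6 = true := by
  decide +kernel

set_option maxRecDepth 1000000 in
theorem chkAdd_E8_234 : checkRange (checkAdd chevE8) 234 6 = true := by
  decide +kernel

end Cfsg.Agent.Lib.Helper5.ChevSym
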