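import Mathlib
import Cfsg.Agent.Lib.Helper5.ChevChk.AddG2
import Cfsg.Agent.Lib.Helper5.ChevChk.AddB2
import Cfsg.Agent.Lib.Helper5.ChevChk.AddD4
import Cfsg.Agent.Lib.Helper5.ChevChk.AddF4
import Cfsg.Agent.Lib.Helper5.ChevChk.AddE6
import Cfsg.Agent.Lib.Helper5.ChevChk.AddE7
import Cfsg.Agent.Lib.Helper5.ChevChk.AddE8

set_option autoImplicit false

namespace Cfsg.Agent.Lib.Helper5.ChevSym

open Cfsg Cfsg.Lie

theorem chkAdd_all (D : ChevalleyDatum)
    (hD : D ∈ [chevG2, chevB2, chevD4, chevF4, chevE6, chevE7, chevE8]) (r : ℕ)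
    (hr : r < D.nroots) : checkAdd D r = true := by
  simp only [List.mem_cons, List.not_mem_nil, or_false] at hD
  rcases hD with rfl | rfl | rfl | rfl | rfl | rfl | rfl
  · exact chkAdd_G2 r hr
  · exact chkAdd_B2 r hr
  · exact chkAdd_D4 r hr
  · exact chkAdd_F4 r hr
  · exact chkAdd_E6 r hr
  · exact chkAdd_E7 r hr
  · exact chkAdd_E8 r hr

/-- `x_r(t₁) x_r(t₂) = x_r(t₁ + t₂)` for the seven tabulated data. -/
theorem x_add {F : Type*} [Field F] (D : ChevalleyDatum)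
    (hD : D ∈ [chevG2, chevB2, chevD4, chevF4, chevE6, chevE7, chevE8]) (r : ℕ) (t₁ t₂ : F) :
    D.x F r t₁ * D.x F r t₂ = D.x F r (t₁ + t₂) := by
  by_cases hr : r < D.nroots
  · exact x_add_of_check D r (chkAdd_all D hD r hr) t₁ t₂
  · unfold ChevalleyDatum.x
    rw [dif_neg hr, dif_neg hr, dif_neg hr, mul_one]

end Cfsg.Agent.Lib.Helper5.ChevSym
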