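import Mathlib
import Cfsg.Prelude.Def_ChevD4
import Cfsg.Agent.Lib.Helper5.ChevWeights

set_option autoImplicit false

namespace Cfsg.Agent.Lib.Helper5.ChevStruct

open Cfsg Cfsg.Lie

set_option maxRecDepth 1000000 in
theorem chkShape_D4 : checkShape chevD4 = true := by
  decide +kernel

set_option maxRecDepth 1000000 in
theorem chkWt_D4_0 : checkWeightsR chevD4 0 24 = true := by
  decide +kernel

theorem weightsOK_D4 : WeightsOK chevD4 := by
  apply weightsOK_of_checks _ chkShape_D4
  intro r hr
  have hr : r < 24 := hr
  rcases Nat.lt_or_ge r 24 with h | h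
  · exact of_checkWeightsR chkWt_D4_0 r (by omega) (by omega)
  omega

end Cfsg.Agent.Lib.Helper5.ChevStruct
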