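import Mathlib
import Cfsg.Prelude.Def_ChevE7
import Cfsg.Agent.Lib.Helper5.ChevWeights

set_option autoImplicit false

namespace Cfsg.Agent.Lib.Helper5.ChevStruct

open Cfsg Cfsg.Lie

set_option maxRecDepth 1000000 in
theorem chkShape_E7 : checkShape chevE7 = true := by
  decide +kernel

set_option maxRecDepth 1000000 in
theorem chkWt_E7_0 : checkWeightsR chevE7 0 63 = true := by
  decide +kernel

set_option maxRecDepth 1000000 in
theorem chkWt_E7_63 : checkWeightsR chevE7 63 63 = true := by
  decide +kernel

theorem weightsOK_E7 : WeightsOK chevE7 := by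
  apply weightsOK_of_checks _ chkShape_E7
  intro r hr
  have hr : r < 126 := hr
  rcases Nat.lt_or_ge r 63 with h | h
  · exact of_checkWeightsR chkWt_E7_0 r (by omega) (by omega)
  rcases Nat.lt_or_ge r 126 with h | h
  · exact of_checkWeightsR chkWt_E7_63 r (by omega) (by omega)
  omega

end Cfsg.Agent.Lib.Helper5.ChevStruct
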