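import Mathlib
import Cfsg.Prelude.Def_ChevE8
import Cfsg.Agent.Lib.Helper5.ChevWeights

set_option autoImplicit false

namespace Cfsg.Agent.Lib.Helper5.ChevStruct

open Cfsg Cfsg.Lie

set_option maxRecDepth 1000000 in
theorem chkShape_E8 : checkShape chevE8 = true := by
  decide +kernel

set_option maxRecDepth 1000000 in
theorem chkWt_E8_0 : checkWeightsR chevE8 0 40 = true := by
  decide +kernel

set_option maxRecDepth 1000000 in
theorem chkWt_E8_40 : checkWeightsR chevE8 40 40 = true := by
  decide +kernel

set_option maxRecDepth 1000000 in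
theorem chkWt_E8_80 : checkWeightsR chevE8 80 40 = true := by
  decide +kernel

set_option maxRecDepth 1000000 in
theorem chkWt_E8_120 : checkWeightsR chevE8 120 40 = true := by
  decide +kernel

set_option maxRecDepth 1000000 in
theorem chkWt_E8_160 : checkWeightsR chevE8 160 40 = true := by
  decide +kernel

set_option maxRecDepth 1000000 in
theorem chkWt_E8_200 : checkWeightsR chevE8 200 40 = true := by
  decide +kernel

theorem weightsOK_E8 : WeightsOK chevE8 := by
  apply weightsOK_of_checks _ chkShape_E8
  intro r hr
  have hr : r < 240 := hr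
  rcases Nat.lt_or_ge r 40 with h | h
  · exact of_checkWeightsR chkWt_E8_0 r (by omega) (by omega)
  rcases Nat.lt_or_ge r 80 with h | h
  · exact of_checkWeightsR chkWt_E8_40 r (by omega) (by omega)
  rcases Nat.lt_or_ge r 120 with h | h
  · exact of_checkWeightsR chkWt_E8_80 r (by omega) (by omega)
  rcases Nat.lt_or_ge r 160 with h | h
  · exact of_checkWeightsR chkWt_E8_120 r (by omega) (by omega)
  rcases Nat.lt_or_ge r 200 with h | h
  · exact of_checkWeightsR chkWt_E8_160 r (by omega) (by omega)
  rcases Nat.lt_or_ge r 240 with h | h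
  · exact of_checkWeightsR chkWt_E8_200 r (by omega) (by omega)
  omega

end Cfsg.Agent.Lib.Helper5.ChevStruct
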