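import Mathlib
import Cfsg.Prelude.Def_ChevG2
import Cfsg.Agent.Lib.Helper5.ChevWeights

set_option autoImplicit false

namespace Cfsg.Agent.Lib.Helper5.ChevStruct

open Cfsg Cfsg.Lie

set_option maxRecDepth 1000000 in
theorem chkShape_G2 : checkShape chevG2 = true := by
  decide +kernel

set_option maxRecDepth 1000000 in
theorem chkWt_G2_0 : checkWeightsR chevG2 0 12 = true := by
  decide +kernel

theorem weightsOK_G2 : WeightsOK chevG2 := by
  apply weightsOK_of_checks _ chkShape_G2
  intro r hr
  have hr : r < 12 := hr
  rcases Nat.lt_or_ge r 12 with h | h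
  · exact of_checkWeightsR chkWt_G2_0 r (by omega) (by omega)
  omega

end Cfsg.Agent.Lib.Helper5.ChevStruct
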