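import Mathlib
import Cfsg.Agent.Lib.Helper5.ChevChk.WtG2
import Cfsg.Agent.Lib.Helper5.ChevChk.WtB2
import Cfsg.Agent.Lib.Helper5.ChevChk.WtD4
import Cfsg.Agent.Lib.Helper5.ChevChk.WtF4
import Cfsg.Agent.Lib.Helper5.ChevChk.WtE6
import Cfsg.Agent.Lib.Helper5.ChevChk.WtE7
import Cfsg.Agent.Lib.Helper5.ChevChk.WtE8

set_option autoImplicit false

namespace Cfsg.Agent.Lib.Helper5.ChevStruct

open Cfsg Cfsg.Lie

theorem weightsOK_all (D : ChevalleyDatum)
    (hD : D ∈ [chevG2, chevB2, chevD4, chevF4, chevE6, chevE7, chevE8]) : WeightsOK D := by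
  simp only [List.mem_cons, List.not_mem_nil, or_false] at hD
  rcases hD with rfl | rfl | rfl | rfl | rfl | rfl | rfl
  · exact weightsOK_G2
  · exact weightsOK_B2
  · exact weightsOK_D4
  · exact weightsOK_F4
  · exact weightsOK_E6
  · exact weightsOK_E7
  · exact weightsOK_E8

end Cfsg.Agent.Lib.Helper5.ChevStruct
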