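import Mathlib
import Cfsg.Prelude.Def_ChevD4
import Cfsg.Agent.Lib.Helper5.ChevSymH
import Cfsg.Agent.Lib.Helper5.ChevChk.HD4_0

set_option autoImplicit false

namespace Cfsg.Agent.Lib.Helper5.ChevSym

open Cfsg Cfsg.Lie

theorem chkH_D4 (r : ℕ) (hr : r < 24) : checkH chevD4 r = true := by
  rcases Nat.lt_or_ge r 12 with h | h
  · exact of_checkRange chkH_D4_0 r (by omega) (by omega)
  rcases Nat.lt_or_ge r 24 with h | h
  · exact of_checkRange chkH_D4_12 r (by omega) (by omega)
  omega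

end Cfsg.Agent.Lib.Helper5.ChevSym
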