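import Mathlib
import Cfsg.Prelude.Def_ChevE6
import Cfsg.Agent.Lib.Helper5.ChevSymH

set_option autoImplicit false

namespace Cfsg.Agent.Lib.Helper5.ChevSym

open Cfsg Cfsg.Lie

set_option maxRecDepth 1000000 in
theorem chkH_E6_0 : checkRange (checkH chevE6) 0 8 = true := by
  decide +kernel

set_option maxRecDepth 1000000 in
theorem chkH_E6_8 : checkRange (checkH chevE6) 8 8 = true := by
  decide +kernel

set_option maxRecDepth 1000000 in
theorem chkH_E6_16 : checkRange (checkH chevE6) 16 8 = true := by
  decide +kernel

set_option maxRecDepth 1000000 in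
theorem chkH_E6_24 : checkRange (checkH chevE6) 24 8 = true := by
  decide +kernel

set_option maxRecDepth 1000000 in
theorem chkH_E6_32 : checkRange (checkH chevE6) 32 8 = true := by
  decide +kernel

set_option maxRecDepth 1000000 in
theorem chkH_E6_40 : checkRange (checkH chevE6) 40 8 = true := by
  decide +kernel

set_option maxRecDepth 1000000 in
theorem chkH_E6_48 : checkRange (checkH chevE6) 48 8 = true := by
  decide +kernel

set_option maxRecDepth 1000000 in
theorem chkH_E6_56 : checkRange (checkH chevE6) 56 8 = true := by
  decide +kernel

set_option maxRecDepth 1000000 in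
theorem chkH_E6_64 : checkRange (checkH chevE6) 64 8 = true := by
  decide +kernel

end Cfsg.Agent.Lib.Helper5.ChevSym
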