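import Mathlib
import Cfsg.Prelude.Def_ChevE7
import Cfsg.Agent.Lib.Helper5.ChevSymH

set_option autoImplicit false

namespace Cfsg.Agent.Lib.Helper5.ChevSym

open Cfsg Cfsg.Lie

set_option maxRecDepth 1000000 in
theorem chkH_E7_0 : checkRange (checkH chevE7) 0 4 = true := by
  decide +kernel

set_option maxRecDepth 1000000 in
theorem chkH_E7_4 : checkRange (checkH chevE7) 4 4 = true := by
  decide +kernel

set_option maxRecDepth 1000000 in
theorem chkH_E7_8 : checkRange (checkH chevE7) 8 4 = true := by
  decide +kernel

set_option maxRecDepth 1000000 in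
theorem chkH_E7_12 : checkRange (checkH chevE7) 12 4 = true := by
  decide +kernel

set_option maxRecDepth 1000000 in
theorem chkH_E7_16 : checkRange (checkH chevE7) 16 4 = true := by
  decide +kernel

set_option maxRecDepth 1000000 in
theorem chkH_E7_20 : checkRange (checkH chevE7) 20 4 = true := by
  decide +kernel

set_option maxRecDepth 1000000 in
theorem chkH_E7_24 : checkRange (checkH chevE7) 24 4 = true := by
  decide +kernel

set_option maxRecDepth 1000000 in
theorem chkH_E7_28 : checkRange (checkH chevE7) 28 4 = true := by
  decide +kernel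

end Cfsg.Agent.Lib.Helper5.ChevSym
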