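import Mathlib
import Cfsg.Prelude.Def_ChevE7
import Cfsg.Agent.Lib.Helper5.ChevSymH

set_option autoImplicit false

namespace Cfsg.Agent.Lib.Helper5.ChevSym

open Cfsg Cfsg.Lie

set_option maxRecDepth 1000000 in
theorem chkH_E7_32 : checkRange (checkH chevE7) 32 4 = true := by
  decide +kernel

set_option maxRecDepth 1000000 in
theorem chkH_E7_36 : checkRange (checkH chevE7) 36 4 = true := by
  decide +kernel

set_option maxRecDepth 1000000 in
theorem chkH_E7_40 : checkRange (checkH chevE7) 40 4 = true := by
  decide +kernel

set_option maxRecDepth 1000000 in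
theorem chkH_E7_44 : checkRange (checkH chevE7) 44 4 = true := by
  decide +kernel

set_option maxRecDepth 1000000 in
theorem chkH_E7_48 : checkRange (checkH chevE7) 48 4 = true := by
  decide +kernel

set_option maxRecDepth 1000000 in
theorem chkH_E7_52 : checkRange (checkH chevE7) 52 4 = true := by
  decide +kernel

set_option maxRecDepth 1000000 in
theorem chkH_E7_56 : checkRange (checkH chevE7) 56 4 = true := by
  decide +kernel

set_option maxRecDepth 1000000 in
theorem chkH_E7_60 : checkRange (checkH chevE7) 60 4 = true := by
  decide +kernel

end Cfsg.Agent.Lib.Helper5.ChevSym
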