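import Mathlib
import Cfsg.Prelude.Def_ChevE7
import Cfsg.Agent.Lib.Helper5.ChevSymH

set_option autoImplicit false

namespace Cfsg.Agent.Lib.Helper5.ChevSym

open Cfsg Cfsg.Lie

set_option maxRecDepth 1000000 in
theorem chkH_E7_64 : checkRange (checkH chevE7) 64 4 = true := by
  decide +kernel

set_option maxRecDepth 1000000 in
theorem chkH_E7_68 : checkRange (checkH chevE7) 68 4 = true := by
  decide +kernel

set_option maxRecDepth 1000000 in
theorem chkH_E7_72 : checkRange (checkH chevE7) 72 4 = true := by
  decide +kernel

set_option maxRecDepth 1000000 in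
theorem chkH_E7_76 : checkRange (checkH chevE7) 76 4 = true := by
  decide +kernel

set_option maxRecDepth 1000000 in
theorem chkH_E7_80 : checkRange (checkH chevE7) 80 4 = true := by
  decide +kernel

set_option maxRecDepth 1000000 in
theorem chkH_E7_84 : checkRange (checkH chevE7) 84 4 = true := by
  decide +kernel

set_option maxRecDepth 1000000 in
theorem chkH_E7_88 : checkRange (checkH chevE7) 88 4 = true := by
  decide +kernel

set_option maxRecDepth 1000000 in
theorem chkH_E7_92 : checkRange (checkH chevE7) 92 4 = true := by
  decide +kernel

end Cfsg.Agent.Lib.Helper5.ChevSym
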