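import Mathlib
import Cfsg.Prelude.Def_ChevE7
import Cfsg.Agent.Lib.Helper5.ChevSymH

set_option autoImplicit false

namespace Cfsg.Agent.Lib.Helper5.ChevSym

open Cfsg Cfsg.Lie

set_option maxRecDepth 1000000 in
theorem chkH_E7_96 : checkRange (checkH chevE7) 96 4 = true := by
  decide +kernel

set_option maxRecDepth 1000000 in
theorem chkH_E7_100 : checkRange (checkH chevE7) 100 4 = true := by
  decide +kernel

set_option maxRecDepth 1000000 in
theorem chkH_E7_104 : checkRange (checkH chevE7) 104 4 = true := by
  decide +kernel

set_option maxRecDepth 1000000 in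
theorem chkH_E7_108 : checkRange (checkH chevE7) 108 4 = true := by
  decide +kernel

set_option maxRecDepth 1000000 in
theorem chkH_E7_112 : checkRange (checkH chevE7) 112 4 = true := by
  decide +kernel

set_option maxRecDepth 1000000 in
theorem chkH_E7_116 : checkRange (checkH chevE7) 116 4 = true := by
  decide +kernel

set_option maxRecDepth 1000000 in
theorem chkH_E7_120 : checkRange (checkH chevE7) 120 4 = true := by
  decide +kernel

set_option maxRecDepth 1000000 in
theorem chkH_E7_124 : checkRange (checkH chevE7) 124 2 = true := by
  decide +kernel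

end Cfsg.Agent.Lib.Helper5.ChevSym
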