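import Mathlib
import Cfsg.Prelude.Def_ChevE7
import Cfsg.Agent.Lib.Helper5.ChevSymH
import Cfsg.Agent.Lib.Helper5.ChevChk.HE7_0
import Cfsg.Agent.Lib.Helper5.ChevChk.HE7_1
import Cfsg.Agent.Lib.Helper5.ChevChk.HE7_2
import Cfsg.Agent.Lib.Helper5.ChevChk.HE7_3

set_option autoImplicit false

namespace Cfsg.Agent.Lib.Helper5.ChevSym

open Cfsg Cfsg.Lie

theorem chkH_E7 (r : ℕ) (hr : r < 126) : checkH chevE7 r = true := by
  rcases Nat.lt_or_ge r 4 with h | h
  · exact of_checkRange chkH_E7_0 r (by omega) (by omega)
  rcases Nat.lt_or_ge r 8 with h | h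
  · exact of_checkRange chkH_E7_4 r (by omega) (by omega)
  rcases Nat.lt_or_ge r 12 with h | h
  · exact of_checkRange chkH_E7_8 r (by omega) (by omega)
  rcases Nat.lt_or_ge r 16 with h | h
  · exact of_checkRange chkH_E7_12 r (by omega) (by omega)
  rcases Nat.lt_or_ge r 20 with h | h
  · exact of_checkRange chkH_E7_16 r (by omega) (by omega)
  rcases Nat.lt_or_ge r 24 with h | h
  · exact of_checkRange chkH_E7_20 r (by omega) (by omega)
  rcases Nat.lt_or_ge r 28 with h | h
  · exact of_checkRange chkH_E7_24 r (by omega) (by omega)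
  rcases Nat.lt_or_ge r 32 with h | h
  · exact of_checkRange chkH_E7_28 r (by omega) (by omega)
  rcases Nat.lt_or_ge r 36 with h | h
  · exact of_checkRange chkH_E7_32 r (by omega) (by omega)
  rcases Nat.lt_or_ge r 40 with h | h
  · exact of_checkRange chkH_E7_36 r (by omega) (by omega)
  rcases Nat.lt_or_ge r 44 with h | h
  · exact of_checkRange chkH_E7_40 r (by omega) (by omega)
  rcases Nat.lt_or_ge r 48 with h | h
  · exact of_checkRange chkH_E7_44 r (by omega) (by omega)
  rcases Nat.lt_or_ge r 52 with h | h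
  · exact of_checkRange chkH_E7_48 r (by omega) (by omega)
  rcases Nat.lt_or_ge r 56 with h | h
  · exact of_checkRange chkH_E7_52 r (by omega) (by omega)
  rcases Nat.lt_or_ge r 60 with h | h
  · exact of_checkRange chkH_E7_56 r (by omega) (by omega)
  rcases Nat.lt_or_ge r 64 with h | h
  · exact of_checkRange chkH_E7_60 r (by omega) (by omega)
  rcases Nat.lt_or_ge r 68 with h | h
  · exact of_checkRange chkH_E7_64 r (by omega) (by omega)
  rcases Nat.lt_or_ge r 72 with h | h
  · exact of_checkRange chkH_E7_68 r (by omega) (by omega)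
  rcases Nat.lt_or_ge r 76 with h | h
  · exact of_checkRange chkH_E7_72 r (by omega) (by omega)
  rcases Nat.lt_or_ge r 80 with h | h
  · exact of_checkRange chkH_E7_76 r (by omega) (by omega)
  rcases Nat.lt_or_ge r 84 with h | h
  · exact of_checkRange chkH_E7_80 r (by omega) (by omega)
  rcases Nat.lt_or_ge r 88 with h | h
  · exact of_checkRange chkH_E7_84 r (by omega) (by omega)
  rcases Nat.lt_or_ge r 92 with h | h
  · exact of_checkRange chkH_E7_88 r (by omega) (by omega)
  rcases Nat.lt_or_ge r 96 with h | h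
  · exact of_checkRange chkH_E7_92 r (by omega) (by omega)
  rcases Nat.lt_or_ge r 100 with h | h
  · exact of_checkRange chkH_E7_96 r (by omega) (by omega)
  rcases Nat.lt_or_ge r 104 with h | h
  · exact of_checkRange chkH_E7_100 r (by omega) (by omega)
  rcases Nat.lt_or_ge r 108 with h | h
  · exact of_checkRange chkH_E7_104 r (by omega) (by omega)
  rcases Nat.lt_or_ge r 112 with h | h
  · exact of_checkRange chkH_E7_108 r (by omega) (by omega)
  rcases Nat.lt_or_ge r 116 with h | h
  · exact of_checkRange chkH_E7_112 r (by omega) (by omega)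
  rcases Nat.lt_or_ge r 120 with h | h
  · exact of_checkRange chkH_E7_116 r (by omega) (by omega)
  rcases Nat.lt_or_ge r 124 with h | h
  · exact of_checkRange chkH_E7_120 r (by omega) (by omega)
  rcases Nat.lt_or_ge r 126 with h | h
  · exact of_checkRange chkH_E7_124 r (by omega) (by omega)
  omega

end Cfsg.Agent.Lib.Helper5.ChevSym
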