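import Mathlib
import Cfsg.Prelude.Def_ChevE8
import Cfsg.Agent.Lib.Helper5.ChevSymH

set_option autoImplicit false

namespace Cfsg.Agent.Lib.Helper5.ChevSym

open Cfsg Cfsg.Lie

set_option maxRecDepth 1000000 in
theorem chkH_E8_0 : checkRange (checkH chevE8) 0 2 = true := by
  decide +kernel

set_option maxRecDepth 1000000 in
theorem chkH_E8_2 : checkRange (checkH chevE8) 2 2 = true := by
  decide +kernel

set_option maxRecDepth 1000000 in
theorem chkH_E8_4 : checkRange (checkH chevE8) 4 2 = true := by
  decide +kernel

set_option maxRecDepth 1000000 in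
theorem chkH_E8_6 : checkRange (checkH chevE8) 6 2 = true := by
  decide +kernel

set_option maxRecDepth 1000000 in
theorem chkH_E8_8 : checkRange (checkH chevE8) 8 2 = true := by
  decide +kernel

set_option maxRecDepth 1000000 in
theorem chkH_E8_10 : checkRange (checkH chevE8) 10 2 = true := by
  decide +kernel

set_option maxRecDepth 1000000 in
theorem chkH_E8_12 : checkRange (checkH chevE8) 12 2 = true := by
  decide +kernel

set_option maxRecDepth 1000000 in
theorem chkH_E8_14 : checkRange (checkH chevE8) 14 2 = true := by
  decide +kernel

set_option maxRecDepth 1000000 in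
theorem chkH_E8_16 : checkRange (checkH chevE8) 16 2 = true := by
  decide +kernel

set_option maxRecDepth 1000000 in
theorem chkH_E8_18 : checkRange (checkH chevE8) 18 2 = true := by
  decide +kernel

end Cfsg.Agent.Lib.Helper5.ChevSym
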