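import Mathlib
import Cfsg.Prelude.Def_ChevE8
import Cfsg.Agent.Lib.Helper5.ChevSymH

set_option autoImplicit false

namespace Cfsg.Agent.Lib.Helper5.ChevSym

open Cfsg Cfsg.Lie

set_option maxRecDepth 1000000 in
theorem chkH_E8_20 : checkRange (checkH chevE8) 20 2 = true := by
  decide +kernel

set_option maxRecDepth 1000000 in
theorem chkH_E8_22 : checkRange (checkH chevE8) 22 2 = true := by
  decide +kernel

set_option maxRecDepth 1000000 in
theorem chkH_E8_24 : checkRange (checkH chevE8) 24 2 = true := by
  decide +kernel

set_option maxRecDepth 1000000 in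
theorem chkH_E8_26 : checkRange (checkH chevE8) 26 2 = true := by
  decide +kernel

set_option maxRecDepth 1000000 in
theorem chkH_E8_28 : checkRange (checkH chevE8) 28 2 = true := by
  decide +kernel

set_option maxRecDepth 1000000 in
theorem chkH_E8_30 : checkRange (checkH chevE8) 30 2 = true := by
  decide +kernel

set_option maxRecDepth 1000000 in
theorem chkH_E8_32 : checkRange (checkH chevE8) 32 2 = true := by
  decide +kernel

set_option maxRecDepth 1000000 in
theorem chkH_E8_34 : checkRange (checkH chevE8) 34 2 = true := by
  decide +kernel

set_option maxRecDepth 1000000 in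
theorem chkH_E8_36 : checkRange (checkH chevE8) 36 2 = true := by
  decide +kernel

set_option maxRecDepth 1000000 in
theorem chkH_E8_38 : checkRange (checkH chevE8) 38 2 = true := by
  decide +kernel

end Cfsg.Agent.Lib.Helper5.ChevSym
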