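import Mathlib
import Cfsg.Prelude.Def_ChevE8
import Cfsg.Agent.Lib.Helper5.ChevSymH

set_option autoImplicit false

namespace Cfsg.Agent.Lib.Helper5.ChevSym

open Cfsg Cfsg.Lie

set_option maxRecDepth 1000000 in
theorem chkH_E8_220 : checkRange (checkH chevE8) 220 2 = true := by
  decide +kernel

set_option maxRecDepth 1000000 in
theorem chkH_E8_222 : checkRange (checkH chevE8) 222 2 = true := by
  decide +kernel

set_option maxRecDepth 1000000 in
theorem chkH_E8_224 : checkRange (checkH chevE8) 224 2 = true := by
  decide +kernel

set_option maxRecDepth 1000000 in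
theorem chkH_E8_226 : checkRange (checkH chevE8) 226 2 = true := by
  decide +kernel

set_option maxRecDepth 1000000 in
theorem chkH_E8_228 : checkRange (checkH chevE8) 228 2 = true := by
  decide +kernel

set_option maxRecDepth 1000000 in
theorem chkH_E8_230 : checkRange (checkH chevE8) 230 2 = true := by
  decide +kernel

set_option maxRecDepth 1000000 in
theorem chkH_E8_232 : checkRange (checkH chevE8) 232 2 = true := by
  decide +kernel

set_option maxRecDepth 1000000 in
theorem chkH_E8_234 : checkRange (checkH chevE8) 234 2 = true := by
  decide +kernel

set_option maxRecDepth 1000000 in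
theorem chkH_E8_236 : checkRange (checkH chevE8) 236 2 = true := by
  decide +kernel

set_option maxRecDepth 1000000 in
theorem chkH_E8_238 : checkRange (checkH chevE8) 238 2 = true := by
  decide +kernel

end Cfsg.Agent.Lib.Helper5.ChevSym
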