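import Mathlib
import Cfsg.Prelude.Def_ChevE8
import Cfsg.Agent.Lib.Helper5.ChevSymH

set_option autoImplicit false

namespace Cfsg.Agent.Lib.Helper5.ChevSym

open Cfsg Cfsg.Lie

set_option maxRecDepth 1000000 in
theorem chkH_E8_40 : checkRange (checkH chevE8) 40 2 = true := by
  decide +kernel

set_option maxRecDepth 1000000 in
theorem chkH_E8_42 : checkRange (checkH chevE8) 42 2 = true := by
  decide +kernel

set_option maxRecDepth 1000000 in
theorem chkH_E8_44 : checkRange (checkH chevE8) 44 2 = true := by
  decide +kernel

set_option maxRecDepth 1000000 in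
theorem chkH_E8_46 : checkRange (checkH chevE8) 46 2 = true := by
  decide +kernel

set_option maxRecDepth 1000000 in
theorem chkH_E8_48 : checkRange (checkH chevE8) 48 2 = true := by
  decide +kernel

set_option maxRecDepth 1000000 in
theorem chkH_E8_50 : checkRange (checkH chevE8) 50 2 = true := by
  decide +kernel

set_option maxRecDepth 1000000 in
theorem chkH_E8_52 : checkRange (checkH chevE8) 52 2 = true := by
  decide +kernel

set_option maxRecDepth 1000000 in
theorem chkH_E8_54 : checkRange (checkH chevE8) 54 2 = true := by
  decide +kernel

set_option maxRecDepth 1000000 in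
theorem chkH_E8_56 : checkRange (checkH chevE8) 56 2 = true := by
  decide +kernel

set_option maxRecDepth 1000000 in
theorem chkH_E8_58 : checkRange (checkH chevE8) 58 2 = true := by
  decide +kernel

end Cfsg.Agent.Lib.Helper5.ChevSym
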