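import Mathlib
import Cfsg.Prelude.Def_ChevE8
import Cfsg.Agent.Lib.Helper5.ChevSymH

set_option autoImplicit false

namespace Cfsg.Agent.Lib.Helper5.ChevSym

open Cfsg Cfsg.Lie

set_option maxRecDepth 1000000 in
theorem chkH_E8_60 : checkRange (checkH chevE8) 60 2 = true := by
  decide +kernel

set_option maxRecDepth 1000000 in
theorem chkH_E8_62 : checkRange (checkH chevE8) 62 2 = true := by
  decide +kernel

set_option maxRecDepth 1000000 in
theorem chkH_E8_64 : checkRange (checkH chevE8) 64 2 = true := by
  decide +kernel

set_option maxRecDepth 1000000 in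
theorem chkH_E8_66 : checkRange (checkH chevE8) 66 2 = true := by
  decide +kernel

set_option maxRecDepth 1000000 in
theorem chkH_E8_68 : checkRange (checkH chevE8) 68 2 = true := by
  decide +kernel

set_option maxRecDepth 1000000 in
theorem chkH_E8_70 : checkRange (checkH chevE8) 70 2 = true := by
  decide +kernel

set_option maxRecDepth 1000000 in
theorem chkH_E8_72 : checkRange (checkH chevE8) 72 2 = true := by
  decide +kernel

set_option maxRecDepth 1000000 in
theorem chkH_E8_74 : checkRange (checkH chevE8) 74 2 = true := by
  decide +kernel

set_option maxRecDepth 1000000 in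
theorem chkH_E8_76 : checkRange (checkH chevE8) 76 2 = true := by
  decide +kernel

set_option maxRecDepth 1000000 in
theorem chkH_E8_78 : checkRange (checkH chevE8) 78 2 = true := by
  decide +kernel

end Cfsg.Agent.Lib.Helper5.ChevSym
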