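import Mathlib
import Cfsg.Prelude.Def_ChevE8
import Cfsg.Agent.Lib.Helper5.ChevSymH

set_option autoImplicit false

namespace Cfsg.Agent.Lib.Helper5.ChevSym

open Cfsg Cfsg.Lie

set_option maxRecDepth 1000000 in
theorem chkH_E8_80 : checkRange (checkH chevE8) 80 2 = true := by
  decide +kernel

set_option maxRecDepth 1000000 in
theorem chkH_E8_82 : checkRange (checkH chevE8) 82 2 = true := by
  decide +kernel

set_option maxRecDepth 1000000 in
theorem chkH_E8_84 : checkRange (checkH chevE8) 84 2 = true := by
  decide +kernel

set_option maxRecDepth 1000000 in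
theorem chkH_E8_86 : checkRange (checkH chevE8) 86 2 = true := by
  decide +kernel

set_option maxRecDepth 1000000 in
theorem chkH_E8_88 : checkRange (checkH chevE8) 88 2 = true := by
  decide +kernel

set_option maxRecDepth 1000000 in
theorem chkH_E8_90 : checkRange (checkH chevE8) 90 2 = true := by
  decide +kernel

set_option maxRecDepth 1000000 in
theorem chkH_E8_92 : checkRange (checkH chevE8) 92 2 = true := by
  decide +kernel

set_option maxRecDepth 1000000 in
theorem chkH_E8_94 : checkRange (checkH chevE8) 94 2 = true := by
  decide +kernel

set_option maxRecDepth 1000000 in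
theorem chkH_E8_96 : checkRange (checkH chevE8) 96 2 = true := by
  decide +kernel

set_option maxRecDepth 1000000 in
theorem chkH_E8_98 : checkRange (checkH chevE8) 98 2 = true := by
  decide +kernel

end Cfsg.Agent.Lib.Helper5.ChevSym
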