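import Mathlib
import Cfsg.Prelude.Def_ChevE8
import Cfsg.Agent.Lib.Helper5.ChevSymH

set_option autoImplicit false

namespace Cfsg.Agent.Lib.Helper5.ChevSym

open Cfsg Cfsg.Lie

set_option maxRecDepth 1000000 in
theorem chkH_E8_100 : checkRange (checkH chevE8) 100 2 = true := by
  decide +kernel

set_option maxRecDepth 1000000 in
theorem chkH_E8_102 : checkRange (checkH chevE8) 102 2 = true := by
  decide +kernel

set_option maxRecDepth 1000000 in
theorem chkH_E8_104 : checkRange (checkH chevE8) 104 2 = true := by
  decide +kernel

set_option maxRecDepth 1000000 in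
theorem chkH_E8_106 : checkRange (checkH chevE8) 106 2 = true := by
  decide +kernel

set_option maxRecDepth 1000000 in
theorem chkH_E8_108 : checkRange (checkH chevE8) 108 2 = true := by
  decide +kernel

set_option maxRecDepth 1000000 in
theorem chkH_E8_110 : checkRange (checkH chevE8) 110 2 = true := by
  decide +kernel

set_option maxRecDepth 1000000 in
theorem chkH_E8_112 : checkRange (checkH chevE8) 112 2 = true := by
  decide +kernel

set_option maxRecDepth 1000000 in
theorem chkH_E8_114 : checkRange (checkH chevE8) 114 2 = true := by
  decide +kernel

set_option maxRecDepth 1000000 in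
theorem chkH_E8_116 : checkRange (checkH chevE8) 116 2 = true := by
  decide +kernel

set_option maxRecDepth 1000000 in
theorem chkH_E8_118 : checkRange (checkH chevE8) 118 2 = true := by
  decide +kernel

end Cfsg.Agent.Lib.Helper5.ChevSym
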