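import Mathlib
import Cfsg.Prelude.Def_ChevE8
import Cfsg.Agent.Lib.Helper5.ChevSymH

set_option autoImplicit false

namespace Cfsg.Agent.Lib.Helper5.ChevSym

open Cfsg Cfsg.Lie

set_option maxRecDepth 1000000 in
theorem chkH_E8_120 : checkRange (checkH chevE8) 120 2 = true := by
  decide +kernel

set_option maxRecDepth 1000000 in
theorem chkH_E8_122 : checkRange (checkH chevE8) 122 2 = true := by
  decide +kernel

set_option maxRecDepth 1000000 in
theorem chkH_E8_124 : checkRange (checkH chevE8) 124 2 = true := by
  decide +kernel

set_option maxRecDepth 1000000 in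
theorem chkH_E8_126 : checkRange (checkH chevE8) 126 2 = true := by
  decide +kernel

set_option maxRecDepth 1000000 in
theorem chkH_E8_128 : checkRange (checkH chevE8) 128 2 = true := by
  decide +kernel

set_option maxRecDepth 1000000 in
theorem chkH_E8_130 : checkRange (checkH chevE8) 130 2 = true := by
  decide +kernel

set_option maxRecDepth 1000000 in
theorem chkH_E8_132 : checkRange (checkH chevE8) 132 2 = true := by
  decide +kernel

set_option maxRecDepth 1000000 in
theorem chkH_E8_134 : checkRange (checkH chevE8) 134 2 = true := by
  decide +kernel

set_option maxRecDepth 1000000 in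
theorem chkH_E8_136 : checkRange (checkH chevE8) 136 2 = true := by
  decide +kernel

set_option maxRecDepth 1000000 in
theorem chkH_E8_138 : checkRange (checkH chevE8) 138 2 = true := by
  decide +kernel

end Cfsg.Agent.Lib.Helper5.ChevSym
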