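import Mathlib
import Cfsg.Prelude.Def_ChevE8
import Cfsg.Agent.Lib.Helper5.ChevSymH

set_option autoImplicit false

namespace Cfsg.Agent.Lib.Helper5.ChevSym

open Cfsg Cfsg.Lie

set_option maxRecDepth 1000000 in
theorem chkH_E8_140 : checkRange (checkH chevE8) 140 2 = true := by
  decide +kernel

set_option maxRecDepth 1000000 in
theorem chkH_E8_142 : checkRange (checkH chevE8) 142 2 = true := by
  decide +kernel

set_option maxRecDepth 1000000 in
theorem chkH_E8_144 : checkRange (checkH chevE8) 144 2 = true := by
  decide +kernel

set_option maxRecDepth 1000000 in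
theorem chkH_E8_146 : checkRange (checkH chevE8) 146 2 = true := by
  decide +kernel

set_option maxRecDepth 1000000 in
theorem chkH_E8_148 : checkRange (checkH chevE8) 148 2 = true := by
  decide +kernel

set_option maxRecDepth 1000000 in
theorem chkH_E8_150 : checkRange (checkH chevE8) 150 2 = true := by
  decide +kernel

set_option maxRecDepth 1000000 in
theorem chkH_E8_152 : checkRange (checkH chevE8) 152 2 = true := by
  decide +kernel

set_option maxRecDepth 1000000 in
theorem chkH_E8_154 : checkRange (checkH chevE8) 154 2 = true := by
  decide +kernel

set_option maxRecDepth 1000000 in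
theorem chkH_E8_156 : checkRange (checkH chevE8) 156 2 = true := by
  decide +kernel

set_option maxRecDepth 1000000 in
theorem chkH_E8_158 : checkRange (checkH chevE8) 158 2 = true := by
  decide +kernel

end Cfsg.Agent.Lib.Helper5.ChevSym
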