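import Mathlib
import Cfsg.Prelude.Def_ChevE8
import Cfsg.Agent.Lib.Helper5.ChevSymH

set_option autoImplicit false

namespace Cfsg.Agent.Lib.Helper5.ChevSym

open Cfsg Cfsg.Lie

set_option maxRecDepth 1000000 in
theorem chkH_E8_160 : checkRange (checkH chevE8) 160 2 = true := by
  decide +kernel

set_option maxRecDepth 1000000 in
theorem chkH_E8_162 : checkRange (checkH chevE8) 162 2 = true := by
  decide +kernel

set_option maxRecDepth 1000000 in
theorem chkH_E8_164 : checkRange (checkH chevE8) 164 2 = true := by
  decide +kernel

set_option maxRecDepth 1000000 in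
theorem chkH_E8_166 : checkRange (checkH chevE8) 166 2 = true := by
  decide +kernel

set_option maxRecDepth 1000000 in
theorem chkH_E8_168 : checkRange (checkH chevE8) 168 2 = true := by
  decide +kernel

set_option maxRecDepth 1000000 in
theorem chkH_E8_170 : checkRange (checkH chevE8) 170 2 = true := by
  decide +kernel

set_option maxRecDepth 1000000 in
theorem chkH_E8_172 : checkRange (checkH chevE8) 172 2 = true := by
  decide +kernel

set_option maxRecDepth 1000000 in
theorem chkH_E8_174 : checkRange (checkH chevE8) 174 2 = true := by
  decide +kernel

set_option maxRecDepth 1000000 in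
theorem chkH_E8_176 : checkRange (checkH chevE8) 176 2 = true := by
  decide +kernel

set_option maxRecDepth 1000000 in
theorem chkH_E8_178 : checkRange (checkH chevE8) 178 2 = true := by
  decide +kernel

end Cfsg.Agent.Lib.Helper5.ChevSym
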