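import Mathlib
import Cfsg.Prelude.Def_ChevE8
import Cfsg.Agent.Lib.Helper5.ChevSymH

set_option autoImplicit false

namespace Cfsg.Agent.Lib.Helper5.ChevSym

open Cfsg Cfsg.Lie

set_option maxRecDepth 1000000 in
theorem chkH_E8_180 : checkRange (checkH chevE8) 180 2 = true := by
  decide +kernel

set_option maxRecDepth 1000000 in
theorem chkH_E8_182 : checkRange (checkH chevE8) 182 2 = true := by
  decide +kernel

set_option maxRecDepth 1000000 in
theorem chkH_E8_184 : checkRange (checkH chevE8) 184 2 = true := by
  decide +kernel

set_option maxRecDepth 1000000 in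
theorem chkH_E8_186 : checkRange (checkH chevE8) 186 2 = true := by
  decide +kernel

set_option maxRecDepth 1000000 in
theorem chkH_E8_188 : checkRange (checkH chevE8) 188 2 = true := by
  decide +kernel

set_option maxRecDepth 1000000 in
theorem chkH_E8_190 : checkRange (checkH chevE8) 190 2 = true := by
  decide +kernel

set_option maxRecDepth 1000000 in
theorem chkH_E8_192 : checkRange (checkH chevE8) 192 2 = true := by
  decide +kernel

set_option maxRecDepth 1000000 in
theorem chkH_E8_194 : checkRange (checkH chevE8) 194 2 = true := by
  decide +kernel

set_option maxRecDepth 1000000 in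
theorem chkH_E8_196 : checkRange (checkH chevE8) 196 2 = true := by
  decide +kernel

set_option maxRecDepth 1000000 in
theorem chkH_E8_198 : checkRange (checkH chevE8) 198 2 = true := by
  decide +kernel

end Cfsg.Agent.Lib.Helper5.ChevSym
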