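import Mathlib
import Cfsg.Prelude.Def_ChevE8
import Cfsg.Agent.Lib.Helper5.ChevSymH
import Cfsg.Agent.Lib.Helper5.ChevChk.HE8_0
import Cfsg.Agent.Lib.Helper5.ChevChk.HE8_1
import Cfsg.Agent.Lib.Helper5.ChevChk.HE8_2
import Cfsg.Agent.Lib.Helper5.ChevChk.HE8_3
import Cfsg.Agent.Lib.Helper5.ChevChk.HE8_4
import Cfsg.Agent.Lib.Helper5.ChevChk.HE8_5
import Cfsg.Agent.Lib.Helper5.ChevChk.HE8_6
import Cfsg.Agent.Lib.Helper5.ChevChk.HE8_7
import Cfsg.Agent.Lib.Helper5.ChevChk.HE8_8
import Cfsg.Agent.Lib.Helper5.ChevChk.HE8_9
import Cfsg.Agent.Lib.Helper5.ChevChk.HE8_10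
import Cfsg.Agent.Lib.Helper5.ChevChk.HE8_11

set_option autoImplicit false

namespace Cfsg.Agent.Lib.Helper5.ChevSym

open Cfsg Cfsg.Lie

theorem chkH_E8 (r : ℕ) (hr : r < 240) : checkH chevE8 r = true := by
  rcases Nat.lt_or_ge r 2 with h | h
  · exact of_checkRange chkH_E8_0 r (by omega) (by omega)
  rcases Nat.lt_or_ge r 4 with h | h
  · exact of_checkRange chkH_E8_2 r (by omega) (by omega)
  rcases Nat.lt_or_ge r 6 with h | h
  · exact of_checkRange chkH_E8_4 r (by omega) (by omega)
  rcases Nat.lt_or_ge r 8 with h | h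
  · exact of_checkRange chkH_E8_6 r (by omega) (by omega)
  rcases Nat.lt_or_ge r 10 with h | h
  · exact of_checkRange chkH_E8_8 r (by omega) (by omega)
  rcases Nat.lt_or_ge r 12 with h | h
  · exact of_checkRange chkH_E8_10 r (by omega) (by omega)
  rcases Nat.lt_or_ge r 14 with h | h
  · exact of_checkRange chkH_E8_12 r (by omega) (by omega)
  rcases Nat.lt_or_ge r 16 with h | h
  · exact of_checkRange chkH_E8_14 r (by omega) (by omega)
  rcases Nat.lt_or_ge r 18 with h | h
  · exact of_checkRange chkH_E8_16 r (by omega) (by omega)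
  rcases Nat.lt_or_ge r 20 with h | h
  · exact of_checkRange chkH_E8_18 r (by omega) (by omega)
  rcases Nat.lt_or_ge r 22 with h | h
  · exact of_checkRange chkH_E8_20 r (by omega) (by omega)
  rcases Nat.lt_or_ge r 24 with h | h
  · exact of_checkRange chkH_E8_22 r (by omega) (by omega)
  rcases Nat.lt_or_ge r 26 with h | h
  · exact of_checkRange chkH_E8_24 r (by omega) (by omega)
  rcases Nat.lt_or_ge r 28 with h | h
  · exact of_checkRange chkH_E8_26 r (by omega) (by omega)
  rcases Nat.lt_or_ge r 30 with h | h
  · exact of_checkRange chkH_E8_28 r (by omega) (by omega)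
  rcases Nat.lt_or_ge r 32 with h | h
  · exact of_checkRange chkH_E8_30 r (by omega) (by omega)
  rcases Nat.lt_or_ge r 34 with h | h
  · exact of_checkRange chkH_E8_32 r (by omega) (by omega)
  rcases Nat.lt_or_ge r 36 with h | h
  · exact of_checkRange chkH_E8_34 r (by omega) (by omega)
  rcases Nat.lt_or_ge r 38 with h | h
  · exact of_checkRange chkH_E8_36 r (by omega) (by omega)
  rcases Nat.lt_or_ge r 40 with h | h
  · exact of_checkRange chkH_E8_38 r (by omega) (by omega)
  rcases Nat.lt_or_ge r 42 with h | h
  · exact of_checkRange chkH_E8_40 r (by omega) (by omega)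
  rcases Nat.lt_or_ge r 44 with h | h
  · exact of_checkRange chkH_E8_42 r (by omega) (by omega)
  rcases Nat.lt_or_ge r 46 with h | h
  · exact of_checkRange chkH_E8_44 r (by omega) (by omega)
  rcases Nat.lt_or_ge r 48 with h | h
  · exact of_checkRange chkH_E8_46 r (by omega) (by omega)
  rcases Nat.lt_or_ge r 50 with h | h
  · exact of_checkRange chkH_E8_48 r (by omega) (by omega)
  rcases Nat.lt_or_ge r 52 with h | h
  · exact of_checkRange chkH_E8_50 r (by omega) (by omega)
  rcases Nat.lt_or_ge r 54 with h | h
  · exact of_checkRange chkH_E8_52 r (by omega) (by omega)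
  rcases Nat.lt_or_ge r 56 with h | h
  · exact of_checkRange chkH_E8_54 r (by omega) (by omega)
  rcases Nat.lt_or_ge r 58 with h | h
  · exact of_checkRange chkH_E8_56 r (by omega) (by omega)
  rcases Nat.lt_or_ge r 60 with h | h
  · exact of_checkRange chkH_E8_58 r (by omega) (by omega)
  rcases Nat.lt_or_ge r 62 with h | h
  · exact of_checkRange chkH_E8_60 r (by omega) (by omega)
  rcases Nat.lt_or_ge r 64 with h | h
  · exact of_checkRange chkH_E8_62 r (by omega) (by omega)
  rcases Nat.lt_or_ge r 66 with h | h
  · exact of_checkRange chkH_E8_64 r (by omega) (by omega)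
  rcases Nat.lt_or_ge r 68 with h | h
  · exact of_checkRange chkH_E8_66 r (by omega) (by omega)
  rcases Nat.lt_or_ge r 70 with h | h
  · exact of_checkRange chkH_E8_68 r (by omega) (by omega)
  rcases Nat.lt_or_ge r 72 with h | h
  · exact of_checkRange chkH_E8_70 r (by omega) (by omega)
  rcases Nat.lt_or_ge r 74 with h | h
  · exact of_checkRange chkH_E8_72 r (by omega) (by omega)
  rcases Nat.lt_or_ge r 76 with h | h
  · exact of_checkRange chkH_E8_74 r (by omega) (by omega)
  rcases Nat.lt_or_ge r 78 with h | h
  · exact of_checkRange chkH_E8_76 r (by omega) (by omega)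
  rcases Nat.lt_or_ge r 80 with h | h
  · exact of_checkRange chkH_E8_78 r (by omega) (by omega)
  rcases Nat.lt_or_ge r 82 with h | h
  · exact of_checkRange chkH_E8_80 r (by omega) (by omega)
  rcases Nat.lt_or_ge r 84 with h | h
  · exact of_checkRange chkH_E8_82 r (by omega) (by omega)
  rcases Nat.lt_or_ge r 86 with h | h
  · exact of_checkRange chkH_E8_84 r (by omega) (by omega)
  rcases Nat.lt_or_ge r 88 with h | h
  · exact of_checkRange chkH_E8_86 r (by omega) (by omega)
  rcases Nat.lt_or_ge r 90 with h | h
  · exact of_checkRange chkH_E8_88 r (by omega) (by omega)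
  rcases Nat.lt_or_ge r 92 with h | h
  · exact of_checkRange chkH_E8_90 r (by omega) (by omega)
  rcases Nat.lt_or_ge r 94 with h | h
  · exact of_checkRange chkH_E8_92 r (by omega) (by omega)
  rcases Nat.lt_or_ge r 96 with h | h
  · exact of_checkRange chkH_E8_94 r (by omega) (by omega)
  rcases Nat.lt_or_ge r 98 with h | h
  · exact of_checkRange chkH_E8_96 r (by omega) (by omega)
  rcases Nat.lt_or_ge r 100 with h | h
  · exact of_checkRange chkH_E8_98 r (by omega) (by omega)
  rcases Nat.lt_or_ge r 102 with h | h
  · exact of_checkRange chkH_E8_100 r (by omega) (by omega)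
  rcases Nat.lt_or_ge r 104 with h | h
  · exact of_checkRange chkH_E8_102 r (by omega) (by omega)
  rcases Nat.lt_or_ge r 106 with h | h
  · exact of_checkRange chkH_E8_104 r (by omega) (by omega)
  rcases Nat.lt_or_ge r 108 with h | h
  · exact of_checkRange chkH_E8_106 r (by omega) (by omega)
  rcases Nat.lt_or_ge r 110 with h | h
  · exact of_checkRange chkH_E8_108 r (by omega) (by omega)
  rcases Nat.lt_or_ge r 112 with h | h
  · exact of_checkRange chkH_E8_110 r (by omega) (by omega)
  rcases Nat.lt_or_ge r 114 with h | h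
  · exact of_checkRange chkH_E8_112 r (by omega) (by omega)
  rcases Nat.lt_or_ge r 116 with h | h
  · exact of_checkRange chkH_E8_114 r (by omega) (by omega)
  rcases Nat.lt_or_ge r 118 with h | h
  · exact of_checkRange chkH_E8_116 r (by omega) (by omega)
  rcases Nat.lt_or_ge r 120 with h | h
  · exact of_checkRange chkH_E8_118 r (by omega) (by omega)
  rcases Nat.lt_or_ge r 122 with h | h
  · exact of_checkRange chkH_E8_120 r (by omega) (by omega)
  rcases Nat.lt_or_ge r 124 with h | h
  · exact of_checkRange chkH_E8_122 r (by omega) (by omega)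
  rcases Nat.lt_or_ge r 126 with h | h
  · exact of_checkRange chkH_E8_124 r (by omega) (by omega)
  rcases Nat.lt_or_ge r 128 with h | h
  · exact of_checkRange chkH_E8_126 r (by omega) (by omega)
  rcases Nat.lt_or_ge r 130 with h | h
  · exact of_checkRange chkH_E8_128 r (by omega) (by omega)
  rcases Nat.lt_or_ge r 132 with h | h
  · exact of_checkRange chkH_E8_130 r (by omega) (by omega)
  rcases Nat.lt_or_ge r 134 with h | h
  · exact of_checkRange chkH_E8_132 r (by omega) (by omega)
  rcases Nat.lt_or_ge r 136 with h | h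
  · exact of_checkRange chkH_E8_134 r (by omega) (by omega)
  rcases Nat.lt_or_ge r 138 with h | h
  · exact of_checkRange chkH_E8_136 r (by omega) (by omega)
  rcases Nat.lt_or_ge r 140 with h | h
  · exact of_checkRange chkH_E8_138 r (by omega) (by omega)
  rcases Nat.lt_or_ge r 142 with h | h
  · exact of_checkRange chkH_E8_140 r (by omega) (by omega)
  rcases Nat.lt_or_ge r 144 with h | h
  · exact of_checkRange chkH_E8_142 r (by omega) (by omega)
  rcases Nat.lt_or_ge r 146 with h | h
  · exact of_checkRange chkH_E8_144 r (by omega) (by omega)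
  rcases Nat.lt_or_ge r 148 with h | h
  · exact of_checkRange chkH_E8_146 r (by omega) (by omega)
  rcases Nat.lt_or_ge r 150 with h | h
  · exact of_checkRange chkH_E8_148 r (by omega) (by omega)
  rcases Nat.lt_or_ge r 152 with h | h
  · exact of_checkRange chkH_E8_150 r (by omega) (by omega)
  rcases Nat.lt_or_ge r 154 with h | h
  · exact of_checkRange chkH_E8_152 r (by omega) (by omega)
  rcases Nat.lt_or_ge r 156 with h | h
  · exact of_checkRange chkH_E8_154 r (by omega) (by omega)
  rcases Nat.lt_or_ge r 158 with h | h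
  · exact of_checkRange chkH_E8_156 r (by omega) (by omega)
  rcases Nat.lt_or_ge r 160 with h | h
  · exact of_checkRange chkH_E8_158 r (by omega) (by omega)
  rcases Nat.lt_or_ge r 162 with h | h
  · exact of_checkRange chkH_E8_160 r (by omega) (by omega)
  rcases Nat.lt_or_ge r 164 with h | h
  · exact of_checkRange chkH_E8_162 r (by omega) (by omega)
  rcases Nat.lt_or_ge r 166 with h | h
  · exact of_checkRange chkH_E8_164 r (by omega) (by omega)
  rcases Nat.lt_or_ge r 168 with h | h
  · exact of_checkRange chkH_E8_166 r (by omega) (by omega)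
  rcases Nat.lt_or_ge r 170 with h | h
  · exact of_checkRange chkH_E8_168 r (by omega) (by omega)
  rcases Nat.lt_or_ge r 172 with h | h
  · exact of_checkRange chkH_E8_170 r (by omega) (by omega)
  rcases Nat.lt_or_ge r 174 with h | h
  · exact of_checkRange chkH_E8_172 r (by omega) (by omega)
  rcases Nat.lt_or_ge r 176 with h | h
  · exact of_checkRange chkH_E8_174 r (by omega) (by omega)
  rcases Nat.lt_or_ge r 178 with h | h
  · exact of_checkRange chkH_E8_176 r (by omega) (by omega)
  rcases Nat.lt_or_ge r 180 with h | h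
  · exact of_checkRange chkH_E8_178 r (by omega) (by omega)
  rcases Nat.lt_or_ge r 182 with h | h
  · exact of_checkRange chkH_E8_180 r (by omega) (by omega)
  rcases Nat.lt_or_ge r 184 with h | h
  · exact of_checkRange chkH_E8_182 r (by omega) (by omega)
  rcases Nat.lt_or_ge r 186 with h | h
  · exact of_checkRange chkH_E8_184 r (by omega) (by omega)
  rcases Nat.lt_or_ge r 188 with h | h
  · exact of_checkRange chkH_E8_186 r (by omega) (by omega)
  rcases Nat.lt_or_ge r 190 with h | h
  · exact of_checkRange chkH_E8_188 r (by omega) (by omega)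
  rcases Nat.lt_or_ge r 192 with h | h
  · exact of_checkRange chkH_E8_190 r (by omega) (by omega)
  rcases Nat.lt_or_ge r 194 with h | h
  · exact of_checkRange chkH_E8_192 r (by omega) (by omega)
  rcases Nat.lt_or_ge r 196 with h | h
  · exact of_checkRange chkH_E8_194 r (by omega) (by omega)
  rcases Nat.lt_or_ge r 198 with h | h
  · exact of_checkRange chkH_E8_196 r (by omega) (by omega)
  rcases Nat.lt_or_ge r 200 with h | h
  · exact of_checkRange chkH_E8_198 r (by omega) (by omega)
  rcases Nat.lt_or_ge r 202 with h | h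
  · exact of_checkRange chkH_E8_200 r (by omega) (by omega)
  rcases Nat.lt_or_ge r 204 with h | h
  · exact of_checkRange chkH_E8_202 r (by omega) (by omega)
  rcases Nat.lt_or_ge r 206 with h | h
  · exact of_checkRange chkH_E8_204 r (by omega) (by omega)
  rcases Nat.lt_or_ge r 208 with h | h
  · exact of_checkRange chkH_E8_206 r (by omega) (by omega)
  rcases Nat.lt_or_ge r 210 with h | h
  · exact of_checkRange chkH_E8_208 r (by omega) (by omega)
  rcases Nat.lt_or_ge r 212 with h | h
  · exact of_checkRange chkH_E8_210 r (by omega) (by omega)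
  rcases Nat.lt_or_ge r 214 with h | h
  · exact of_checkRange chkH_E8_212 r (by omega) (by omega)
  rcases Nat.lt_or_ge r 216 with h | h
  · exact of_checkRange chkH_E8_214 r (by omega) (by omega)
  rcases Nat.lt_or_ge r 218 with h | h
  · exact of_checkRange chkH_E8_216 r (by omega) (by omega)
  rcases Nat.lt_or_ge r 220 with h | h
  · exact of_checkRange chkH_E8_218 r (by omega) (by omega)
  rcases Nat.lt_or_ge r 222 with h | h
  · exact of_checkRange chkH_E8_220 r (by omega) (by omega)
  rcases Nat.lt_or_ge r 224 with h | h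
  · exact of_checkRange chkH_E8_222 r (by omega) (by omega)
  rcases Nat.lt_or_ge r 226 with h | h
  · exact of_checkRange chkH_E8_224 r (by omega) (by omega)
  rcases Nat.lt_or_ge r 228 with h | h
  · exact of_checkRange chkH_E8_226 r (by omega) (by omega)
  rcases Nat.lt_or_ge r 230 with h | h
  · exact of_checkRange chkH_E8_228 r (by omega) (by omega)
  rcases Nat.lt_or_ge r 232 with h | h
  · exact of_checkRange chkH_E8_230 r (by omega) (by omega)
  rcases Nat.lt_or_ge r 234 with h | h
  · exact of_checkRange chkH_E8_232 r (by omega) (by omega)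
  rcases Nat.lt_or_ge r 236 with h | h
  · exact of_checkRange chkH_E8_234 r (by omega) (by omega)
  rcases Nat.lt_or_ge r 238 with h | h
  · exact of_checkRange chkH_E8_236 r (by omega) (by omega)
  rcases Nat.lt_or_ge r 240 with h | h
  · exact of_checkRange chkH_E8_238 r (by omega) (by omega)
  omega

end Cfsg.Agent.Lib.Helper5.ChevSym
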