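import Mathlib
import Cfsg.Prelude.Def_ChevF4
import Cfsg.Agent.Lib.Helper5.ChevSymH

set_option autoImplicit false

namespace Cfsg.Agent.Lib.Helper5.ChevSym

open Cfsg Cfsg.Lie

set_option maxRecDepth 1000000 in
theorem chkH_F4_0 : checkRange (checkH chevF4) 0 6 = true := by
  decide +kernel

set_option maxRecDepth 1000000 in
theorem chkH_F4_6 : checkRange (checkH chevF4) 6 6 = true := by
  decide +kernel

set_option maxRecDepth 1000000 in
theorem chkH_F4_12 : checkRange (checkH chevF4) 12 6 = true := by
  decide +kernel

set_option maxRecDepth 1000000 in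
theorem chkH_F4_18 : checkRange (checkH chevF4) 18 6 = true := by
  decide +kernel

set_option maxRecDepth 1000000 in
theorem chkH_F4_24 : checkRange (checkH chevF4) 24 6 = true := by
  decide +kernel

set_option maxRecDepth 1000000 in
theorem chkH_F4_30 : checkRange (checkH chevF4) 30 6 = true := by
  decide +kernel

set_option maxRecDepth 1000000 in
theorem chkH_F4_36 : checkRange (checkH chevF4) 36 6 = true := by
  decide +kernel

set_option maxRecDepth 1000000 in
theorem chkH_F4_42 : checkRange (checkH chevF4) 42 6 = true := by
  decide +kernel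

end Cfsg.Agent.Lib.Helper5.ChevSym
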