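import Mathlib
import Cfsg.Agent.Lib.Helper5.ChevChk.HG2
import Cfsg.Agent.Lib.Helper5.ChevChk.HB2
import Cfsg.Agent.Lib.Helper5.ChevChk.HD4
import Cfsg.Agent.Lib.Helper5.ChevChk.HF4
import Cfsg.Agent.Lib.Helper5.ChevChk.HE6
import Cfsg.Agent.Lib.Helper5.ChevChk.HE7
import Cfsg.Agent.Lib.Helper5.ChevChk.HE8

set_option autoImplicit false

namespace Cfsg.Agent.Lib.Helper5.ChevSym

open Cfsg Cfsg.Lie

theorem chkH_all (D : ChevalleyDatum)
    (hD : D ∈ [chevG2, chevB2, chevD4, chevF4, chevE6, chevE7, chevE8]) (r : ℕ)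
    (hr : r < D.nroots) : checkH D r = true := by
  simp only [List.mem_cons, List.not_mem_nil, or_false] at hD
  rcases hD with rfl | rfl | rfl | rfl | rfl | rfl | rfl
  · exact chkH_G2 r hr
  · exact chkH_B2 r hr
  · exact chkH_D4 r hr
  · exact chkH_F4 r hr
  · exact chkH_E6 r hr
  · exact chkH_E7 r hr
  · exact chkH_E8 r hr

/-- `h_r(t)` is the diagonal matrix with entries `1` on the Cartan part and `t^{A(r,s)}` on `e_s`. -/
theorem hMat_diag {F : Type*} [Field F] (D : ChevalleyDatum)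
    (hD : D ∈ [chevG2, chevB2, chevD4, chevF4, chevE6, chevE7, chevE8]) (r : ℕ)
    (hr : r < D.nroots) (t : F) (ht : t ≠ 0) :
    D.hMat F r t = Matrix.diagonal
      (Sum.elim (fun _ => (1 : F)) (fun s : Fin D.nroots => t ^ ((cartanRow D r).getD s.val 0))) :=
  hMat_eq_of_check D r (chkH_all D hD r hr) t ht

end Cfsg.Agent.Lib.Helper5.ChevSym
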