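import Mathlib
import Cfsg.Agent.Lib.Helper5.ChevChk.UpG2
import Cfsg.Agent.Lib.Helper5.ChevChk.UpB2
import Cfsg.Agent.Lib.Helper5.ChevChk.UpD4
import Cfsg.Agent.Lib.Helper5.ChevChk.UpF4
import Cfsg.Agent.Lib.Helper5.ChevChk.UpE6
import Cfsg.Agent.Lib.Helper5.ChevChk.UpE7
import Cfsg.Agent.Lib.Helper5.ChevChk.UpE8

set_option autoImplicit false

namespace Cfsg.Agent.Lib.Helper5.ChevSym

open Cfsg Cfsg.Lie

theorem chkUp_all (D : ChevalleyDatum)
    (hD : D ∈ [chevG2, chevB2, chevD4, chevF4, chevE6, chevE7, chevE8]) (i : ℕ) (hi : i < D.rank) :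
    checkUp D i = true := by
  simp only [List.mem_cons, List.not_mem_nil, or_false] at hD
  rcases hD with rfl | rfl | rfl | rfl | rfl | rfl | rfl
  · exact chkUp_G2 i hi
  · exact chkUp_B2 i hi
  · exact chkUp_D4 i hi
  · exact chkUp_F4 i hi
  · exact chkUp_E6 i hi
  · exact chkUp_E7 i hi
  · exact chkUp_E8 i hi

end Cfsg.Agent.Lib.Helper5.ChevSym
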