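import Mathlib
import Cfsg.Prelude.Def_ChevB2
import Cfsg.Agent.Lib.Helper5.ChevSymComm

set_option autoImplicit false

namespace Cfsg.Agent.Lib.Helper5.ChevSym

open Cfsg Cfsg.Lie

set_option maxRecDepth 1000000 in
theorem chkComm_B2_0 : checkCommRow chevB2 0 0 8 = true := by
  decide +kernel

set_option maxRecDepth 1000000 in
theorem chkComm_B2_1 : checkCommRow chevB2 1 0 8 = true := by
  decide +kernel

set_option maxRecDepth 1000000 in
theorem chkComm_B2_2 : checkCommRow chevB2 2 0 8 = true := by
  decide +kernel

set_option maxRecDepth 1000000 in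
theorem chkComm_B2_3 : checkCommRow chevB2 3 0 8 = true := by
  decide +kernel

set_option maxRecDepth 1000000 in
theorem chkComm_B2_4 : checkCommRow chevB2 4 0 8 = true := by
  decide +kernel

set_option maxRecDepth 1000000 in
theorem chkComm_B2_5 : checkCommRow chevB2 5 0 8 = true := by
  decide +kernel

set_option maxRecDepth 1000000 in
theorem chkComm_B2_6 : checkCommRow chevB2 6 0 8 = true := by
  decide +kernel

set_option maxRecDepth 1000000 in
theorem chkComm_B2_7 : checkCommRow chevB2 7 0 8 = true := by
  decide +kernel

end Cfsg.Agent.Lib.Helper5.ChevSym
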