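import Mathlib
import Cfsg.Prelude.Def_ChevB2
import Cfsg.Agent.Lib.Helper5.ChevSymComm
import Cfsg.Agent.Lib.Helper5.ChevChk.CommB2_0

set_option autoImplicit false

namespace Cfsg.Agent.Lib.Helper5.ChevSym

open Cfsg Cfsg.Lie

theorem chkComm_B2 (r : ℕ) (hr : r < 8) : checkCommRow chevB2 r 0 8 = true := by
  interval_cases r
  · exact chkComm_B2_0
  · exact chkComm_B2_1
  · exact chkComm_B2_2
  · exact chkComm_B2_3
  · exact chkComm_B2_4
  · exact chkComm_B2_5
  · exact chkComm_B2_6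
  · exact chkComm_B2_7

end Cfsg.Agent.Lib.Helper5.ChevSym
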