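import Mathlib
import Cfsg.Prelude.Def_ChevD4
import Cfsg.Agent.Lib.Helper5.ChevSymComm

set_option autoImplicit false

namespace Cfsg.Agent.Lib.Helper5.ChevSym

open Cfsg Cfsg.Lie

set_option maxRecDepth 1000000 in
theorem chkComm_D4_0 : checkCommRow chevD4 0 0 24 = true := by
  decide +kernel

set_option maxRecDepth 1000000 in
theorem chkComm_D4_1 : checkCommRow chevD4 1 0 24 = true := by
  decide +kernel

set_option maxRecDepth 1000000 in
theorem chkComm_D4_2 : checkCommRow chevD4 2 0 24 = true := by
  decide +kernel

set_option maxRecDepth 1000000 in
theorem chkComm_D4_3 : checkCommRow chevD4 3 0 24 = true := by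
  decide +kernel

set_option maxRecDepth 1000000 in
theorem chkComm_D4_4 : checkCommRow chevD4 4 0 24 = true := by
  decide +kernel

set_option maxRecDepth 1000000 in
theorem chkComm_D4_5 : checkCommRow chevD4 5 0 24 = true := by
  decide +kernel

set_option maxRecDepth 1000000 in
theorem chkComm_D4_6 : checkCommRow chevD4 6 0 24 = true := by
  decide +kernel

set_option maxRecDepth 1000000 in
theorem chkComm_D4_7 : checkCommRow chevD4 7 0 24 = true := by
  decide +kernel

set_option maxRecDepth 1000000 in
theorem chkComm_D4_8 : checkCommRow chevD4 8 0 24 = true := by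
  decide +kernel

set_option maxRecDepth 1000000 in
theorem chkComm_D4_9 : checkCommRow chevD4 9 0 24 = true := by
  decide +kernel

set_option maxRecDepth 1000000 in
theorem chkComm_D4_10 : checkCommRow chevD4 10 0 24 = true := by
  decide +kernel

set_option maxRecDepth 1000000 in
theorem chkComm_D4_11 : checkCommRow chevD4 11 0 24 = true := by
  decide +kernel

set_option maxRecDepth 1000000 in
theorem chkComm_D4_12 : checkCommRow chevD4 12 0 24 = true := by
  decide +kernel

set_option maxRecDepth 1000000 in
theorem chkComm_D4_13 : checkCommRow chevD4 13 0 24 = true := by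
  decide +kernel

set_option maxRecDepth 1000000 in
theorem chkComm_D4_14 : checkCommRow chevD4 14 0 24 = true := by
  decide +kernel

set_option maxRecDepth 1000000 in
theorem chkComm_D4_15 : checkCommRow chevD4 15 0 24 = true := by
  decide +kernel

set_option maxRecDepth 1000000 in
theorem chkComm_D4_16 : checkCommRow chevD4 16 0 24 = true := by
  decide +kernel

set_option maxRecDepth 1000000 in
theorem chkComm_D4_17 : checkCommRow chevD4 17 0 24 = true := by
  decide +kernel

set_option maxRecDepth 1000000 in
theorem chkComm_D4_18 : checkCommRow chevD4 18 0 24 = true := by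
  decide +kernel

set_option maxRecDepth 1000000 in
theorem chkComm_D4_19 : checkCommRow chevD4 19 0 24 = true := by
  decide +kernel

set_option maxRecDepth 1000000 in
theorem chkComm_D4_20 : checkCommRow chevD4 20 0 24 = true := by
  decide +kernel

set_option maxRecDepth 1000000 in
theorem chkComm_D4_21 : checkCommRow chevD4 21 0 24 = true := by
  decide +kernel

set_option maxRecDepth 1000000 in
theorem chkComm_D4_22 : checkCommRow chevD4 22 0 24 = true := by
  decide +kernel

set_option maxRecDepth 1000000 in
theorem chkComm_D4_23 : checkCommRow chevD4 23 0 24 = true := by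
  decide +kernel

end Cfsg.Agent.Lib.Helper5.ChevSym
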