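import Mathlib
import Cfsg.Prelude.Def_ChevD4
import Cfsg.Agent.Lib.Helper5.ChevSymComm
import Cfsg.Agent.Lib.Helper5.ChevChk.CommD4_0

set_option autoImplicit false

namespace Cfsg.Agent.Lib.Helper5.ChevSym

open Cfsg Cfsg.Lie

theorem chkComm_D4 (r : ℕ) (hr : r < 24) : checkCommRow chevD4 r 0 24 = true := by
  interval_cases r
  · exact chkComm_D4_0
  · exact chkComm_D4_1
  · exact chkComm_D4_2
  · exact chkComm_D4_3
  · exact chkComm_D4_4
  · exact chkComm_D4_5
  · exact chkComm_D4_6
  · exact chkComm_D4_7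
  · exact chkComm_D4_8
  · exact chkComm_D4_9
  · exact chkComm_D4_10
  · exact chkComm_D4_11
  · exact chkComm_D4_12
  · exact chkComm_D4_13
  · exact chkComm_D4_14
  · exact chkComm_D4_15
  · exact chkComm_D4_16
  · exact chkComm_D4_17
  · exact chkComm_D4_18
  · exact chkComm_D4_19
  · exact chkComm_D4_20
  · exact chkComm_D4_21
  · exact chkComm_D4_22
  · exact chkComm_D4_23

end Cfsg.Agent.Lib.Helper5.ChevSym
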