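import Mathlib
import Cfsg.Prelude.Def_ChevF4
import Cfsg.Agent.Lib.Helper5.ChevSymComm

set_option autoImplicit false

namespace Cfsg.Agent.Lib.Helper5.ChevSym

open Cfsg Cfsg.Lie

set_option maxRecDepth 1000000 in
theorem chkComm_F4_8 : checkCommRow chevF4 8 0 48 = true := by
  decide +kernel

set_option maxRecDepth 1000000 in
theorem chkComm_F4_9 : checkCommRow chevF4 9 0 48 = true := by
  decide +kernel

set_option maxRecDepth 1000000 in
theorem chkComm_F4_10 : checkCommRow chevF4 10 0 48 = true := by
  decide +kernel

set_option maxRecDepth 1000000 in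
theorem chkComm_F4_11 : checkCommRow chevF4 11 0 48 = true := by
  decide +kernel

set_option maxRecDepth 1000000 in
theorem chkComm_F4_12 : checkCommRow chevF4 12 0 48 = true := by
  decide +kernel

set_option maxRecDepth 1000000 in
theorem chkComm_F4_13 : checkCommRow chevF4 13 0 48 = true := by
  decide +kernel

set_option maxRecDepth 1000000 in
theorem chkComm_F4_14 : checkCommRow chevF4 14 0 48 = true := by
  decide +kernel

set_option maxRecDepth 1000000 in
theorem chkComm_F4_15 : checkCommRow chevF4 15 0 48 = true := by
  decide +kernel

end Cfsg.Agent.Lib.Helper5.ChevSym
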