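import Mathlib
import Cfsg.Prelude.Def_ChevF4
import Cfsg.Agent.Lib.Helper5.ChevSymComm

set_option autoImplicit false

namespace Cfsg.Agent.Lib.Helper5.ChevSym

open Cfsg Cfsg.Lie

set_option maxRecDepth 1000000 in
theorem chkComm_F4_16 : checkCommRow chevF4 16 0 48 = true := by
  decide +kernel

set_option maxRecDepth 1000000 in
theorem chkComm_F4_17 : checkCommRow chevF4 17 0 48 = true := by
  decide +kernel

set_option maxRecDepth 1000000 in
theorem chkComm_F4_18 : checkCommRow chevF4 18 0 48 = true := by
  decide +kernel

set_option maxRecDepth 1000000 in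
theorem chkComm_F4_19 : checkCommRow chevF4 19 0 48 = true := by
  decide +kernel

set_option maxRecDepth 1000000 in
theorem chkComm_F4_20 : checkCommRow chevF4 20 0 48 = true := by
  decide +kernel

set_option maxRecDepth 1000000 in
theorem chkComm_F4_21 : checkCommRow chevF4 21 0 48 = true := by
  decide +kernel

set_option maxRecDepth 1000000 in
theorem chkComm_F4_22 : checkCommRow chevF4 22 0 48 = true := by
  decide +kernel

set_option maxRecDepth 1000000 in
theorem chkComm_F4_23 : checkCommRow chevF4 23 0 48 = true := by
  decide +kernel

end Cfsg.Agent.Lib.Helper5.ChevSym
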