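import Mathlib
import Cfsg.Prelude.Def_ChevF4
import Cfsg.Agent.Lib.Helper5.ChevSymComm

set_option autoImplicit false

namespace Cfsg.Agent.Lib.Helper5.ChevSym

open Cfsg Cfsg.Lie

set_option maxRecDepth 1000000 in
theorem chkComm_F4_24 : checkCommRow chevF4 24 0 48 = true := by
  decide +kernel

set_option maxRecDepth 1000000 in
theorem chkComm_F4_25 : checkCommRow chevF4 25 0 48 = true := by
  decide +kernel

set_option maxRecDepth 1000000 in
theorem chkComm_F4_26 : checkCommRow chevF4 26 0 48 = true := by
  decide +kernel

set_option maxRecDepth 1000000 in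
theorem chkComm_F4_27 : checkCommRow chevF4 27 0 48 = true := by
  decide +kernel

set_option maxRecDepth 1000000 in
theorem chkComm_F4_28 : checkCommRow chevF4 28 0 48 = true := by
  decide +kernel

set_option maxRecDepth 1000000 in
theorem chkComm_F4_29 : checkCommRow chevF4 29 0 48 = true := by
  decide +kernel

set_option maxRecDepth 1000000 in
theorem chkComm_F4_30 : checkCommRow chevF4 30 0 48 = true := by
  decide +kernel

set_option maxRecDepth 1000000 in
theorem chkComm_F4_31 : checkCommRow chevF4 31 0 48 = true := by
  decide +kernel

end Cfsg.Agent.Lib.Helper5.ChevSym
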