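import Mathlib
import Cfsg.Prelude.Def_ChevF4
import Cfsg.Agent.Lib.Helper5.ChevSymComm

set_option autoImplicit false

namespace Cfsg.Agent.Lib.Helper5.ChevSym

open Cfsg Cfsg.Lie

set_option maxRecDepth 1000000 in
theorem chkComm_F4_32 : checkCommRow chevF4 32 0 48 = true := by
  decide +kernel

set_option maxRecDepth 1000000 in
theorem chkComm_F4_33 : checkCommRow chevF4 33 0 48 = true := by
  decide +kernel

set_option maxRecDepth 1000000 in
theorem chkComm_F4_34 : checkCommRow chevF4 34 0 48 = true := by
  decide +kernel

set_option maxRecDepth 1000000 in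
theorem chkComm_F4_35 : checkCommRow chevF4 35 0 48 = true := by
  decide +kernel

set_option maxRecDepth 1000000 in
theorem chkComm_F4_36 : checkCommRow chevF4 36 0 48 = true := by
  decide +kernel

set_option maxRecDepth 1000000 in
theorem chkComm_F4_37 : checkCommRow chevF4 37 0 48 = true := by
  decide +kernel

set_option maxRecDepth 1000000 in
theorem chkComm_F4_38 : checkCommRow chevF4 38 0 48 = true := by
  decide +kernel

set_option maxRecDepth 1000000 in
theorem chkComm_F4_39 : checkCommRow chevF4 39 0 48 = true := by
  decide +kernel

end Cfsg.Agent.Lib.Helper5.ChevSym
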