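import Mathlib
import Cfsg.Prelude.Def_ChevF4
import Cfsg.Agent.Lib.Helper5.ChevSymComm
import Cfsg.Agent.Lib.Helper5.ChevChk.CommF4_0
import Cfsg.Agent.Lib.Helper5.ChevChk.CommF4_1
import Cfsg.Agent.Lib.Helper5.ChevChk.CommF4_2
import Cfsg.Agent.Lib.Helper5.ChevChk.CommF4_3
import Cfsg.Agent.Lib.Helper5.ChevChk.CommF4_4
import Cfsg.Agent.Lib.Helper5.ChevChk.CommF4_5

set_option autoImplicit false

namespace Cfsg.Agent.Lib.Helper5.ChevSym

open Cfsg Cfsg.Lie

theorem chkComm_F4 (r : ℕ) (hr : r < 48) : checkCommRow chevF4 r 0 48 = true := by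
  interval_cases r
  · exact chkComm_F4_0
  · exact chkComm_F4_1
  · exact chkComm_F4_2
  · exact chkComm_F4_3
  · exact chkComm_F4_4
  · exact chkComm_F4_5
  · exact chkComm_F4_6
  · exact chkComm_F4_7
  · exact chkComm_F4_8
  · exact chkComm_F4_9
  · exact chkComm_F4_10
  · exact chkComm_F4_11
  · exact chkComm_F4_12
  · exact chkComm_F4_13
  · exact chkComm_F4_14
  · exact chkComm_F4_15
  · exact chkComm_F4_16
  · exact chkComm_F4_17
  · exact chkComm_F4_18
  · exact chkComm_F4_19
  · exact chkComm_F4_20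
  · exact chkComm_F4_21
  · exact chkComm_F4_22
  · exact chkComm_F4_23
  · exact chkComm_F4_24
  · exact chkComm_F4_25
  · exact chkComm_F4_26
  · exact chkComm_F4_27
  · exact chkComm_F4_28
  · exact chkComm_F4_29
  · exact chkComm_F4_30
  · exact chkComm_F4_31
  · exact chkComm_F4_32
  · exact chkComm_F4_33
  · exact chkComm_F4_34
  · exact chkComm_F4_35
  · exact chkComm_F4_36
  · exact chkComm_F4_37
  · exact chkComm_F4_38
  · exact chkComm_F4_39
  · exact chkComm_F4_40
  · exact chkComm_F4_41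
  · exact chkComm_F4_42
  · exact chkComm_F4_43
  · exact chkComm_F4_44
  · exact chkComm_F4_45
  · exact chkComm_F4_46
  · exact chkComm_F4_47

end Cfsg.Agent.Lib.Helper5.ChevSym
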