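import Mathlib
import Cfsg.Prelude.Def_ChevG2
import Cfsg.Agent.Lib.Helper5.ChevSymComm

set_option autoImplicit false

namespace Cfsg.Agent.Lib.Helper5.ChevSym

open Cfsg Cfsg.Lie

set_option maxRecDepth 1000000 in
theorem chkComm_G2_0 : checkCommRow chevG2 0 0 12 = true := by
  decide +kernel

set_option maxRecDepth 1000000 in
theorem chkComm_G2_1 : checkCommRow chevG2 1 0 12 = true := by
  decide +kernel

set_option maxRecDepth 1000000 in
theorem chkComm_G2_2 : checkCommRow chevG2 2 0 12 = true := by
  decide +kernel

set_option maxRecDepth 1000000 in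
theorem chkComm_G2_3 : checkCommRow chevG2 3 0 12 = true := by
  decide +kernel

set_option maxRecDepth 1000000 in
theorem chkComm_G2_4 : checkCommRow chevG2 4 0 12 = true := by
  decide +kernel

set_option maxRecDepth 1000000 in
theorem chkComm_G2_5 : checkCommRow chevG2 5 0 12 = true := by
  decide +kernel

set_option maxRecDepth 1000000 in
theorem chkComm_G2_6 : checkCommRow chevG2 6 0 12 = true := by
  decide +kernel

set_option maxRecDepth 1000000 in
theorem chkComm_G2_7 : checkCommRow chevG2 7 0 12 = true := by
  decide +kernel

set_option maxRecDepth 1000000 in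
theorem chkComm_G2_8 : checkCommRow chevG2 8 0 12 = true := by
  decide +kernel

set_option maxRecDepth 1000000 in
theorem chkComm_G2_9 : checkCommRow chevG2 9 0 12 = true := by
  decide +kernel

set_option maxRecDepth 1000000 in
theorem chkComm_G2_10 : checkCommRow chevG2 10 0 12 = true := by
  decide +kernel

set_option maxRecDepth 1000000 in
theorem chkComm_G2_11 : checkCommRow chevG2 11 0 12 = true := by
  decide +kernel

end Cfsg.Agent.Lib.Helper5.ChevSym
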