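import Mathlib
import Cfsg.Prelude.Def_ChevG2
import Cfsg.Agent.Lib.Helper5.ChevSymComm
import Cfsg.Agent.Lib.Helper5.ChevChk.CommG2_0

set_option autoImplicit false

namespace Cfsg.Agent.Lib.Helper5.ChevSym

open Cfsg Cfsg.Lie

theorem chkComm_G2 (r : ℕ) (hr : r < 12) : checkCommRow chevG2 r 0 12 = true := by
  interval_cases r
  · exact chkComm_G2_0
  · exact chkComm_G2_1
  · exact chkComm_G2_2
  · exact chkComm_G2_3
  · exact chkComm_G2_4
  · exact chkComm_G2_5
  · exact chkComm_G2_6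
  · exact chkComm_G2_7
  · exact chkComm_G2_8
  · exact chkComm_G2_9
  · exact chkComm_G2_10
  · exact chkComm_G2_11

end Cfsg.Agent.Lib.Helper5.ChevSym
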