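import Mathlib
import Cfsg.Prelude.Def_ChevE6
import Cfsg.Agent.Lib.Helper5.ChevSymComm
import Cfsg.Agent.Lib.Helper5.ChevSymEdge
import Cfsg.Agent.Lib.Helper5.ChevTreeDef
import Cfsg.Agent.Lib.Helper5.ChevChk.BaseE6_0

set_option autoImplicit false

namespace Cfsg.Agent.Lib.Helper5.ChevSym

open Cfsg Cfsg.Lie

/-- a spanning tree of the roots of `E6` under the fundamental reflections, from the root `56` -/
def treeE6 : List (ℕ × ℕ) :=
    [(0, 56), (2, 56), (2, 15), (0, 57), (3, 57), (0, 14), (3, 14), (3, 42), (1, 58), (4, 58),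
     (3, 29), (1, 13), (4, 13), (1, 43), (2, 43), (4, 43), (4, 61), (5, 59), (1, 28), (2, 28),
     (4, 28), (4, 10), (5, 12), (2, 50), (4, 50), (4, 39), (5, 44), (3, 62), (5, 62), (2, 21),
     (4, 21), (4, 32), (5, 27), (3, 9), (5, 9), (3, 47), (4, 47), (3, 51), (5, 51), (3, 40),
     (5, 40), (2, 64), (5, 64), (3, 24), (4, 24), (3, 20), (5, 20), (3, 31), (5, 31), (2, 7),
     (5, 7), (5, 48), (5, 53), (5, 37), (5, 67), (4, 65), (5, 23), (5, 18), (5, 34), (5, 4),
     (4, 6), (4, 54), (4, 38), (4, 68), (4, 17), (4, 33), (4, 3), (3, 69), (3, 2), (1, 70),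
     (1, 1)]

set_option maxRecDepth 1000000 in
theorem chkTree_E6 : checkTree chevE6 56 treeE6 = true := by
  decide +kernel

set_option maxRecDepth 1000000 in
theorem chkSL_E6 : checkSL chevE6 = true := by
  decide +kernel

set_option maxRecDepth 1000000 in
theorem chkEdges_E6_0 : checkEdges chevE6 0 (edgesOf treeE6 0) = true := by
  decide +kernel

set_option maxRecDepth 1000000 in
theorem chkNegRefl_E6_0 : checkNegRefl chevE6 0 = true := by
  decide +kernel

set_option maxRecDepth 1000000 in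
theorem chkEdges_E6_1 : checkEdges chevE6 1 (edgesOf treeE6 1) = true := by
  decide +kernel

set_option maxRecDepth 1000000 in
theorem chkNegRefl_E6_1 : checkNegRefl chevE6 1 = true := by
  decide +kernel

set_option maxRecDepth 1000000 in
theorem chkEdges_E6_2 : checkEdges chevE6 2 (edgesOf treeE6 2) = true := by
  decide +kernel

set_option maxRecDepth 1000000 in
theorem chkNegRefl_E6_2 : checkNegRefl chevE6 2 = true := by
  decide +kernel

set_option maxRecDepth 1000000 in
theorem chkEdges_E6_3 : checkEdges chevE6 3 (edgesOf treeE6 3) = true := by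
  decide +kernel

set_option maxRecDepth 1000000 in
theorem chkNegRefl_E6_3 : checkNegRefl chevE6 3 = true := by
  decide +kernel

set_option maxRecDepth 1000000 in
theorem chkEdges_E6_4 : checkEdges chevE6 4 (edgesOf treeE6 4) = true := by
  decide +kernel

set_option maxRecDepth 1000000 in
theorem chkNegRefl_E6_4 : checkNegRefl chevE6 4 = true := by
  decide +kernel

set_option maxRecDepth 1000000 in
theorem chkEdges_E6_5 : checkEdges chevE6 5 (edgesOf treeE6 5) = true := by
  decide +kernel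

set_option maxRecDepth 1000000 in
theorem chkNegRefl_E6_5 : checkNegRefl chevE6 5 = true := by
  decide +kernel

theorem chkEdges_E6 (i : ℕ) (hi : i < 6) :
    checkEdges chevE6 i (edgesOf treeE6 i) = true ∧ checkNegRefl chevE6 i = true := by
  interval_cases i
  · exact ⟨chkEdges_E6_0, chkNegRefl_E6_0⟩
  · exact ⟨chkEdges_E6_1, chkNegRefl_E6_1⟩
  · exact ⟨chkEdges_E6_2, chkNegRefl_E6_2⟩
  · exact ⟨chkEdges_E6_3, chkNegRefl_E6_3⟩
  · exact ⟨chkEdges_E6_4, chkNegRefl_E6_4⟩
  · exact ⟨chkEdges_E6_5, chkNegRefl_E6_5⟩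

theorem chkBase_E6 (s : ℕ) (hs : s < 72) :
    ∃ lo n, checkCommRow chevE6 56 lo n = true ∧ lo ≤ s ∧ s < lo + n := by
  rcases Nat.lt_or_ge s 36 with h | h
  · exact ⟨0, 36, chkBase_E6_0, by omega, by omega⟩
  rcases Nat.lt_or_ge s 72 with h | h
  · exact ⟨36, 36, chkBase_E6_36, by omega, by omega⟩
  omega

end Cfsg.Agent.Lib.Helper5.ChevSym
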