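import Mathlib
import Cfsg.Prelude.Def_ChevE7
import Cfsg.Agent.Lib.Helper5.ChevSymComm

set_option autoImplicit false

namespace Cfsg.Agent.Lib.Helper5.ChevSym

open Cfsg Cfsg.Lie

set_option maxRecDepth 1000000 in
theorem chkBase_E7_0 : checkCommRow chevE7 93 0 32 = true := by
  decide +kernel

set_option maxRecDepth 1000000 in
theorem chkBase_E7_32 : checkCommRow chevE7 93 32 32 = true := by
  decide +kernel

set_option maxRecDepth 1000000 in
theorem chkBase_E7_64 : checkCommRow chevE7 93 64 32 = true := by
  decide +kernel

set_option maxRecDepth 1000000 in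
theorem chkBase_E7_96 : checkCommRow chevE7 93 96 30 = true := by
  decide +kernel

end Cfsg.Agent.Lib.Helper5.ChevSym
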