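import Mathlib
import Cfsg.Prelude.Def_ChevE7
import Cfsg.Agent.Lib.Helper5.ChevSymComm
import Cfsg.Agent.Lib.Helper5.ChevSymEdge
import Cfsg.Agent.Lib.Helper5.ChevTreeDef
import Cfsg.Agent.Lib.Helper5.ChevChk.BaseE7_0

set_option autoImplicit false

namespace Cfsg.Agent.Lib.Helper5.ChevSym

open Cfsg Cfsg.Lie

/-- a spanning tree of the roots of `E7` under the fundamental reflections, from the root `93` -/
def treeE7 : List (ℕ × ℕ) :=
    [(0, 93), (2, 93), (2, 32), (0, 94), (3, 94), (0, 31), (3, 31), (3, 73), (1, 95), (4, 95),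
     (3, 52), (1, 30), (4, 30), (1, 74), (2, 74), (4, 74), (4, 99), (5, 96), (1, 51), (2, 51),
     (4, 51), (4, 26), (5, 29), (2, 83), (4, 83), (4, 69), (5, 75), (3, 100), (5, 100),
     (6, 97), (2, 42), (4, 42), (4, 56), (5, 50), (3, 25), (5, 25), (6, 28), (3, 79), (4, 79),
     (3, 84), (5, 84), (3, 70), (5, 70), (6, 76), (2, 103), (5, 103), (6, 101), (3, 46),
     (4, 46), (3, 41), (5, 41), (3, 55), (5, 55), (6, 49), (2, 22), (5, 22), (6, 24), (5, 80),
     (5, 87), (6, 85), (5, 66), (6, 71), (5, 109), (4, 104), (6, 104), (5, 45), (5, 38),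
     (6, 40), (5, 59), (6, 54), (5, 16), (4, 21), (6, 21), (6, 81), (4, 88), (6, 88), (4, 67),
     (6, 67), (4, 110), (6, 110), (6, 106), (6, 44), (4, 37), (6, 37), (4, 58), (6, 58),
     (4, 15), (6, 15), (6, 19), (6, 90), (6, 64), (3, 112), (6, 112), (5, 107), (6, 35),
     (6, 61), (3, 13), (6, 13), (5, 18), (5, 91), (5, 65), (1, 115), (6, 115), (5, 113),
     (5, 34), (5, 60), (1, 10), (6, 10), (5, 12), (6, 119), (5, 116), (6, 6), (5, 9), (5, 120),
     (4, 117), (5, 5), (4, 8), (4, 121), (4, 4), (3, 122), (3, 3), (2, 123), (2, 2), (0, 124),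
     (0, 1)]

set_option maxRecDepth 1000000 in
theorem chkTree_E7 : checkTree chevE7 93 treeE7 = true := by
  decide +kernel

set_option maxRecDepth 1000000 in
theorem chkSL_E7 : checkSL chevE7 = true := by
  decide +kernel

set_option maxRecDepth 1000000 in
theorem chkEdges_E7_0 : checkEdges chevE7 0 (edgesOf treeE7 0) = true := by
  decide +kernel

set_option maxRecDepth 1000000 in
theorem chkNegRefl_E7_0 : checkNegRefl chevE7 0 = true := by
  decide +kernel

set_option maxRecDepth 1000000 in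
theorem chkEdges_E7_1 : checkEdges chevE7 1 (edgesOf treeE7 1) = true := by
  decide +kernel

set_option maxRecDepth 1000000 in
theorem chkNegRefl_E7_1 : checkNegRefl chevE7 1 = true := by
  decide +kernel

set_option maxRecDepth 1000000 in
theorem chkEdges_E7_2 : checkEdges chevE7 2 (edgesOf treeE7 2) = true := by
  decide +kernel

set_option maxRecDepth 1000000 in
theorem chkNegRefl_E7_2 : checkNegRefl chevE7 2 = true := by
  decide +kernel

set_option maxRecDepth 1000000 in
theorem chkEdges_E7_3 : checkEdges chevE7 3 (edgesOf treeE7 3) = true := by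
  decide +kernel

set_option maxRecDepth 1000000 in
theorem chkNegRefl_E7_3 : checkNegRefl chevE7 3 = true := by
  decide +kernel

set_option maxRecDepth 1000000 in
theorem chkEdges_E7_4 : checkEdges chevE7 4 (edgesOf treeE7 4) = true := by
  decide +kernel

set_option maxRecDepth 1000000 in
theorem chkNegRefl_E7_4 : checkNegRefl chevE7 4 = true := by
  decide +kernel

set_option maxRecDepth 1000000 in
theorem chkEdges_E7_5 : checkEdges chevE7 5 (edgesOf treeE7 5) = true := by
  decide +kernel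

set_option maxRecDepth 1000000 in
theorem chkNegRefl_E7_5 : checkNegRefl chevE7 5 = true := by
  decide +kernel

set_option maxRecDepth 1000000 in
theorem chkEdges_E7_6 : checkEdges chevE7 6 (edgesOf treeE7 6) = true := by
  decide +kernel

set_option maxRecDepth 1000000 in
theorem chkNegRefl_E7_6 : checkNegRefl chevE7 6 = true := by
  decide +kernel

theorem chkEdges_E7 (i : ℕ) (hi : i < 7) :
    checkEdges chevE7 i (edgesOf treeE7 i) = true ∧ checkNegRefl chevE7 i = true := by
  interval_cases i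
  · exact ⟨chkEdges_E7_0, chkNegRefl_E7_0⟩
  · exact ⟨chkEdges_E7_1, chkNegRefl_E7_1⟩
  · exact ⟨chkEdges_E7_2, chkNegRefl_E7_2⟩
  · exact ⟨chkEdges_E7_3, chkNegRefl_E7_3⟩
  · exact ⟨chkEdges_E7_4, chkNegRefl_E7_4⟩
  · exact ⟨chkEdges_E7_5, chkNegRefl_E7_5⟩
  · exact ⟨chkEdges_E7_6, chkNegRefl_E7_6⟩

theorem chkBase_E7 (s : ℕ) (hs : s < 126) :
    ∃ lo n, checkCommRow chevE7 93 lo n = true ∧ lo ≤ s ∧ s < lo + n := by
  rcases Nat.lt_or_ge s 32 with h | h
  · exact ⟨0, 32, chkBase_E7_0, by omega, by omega⟩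
  rcases Nat.lt_or_ge s 64 with h | h
  · exact ⟨32, 32, chkBase_E7_32, by omega, by omega⟩
  rcases Nat.lt_or_ge s 96 with h | h
  · exact ⟨64, 32, chkBase_E7_64, by omega, by omega⟩
  rcases Nat.lt_or_ge s 126 with h | h
  · exact ⟨96, 30, chkBase_E7_96, by omega, by omega⟩
  omega

end Cfsg.Agent.Lib.Helper5.ChevSym
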