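import Mathlib
import Cfsg.Prelude.Def_ChevD4
import Cfsg.Agent.Lib.Helper5.ChevSymConj
import Cfsg.Agent.Lib.Helper5.ChevChk.ConjD4_0

set_option autoImplicit false

namespace Cfsg.Agent.Lib.Helper5.ChevSym

open Cfsg Cfsg.Lie

theorem chkConj_D4 (i : ℕ) (hi : i < 4) (s : ℕ) (hs : s < 24) :
    ∃ lo n, checkConj chevD4 i lo n = true ∧ lo ≤ s ∧ s < lo + n := by
  interval_cases i
  · rcases Nat.lt_or_ge s 24 with h | h
    · exact ⟨0, 24, chkConj_D4_0_0, by omega, by omega⟩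
    omega
  · rcases Nat.lt_or_ge s 24 with h | h
    · exact ⟨0, 24, chkConj_D4_1_0, by omega, by omega⟩
    omega
  · rcases Nat.lt_or_ge s 24 with h | h
    · exact ⟨0, 24, chkConj_D4_2_0, by omega, by omega⟩
    omega
  · rcases Nat.lt_or_ge s 24 with h | h
    · exact ⟨0, 24, chkConj_D4_3_0, by omega, by omega⟩
    omega

end Cfsg.Agent.Lib.Helper5.ChevSym
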