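import Mathlib
import Cfsg.Prelude.Def_ChevE7
import Cfsg.Agent.Lib.Helper5.ChevSymConj

set_option autoImplicit false

namespace Cfsg.Agent.Lib.Helper5.ChevSym

open Cfsg Cfsg.Lie

set_option maxRecDepth 1000000 in
theorem chkConj_E7_0_0 : checkConj chevE7 0 0 42 = true := by
  decide +kernel

set_option maxRecDepth 1000000 in
theorem chkConj_E7_0_42 : checkConj chevE7 0 42 42 = true := by
  decide +kernel

set_option maxRecDepth 1000000 in
theorem chkConj_E7_0_84 : checkConj chevE7 0 84 42 = true := by
  decide +kernel

set_option maxRecDepth 1000000 in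
theorem chkConj_E7_1_0 : checkConj chevE7 1 0 42 = true := by
  decide +kernel

set_option maxRecDepth 1000000 in
theorem chkConj_E7_1_42 : checkConj chevE7 1 42 42 = true := by
  decide +kernel

set_option maxRecDepth 1000000 in
theorem chkConj_E7_1_84 : checkConj chevE7 1 84 42 = true := by
  decide +kernel

set_option maxRecDepth 1000000 in
theorem chkConj_E7_2_0 : checkConj chevE7 2 0 42 = true := by
  decide +kernel

end Cfsg.Agent.Lib.Helper5.ChevSym
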