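import Mathlib
import Cfsg.Prelude.Def_ChevE7
import Cfsg.Agent.Lib.Helper5.ChevSymConj
import Cfsg.Agent.Lib.Helper5.ChevChk.ConjE7_0
import Cfsg.Agent.Lib.Helper5.ChevChk.ConjE7_1
import Cfsg.Agent.Lib.Helper5.ChevChk.ConjE7_2

set_option autoImplicit false

namespace Cfsg.Agent.Lib.Helper5.ChevSym

open Cfsg Cfsg.Lie

theorem chkConj_E7 (i : ℕ) (hi : i < 7) (s : ℕ) (hs : s < 126) :
    ∃ lo n, checkConj chevE7 i lo n = true ∧ lo ≤ s ∧ s < lo + n := by
  interval_cases i
  · rcases Nat.lt_or_ge s 42 with h | h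
    · exact ⟨0, 42, chkConj_E7_0_0, by omega, by omega⟩
    rcases Nat.lt_or_ge s 84 with h | h
    · exact ⟨42, 42, chkConj_E7_0_42, by omega, by omega⟩
    rcases Nat.lt_or_ge s 126 with h | h
    · exact ⟨84, 42, chkConj_E7_0_84, by omega, by omega⟩
    omega
  · rcases Nat.lt_or_ge s 42 with h | h
    · exact ⟨0, 42, chkConj_E7_1_0, by omega, by omega⟩
    rcases Nat.lt_or_ge s 84 with h | h
    · exact ⟨42, 42, chkConj_E7_1_42, by omega, by omega⟩
    rcases Nat.lt_or_ge s 126 with h | h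
    · exact ⟨84, 42, chkConj_E7_1_84, by omega, by omega⟩
    omega
  · rcases Nat.lt_or_ge s 42 with h | h
    · exact ⟨0, 42, chkConj_E7_2_0, by omega, by omega⟩
    rcases Nat.lt_or_ge s 84 with h | h
    · exact ⟨42, 42, chkConj_E7_2_42, by omega, by omega⟩
    rcases Nat.lt_or_ge s 126 with h | h
    · exact ⟨84, 42, chkConj_E7_2_84, by omega, by omega⟩
    omega
  · rcases Nat.lt_or_ge s 42 with h | h
    · exact ⟨0, 42, chkConj_E7_3_0, by omega, by omega⟩
    rcases Nat.lt_or_ge s 84 with h | h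
    · exact ⟨42, 42, chkConj_E7_3_42, by omega, by omega⟩
    rcases Nat.lt_or_ge s 126 with h | h
    · exact ⟨84, 42, chkConj_E7_3_84, by omega, by omega⟩
    omega
  · rcases Nat.lt_or_ge s 42 with h | h
    · exact ⟨0, 42, chkConj_E7_4_0, by omega, by omega⟩
    rcases Nat.lt_or_ge s 84 with h | h
    · exact ⟨42, 42, chkConj_E7_4_42, by omega, by omega⟩
    rcases Nat.lt_or_ge s 126 with h | h
    · exact ⟨84, 42, chkConj_E7_4_84, by omega, by omega⟩
    omega
  · rcases Nat.lt_or_ge s 42 with h | h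
    · exact ⟨0, 42, chkConj_E7_5_0, by omega, by omega⟩
    rcases Nat.lt_or_ge s 84 with h | h
    · exact ⟨42, 42, chkConj_E7_5_42, by omega, by omega⟩
    rcases Nat.lt_or_ge s 126 with h | h
    · exact ⟨84, 42, chkConj_E7_5_84, by omega, by omega⟩
    omega
  · rcases Nat.lt_or_ge s 42 with h | h
    · exact ⟨0, 42, chkConj_E7_6_0, by omega, by omega⟩
    rcases Nat.lt_or_ge s 84 with h | h
    · exact ⟨42, 42, chkConj_E7_6_42, by omega, by omega⟩
    rcases Nat.lt_or_ge s 126 with h | h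
    · exact ⟨84, 42, chkConj_E7_6_84, by omega, by omega⟩
    omega

end Cfsg.Agent.Lib.Helper5.ChevSym
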