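import Mathlib
import Cfsg.Prelude.Def_ChevE8
import Cfsg.Agent.Lib.Helper5.ChevSymConj

set_option autoImplicit false

namespace Cfsg.Agent.Lib.Helper5.ChevSym

open Cfsg Cfsg.Lie

set_option maxRecDepth 1000000 in
theorem chkConj_E8_1_16 : checkConj chevE8 1 16 16 = true := by
  decide +kernel

set_option maxRecDepth 1000000 in
theorem chkConj_E8_1_32 : checkConj chevE8 1 32 16 = true := by
  decide +kernel

set_option maxRecDepth 1000000 in
theorem chkConj_E8_1_48 : checkConj chevE8 1 48 16 = true := by
  decide +kernel

set_option maxRecDepth 1000000 in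
theorem chkConj_E8_1_64 : checkConj chevE8 1 64 16 = true := by
  decide +kernel

set_option maxRecDepth 1000000 in
theorem chkConj_E8_1_80 : checkConj chevE8 1 80 16 = true := by
  decide +kernel

set_option maxRecDepth 1000000 in
theorem chkConj_E8_1_96 : checkConj chevE8 1 96 16 = true := by
  decide +kernel

set_option maxRecDepth 1000000 in
theorem chkConj_E8_1_112 : checkConj chevE8 1 112 16 = true := by
  decide +kernel

set_option maxRecDepth 1000000 in
theorem chkConj_E8_1_128 : checkConj chevE8 1 128 16 = true := by
  decide +kernel

end Cfsg.Agent.Lib.Helper5.ChevSym
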