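import Mathlib
import Cfsg.Prelude.Def_ChevE8
import Cfsg.Agent.Lib.Helper5.ChevSymConj

set_option autoImplicit false

namespace Cfsg.Agent.Lib.Helper5.ChevSym

open Cfsg Cfsg.Lie

set_option maxRecDepth 1000000 in
theorem chkConj_E8_1_144 : checkConj chevE8 1 144 16 = true := by
  decide +kernel

set_option maxRecDepth 1000000 in
theorem chkConj_E8_1_160 : checkConj chevE8 1 160 16 = true := by
  decide +kernel

set_option maxRecDepth 1000000 in
theorem chkConj_E8_1_176 : checkConj chevE8 1 176 16 = true := by
  decide +kernel

set_option maxRecDepth 1000000 in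
theorem chkConj_E8_1_192 : checkConj chevE8 1 192 16 = true := by
  decide +kernel

set_option maxRecDepth 1000000 in
theorem chkConj_E8_1_208 : checkConj chevE8 1 208 16 = true := by
  decide +kernel

set_option maxRecDepth 1000000 in
theorem chkConj_E8_1_224 : checkConj chevE8 1 224 16 = true := by
  decide +kernel

set_option maxRecDepth 1000000 in
theorem chkConj_E8_2_0 : checkConj chevE8 2 0 16 = true := by
  decide +kernel

set_option maxRecDepth 1000000 in
theorem chkConj_E8_2_16 : checkConj chevE8 2 16 16 = true := by
  decide +kernel

end Cfsg.Agent.Lib.Helper5.ChevSym
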