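import Mathlib
import Cfsg.Prelude.Def_ChevE8
import Cfsg.Agent.Lib.Helper5.ChevSymConj
import Cfsg.Agent.Lib.Helper5.ChevChk.ConjE8_0
import Cfsg.Agent.Lib.Helper5.ChevChk.ConjE8_1
import Cfsg.Agent.Lib.Helper5.ChevChk.ConjE8_2
import Cfsg.Agent.Lib.Helper5.ChevChk.ConjE8_3
import Cfsg.Agent.Lib.Helper5.ChevChk.ConjE8_4
import Cfsg.Agent.Lib.Helper5.ChevChk.ConjE8_5
import Cfsg.Agent.Lib.Helper5.ChevChk.ConjE8_6
import Cfsg.Agent.Lib.Helper5.ChevChk.ConjE8_7
import Cfsg.Agent.Lib.Helper5.ChevChk.ConjE8_8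
import Cfsg.Agent.Lib.Helper5.ChevChk.ConjE8_9
import Cfsg.Agent.Lib.Helper5.ChevChk.ConjE8_10
import Cfsg.Agent.Lib.Helper5.ChevChk.ConjE8_11
import Cfsg.Agent.Lib.Helper5.ChevChk.ConjE8_12
import Cfsg.Agent.Lib.Helper5.ChevChk.ConjE8_13
import Cfsg.Agent.Lib.Helper5.ChevChk.ConjE8_14

set_option autoImplicit false

namespace Cfsg.Agent.Lib.Helper5.ChevSym

open Cfsg Cfsg.Lie

theorem chkConj_E8 (i : ℕ) (hi : i < 8) (s : ℕ) (hs : s < 240) :
    ∃ lo n, checkConj chevE8 i lo n = true ∧ lo ≤ s ∧ s < lo + n := by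
  interval_cases i
  · rcases Nat.lt_or_ge s 16 with h | h
    · exact ⟨0, 16, chkConj_E8_0_0, by omega, by omega⟩
    rcases Nat.lt_or_ge s 32 with h | h
    · exact ⟨16, 16, chkConj_E8_0_16, by omega, by omega⟩
    rcases Nat.lt_or_ge s 48 with h | h
    · exact ⟨32, 16, chkConj_E8_0_32, by omega, by omega⟩
    rcases Nat.lt_or_ge s 64 with h | h
    · exact ⟨48, 16, chkConj_E8_0_48, by omega, by omega⟩
    rcases Nat.lt_or_ge s 80 with h | h
    · exact ⟨64, 16, chkConj_E8_0_64, by omega, by omega⟩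
    rcases Nat.lt_or_ge s 96 with h | h
    · exact ⟨80, 16, chkConj_E8_0_80, by omega, by omega⟩
    rcases Nat.lt_or_ge s 112 with h | h
    · exact ⟨96, 16, chkConj_E8_0_96, by omega, by omega⟩
    rcases Nat.lt_or_ge s 128 with h | h
    · exact ⟨112, 16, chkConj_E8_0_112, by omega, by omega⟩
    rcases Nat.lt_or_ge s 144 with h | h
    · exact ⟨128, 16, chkConj_E8_0_128, by omega, by omega⟩
    rcases Nat.lt_or_ge s 160 with h | h
    · exact ⟨144, 16, chkConj_E8_0_144, by omega, by omega⟩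
    rcases Nat.lt_or_ge s 176 with h | h
    · exact ⟨160, 16, chkConj_E8_0_160, by omega, by omega⟩
    rcases Nat.lt_or_ge s 192 with h | h
    · exact ⟨176, 16, chkConj_E8_0_176, by omega, by omega⟩
    rcases Nat.lt_or_ge s 208 with h | h
    · exact ⟨192, 16, chkConj_E8_0_192, by omega, by omega⟩
    rcases Nat.lt_or_ge s 224 with h | h
    · exact ⟨208, 16, chkConj_E8_0_208, by omega, by omega⟩
    rcases Nat.lt_or_ge s 240 with h | h
    · exact ⟨224, 16, chkConj_E8_0_224, by omega, by omega⟩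
    omega
  · rcases Nat.lt_or_ge s 16 with h | h
    · exact ⟨0, 16, chkConj_E8_1_0, by omega, by omega⟩
    rcases Nat.lt_or_ge s 32 with h | h
    · exact ⟨16, 16, chkConj_E8_1_16, by omega, by omega⟩
    rcases Nat.lt_or_ge s 48 with h | h
    · exact ⟨32, 16, chkConj_E8_1_32, by omega, by omega⟩
    rcases Nat.lt_or_ge s 64 with h | h
    · exact ⟨48, 16, chkConj_E8_1_48, by omega, by omega⟩
    rcases Nat.lt_or_ge s 80 with h | h
    · exact ⟨64, 16, chkConj_E8_1_64, by omega, by omega⟩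
    rcases Nat.lt_or_ge s 96 with h | h
    · exact ⟨80, 16, chkConj_E8_1_80, by omega, by omega⟩
    rcases Nat.lt_or_ge s 112 with h | h
    · exact ⟨96, 16, chkConj_E8_1_96, by omega, by omega⟩
    rcases Nat.lt_or_ge s 128 with h | h
    · exact ⟨112, 16, chkConj_E8_1_112, by omega, by omega⟩
    rcases Nat.lt_or_ge s 144 with h | h
    · exact ⟨128, 16, chkConj_E8_1_128, by omega, by omega⟩
    rcases Nat.lt_or_ge s 160 with h | h
    · exact ⟨144, 16, chkConj_E8_1_144, by omega, by omega⟩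
    rcases Nat.lt_or_ge s 176 with h | h
    · exact ⟨160, 16, chkConj_E8_1_160, by omega, by omega⟩
    rcases Nat.lt_or_ge s 192 with h | h
    · exact ⟨176, 16, chkConj_E8_1_176, by omega, by omega⟩
    rcases Nat.lt_or_ge s 208 with h | h
    · exact ⟨192, 16, chkConj_E8_1_192, by omega, by omega⟩
    rcases Nat.lt_or_ge s 224 with h | h
    · exact ⟨208, 16, chkConj_E8_1_208, by omega, by omega⟩
    rcases Nat.lt_or_ge s 240 with h | h
    · exact ⟨224, 16, chkConj_E8_1_224, by omega, by omega⟩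
    omega
  · rcases Nat.lt_or_ge s 16 with h | h
    · exact ⟨0, 16, chkConj_E8_2_0, by omega, by omega⟩
    rcases Nat.lt_or_ge s 32 with h | h
    · exact ⟨16, 16, chkConj_E8_2_16, by omega, by omega⟩
    rcases Nat.lt_or_ge s 48 with h | h
    · exact ⟨32, 16, chkConj_E8_2_32, by omega, by omega⟩
    rcases Nat.lt_or_ge s 64 with h | h
    · exact ⟨48, 16, chkConj_E8_2_48, by omega, by omega⟩
    rcases Nat.lt_or_ge s 80 with h | h
    · exact ⟨64, 16, chkConj_E8_2_64, by omega, by omega⟩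
    rcases Nat.lt_or_ge s 96 with h | h
    · exact ⟨80, 16, chkConj_E8_2_80, by omega, by omega⟩
    rcases Nat.lt_or_ge s 112 with h | h
    · exact ⟨96, 16, chkConj_E8_2_96, by omega, by omega⟩
    rcases Nat.lt_or_ge s 128 with h | h
    · exact ⟨112, 16, chkConj_E8_2_112, by omega, by omega⟩
    rcases Nat.lt_or_ge s 144 with h | h
    · exact ⟨128, 16, chkConj_E8_2_128, by omega, by omega⟩
    rcases Nat.lt_or_ge s 160 with h | h
    · exact ⟨144, 16, chkConj_E8_2_144, by omega, by omega⟩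
    rcases Nat.lt_or_ge s 176 with h | h
    · exact ⟨160, 16, chkConj_E8_2_160, by omega, by omega⟩
    rcases Nat.lt_or_ge s 192 with h | h
    · exact ⟨176, 16, chkConj_E8_2_176, by omega, by omega⟩
    rcases Nat.lt_or_ge s 208 with h | h
    · exact ⟨192, 16, chkConj_E8_2_192, by omega, by omega⟩
    rcases Nat.lt_or_ge s 224 with h | h
    · exact ⟨208, 16, chkConj_E8_2_208, by omega, by omega⟩
    rcases Nat.lt_or_ge s 240 with h | h
    · exact ⟨224, 16, chkConj_E8_2_224, by omega, by omega⟩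
    omega
  · rcases Nat.lt_or_ge s 16 with h | h
    · exact ⟨0, 16, chkConj_E8_3_0, by omega, by omega⟩
    rcases Nat.lt_or_ge s 32 with h | h
    · exact ⟨16, 16, chkConj_E8_3_16, by omega, by omega⟩
    rcases Nat.lt_or_ge s 48 with h | h
    · exact ⟨32, 16, chkConj_E8_3_32, by omega, by omega⟩
    rcases Nat.lt_or_ge s 64 with h | h
    · exact ⟨48, 16, chkConj_E8_3_48, by omega, by omega⟩
    rcases Nat.lt_or_ge s 80 with h | h
    · exact ⟨64, 16, chkConj_E8_3_64, by omega, by omega⟩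
    rcases Nat.lt_or_ge s 96 with h | h
    · exact ⟨80, 16, chkConj_E8_3_80, by omega, by omega⟩
    rcases Nat.lt_or_ge s 112 with h | h
    · exact ⟨96, 16, chkConj_E8_3_96, by omega, by omega⟩
    rcases Nat.lt_or_ge s 128 with h | h
    · exact ⟨112, 16, chkConj_E8_3_112, by omega, by omega⟩
    rcases Nat.lt_or_ge s 144 with h | h
    · exact ⟨128, 16, chkConj_E8_3_128, by omega, by omega⟩
    rcases Nat.lt_or_ge s 160 with h | h
    · exact ⟨144, 16, chkConj_E8_3_144, by omega, by omega⟩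
    rcases Nat.lt_or_ge s 176 with h | h
    · exact ⟨160, 16, chkConj_E8_3_160, by omega, by omega⟩
    rcases Nat.lt_or_ge s 192 with h | h
    · exact ⟨176, 16, chkConj_E8_3_176, by omega, by omega⟩
    rcases Nat.lt_or_ge s 208 with h | h
    · exact ⟨192, 16, chkConj_E8_3_192, by omega, by omega⟩
    rcases Nat.lt_or_ge s 224 with h | h
    · exact ⟨208, 16, chkConj_E8_3_208, by omega, by omega⟩
    rcases Nat.lt_or_ge s 240 with h | h
    · exact ⟨224, 16, chkConj_E8_3_224, by omega, by omega⟩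
    omega
  · rcases Nat.lt_or_ge s 16 with h | h
    · exact ⟨0, 16, chkConj_E8_4_0, by omega, by omega⟩
    rcases Nat.lt_or_ge s 32 with h | h
    · exact ⟨16, 16, chkConj_E8_4_16, by omega, by omega⟩
    rcases Nat.lt_or_ge s 48 with h | h
    · exact ⟨32, 16, chkConj_E8_4_32, by omega, by omega⟩
    rcases Nat.lt_or_ge s 64 with h | h
    · exact ⟨48, 16, chkConj_E8_4_48, by omega, by omega⟩
    rcases Nat.lt_or_ge s 80 with h | h
    · exact ⟨64, 16, chkConj_E8_4_64, by omega, by omega⟩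
    rcases Nat.lt_or_ge s 96 with h | h
    · exact ⟨80, 16, chkConj_E8_4_80, by omega, by omega⟩
    rcases Nat.lt_or_ge s 112 with h | h
    · exact ⟨96, 16, chkConj_E8_4_96, by omega, by omega⟩
    rcases Nat.lt_or_ge s 128 with h | h
    · exact ⟨112, 16, chkConj_E8_4_112, by omega, by omega⟩
    rcases Nat.lt_or_ge s 144 with h | h
    · exact ⟨128, 16, chkConj_E8_4_128, by omega, by omega⟩
    rcases Nat.lt_or_ge s 160 with h | h
    · exact ⟨144, 16, chkConj_E8_4_144, by omega, by omega⟩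
    rcases Nat.lt_or_ge s 176 with h | h
    · exact ⟨160, 16, chkConj_E8_4_160, by omega, by omega⟩
    rcases Nat.lt_or_ge s 192 with h | h
    · exact ⟨176, 16, chkConj_E8_4_176, by omega, by omega⟩
    rcases Nat.lt_or_ge s 208 with h | h
    · exact ⟨192, 16, chkConj_E8_4_192, by omega, by omega⟩
    rcases Nat.lt_or_ge s 224 with h | h
    · exact ⟨208, 16, chkConj_E8_4_208, by omega, by omega⟩
    rcases Nat.lt_or_ge s 240 with h | h
    · exact ⟨224, 16, chkConj_E8_4_224, by omega, by omega⟩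
    omega
  · rcases Nat.lt_or_ge s 16 with h | h
    · exact ⟨0, 16, chkConj_E8_5_0, by omega, by omega⟩
    rcases Nat.lt_or_ge s 32 with h | h
    · exact ⟨16, 16, chkConj_E8_5_16, by omega, by omega⟩
    rcases Nat.lt_or_ge s 48 with h | h
    · exact ⟨32, 16, chkConj_E8_5_32, by omega, by omega⟩
    rcases Nat.lt_or_ge s 64 with h | h
    · exact ⟨48, 16, chkConj_E8_5_48, by omega, by omega⟩
    rcases Nat.lt_or_ge s 80 with h | h
    · exact ⟨64, 16, chkConj_E8_5_64, by omega, by omega⟩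
    rcases Nat.lt_or_ge s 96 with h | h
    · exact ⟨80, 16, chkConj_E8_5_80, by omega, by omega⟩
    rcases Nat.lt_or_ge s 112 with h | h
    · exact ⟨96, 16, chkConj_E8_5_96, by omega, by omega⟩
    rcases Nat.lt_or_ge s 128 with h | h
    · exact ⟨112, 16, chkConj_E8_5_112, by omega, by omega⟩
    rcases Nat.lt_or_ge s 144 with h | h
    · exact ⟨128, 16, chkConj_E8_5_128, by omega, by omega⟩
    rcases Nat.lt_or_ge s 160 with h | h
    · exact ⟨144, 16, chkConj_E8_5_144, by omega, by omega⟩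
    rcases Nat.lt_or_ge s 176 with h | h
    · exact ⟨160, 16, chkConj_E8_5_160, by omega, by omega⟩
    rcases Nat.lt_or_ge s 192 with h | h
    · exact ⟨176, 16, chkConj_E8_5_176, by omega, by omega⟩
    rcases Nat.lt_or_ge s 208 with h | h
    · exact ⟨192, 16, chkConj_E8_5_192, by omega, by omega⟩
    rcases Nat.lt_or_ge s 224 with h | h
    · exact ⟨208, 16, chkConj_E8_5_208, by omega, by omega⟩
    rcases Nat.lt_or_ge s 240 with h | h
    · exact ⟨224, 16, chkConj_E8_5_224, by omega, by omega⟩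
    omega
  · rcases Nat.lt_or_ge s 16 with h | h
    · exact ⟨0, 16, chkConj_E8_6_0, by omega, by omega⟩
    rcases Nat.lt_or_ge s 32 with h | h
    · exact ⟨16, 16, chkConj_E8_6_16, by omega, by omega⟩
    rcases Nat.lt_or_ge s 48 with h | h
    · exact ⟨32, 16, chkConj_E8_6_32, by omega, by omega⟩
    rcases Nat.lt_or_ge s 64 with h | h
    · exact ⟨48, 16, chkConj_E8_6_48, by omega, by omega⟩
    rcases Nat.lt_or_ge s 80 with h | h
    · exact ⟨64, 16, chkConj_E8_6_64, by omega, by omega⟩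
    rcases Nat.lt_or_ge s 96 with h | h
    · exact ⟨80, 16, chkConj_E8_6_80, by omega, by omega⟩
    rcases Nat.lt_or_ge s 112 with h | h
    · exact ⟨96, 16, chkConj_E8_6_96, by omega, by omega⟩
    rcases Nat.lt_or_ge s 128 with h | h
    · exact ⟨112, 16, chkConj_E8_6_112, by omega, by omega⟩
    rcases Nat.lt_or_ge s 144 with h | h
    · exact ⟨128, 16, chkConj_E8_6_128, by omega, by omega⟩
    rcases Nat.lt_or_ge s 160 with h | h
    · exact ⟨144, 16, chkConj_E8_6_144, by omega, by omega⟩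
    rcases Nat.lt_or_ge s 176 with h | h
    · exact ⟨160, 16, chkConj_E8_6_160, by omega, by omega⟩
    rcases Nat.lt_or_ge s 192 with h | h
    · exact ⟨176, 16, chkConj_E8_6_176, by omega, by omega⟩
    rcases Nat.lt_or_ge s 208 with h | h
    · exact ⟨192, 16, chkConj_E8_6_192, by omega, by omega⟩
    rcases Nat.lt_or_ge s 224 with h | h
    · exact ⟨208, 16, chkConj_E8_6_208, by omega, by omega⟩
    rcases Nat.lt_or_ge s 240 with h | h
    · exact ⟨224, 16, chkConj_E8_6_224, by omega, by omega⟩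
    omega
  · rcases Nat.lt_or_ge s 16 with h | h
    · exact ⟨0, 16, chkConj_E8_7_0, by omega, by omega⟩
    rcases Nat.lt_or_ge s 32 with h | h
    · exact ⟨16, 16, chkConj_E8_7_16, by omega, by omega⟩
    rcases Nat.lt_or_ge s 48 with h | h
    · exact ⟨32, 16, chkConj_E8_7_32, by omega, by omega⟩
    rcases Nat.lt_or_ge s 64 with h | h
    · exact ⟨48, 16, chkConj_E8_7_48, by omega, by omega⟩
    rcases Nat.lt_or_ge s 80 with h | h
    · exact ⟨64, 16, chkConj_E8_7_64, by omega, by omega⟩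
    rcases Nat.lt_or_ge s 96 with h | h
    · exact ⟨80, 16, chkConj_E8_7_80, by omega, by omega⟩
    rcases Nat.lt_or_ge s 112 with h | h
    · exact ⟨96, 16, chkConj_E8_7_96, by omega, by omega⟩
    rcases Nat.lt_or_ge s 128 with h | h
    · exact ⟨112, 16, chkConj_E8_7_112, by omega, by omega⟩
    rcases Nat.lt_or_ge s 144 with h | h
    · exact ⟨128, 16, chkConj_E8_7_128, by omega, by omega⟩
    rcases Nat.lt_or_ge s 160 with h | h
    · exact ⟨144, 16, chkConj_E8_7_144, by omega, by omega⟩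
    rcases Nat.lt_or_ge s 176 with h | h
    · exact ⟨160, 16, chkConj_E8_7_160, by omega, by omega⟩
    rcases Nat.lt_or_ge s 192 with h | h
    · exact ⟨176, 16, chkConj_E8_7_176, by omega, by omega⟩
    rcases Nat.lt_or_ge s 208 with h | h
    · exact ⟨192, 16, chkConj_E8_7_192, by omega, by omega⟩
    rcases Nat.lt_or_ge s 224 with h | h
    · exact ⟨208, 16, chkConj_E8_7_208, by omega, by omega⟩
    rcases Nat.lt_or_ge s 240 with h | h
    · exact ⟨224, 16, chkConj_E8_7_224, by omega, by omega⟩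
    omega

end Cfsg.Agent.Lib.Helper5.ChevSym
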