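import Mathlib
import Cfsg.Agent.Lib.Helper5.ChevChk.ConjG2
import Cfsg.Agent.Lib.Helper5.ChevChk.ConjB2
import Cfsg.Agent.Lib.Helper5.ChevChk.ConjD4
import Cfsg.Agent.Lib.Helper5.ChevChk.ConjF4
import Cfsg.Agent.Lib.Helper5.ChevChk.ConjE6
import Cfsg.Agent.Lib.Helper5.ChevChk.ConjE7
import Cfsg.Agent.Lib.Helper5.ChevChk.ConjE8

set_option autoImplicit false

namespace Cfsg.Agent.Lib.Helper5.ChevSym

open Cfsg Cfsg.Lie

theorem chkConj_all (D : ChevalleyDatum)
    (hD : D ∈ [chevG2, chevB2, chevD4, chevF4, chevE6, chevE7, chevE8]) (i : ℕ) (hi : i < D.rank)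
    (s : ℕ) (hs : s < D.nroots) :
    ∃ lo n, checkConj D i lo n = true ∧ lo ≤ s ∧ s < lo + n := by
  simp only [List.mem_cons, List.not_mem_nil, or_false] at hD
  rcases hD with rfl | rfl | rfl | rfl | rfl | rfl | rfl
  · exact chkConj_G2 i hi s hs
  · exact chkConj_B2 i hi s hs
  · exact chkConj_D4 i hi s hs
  · exact chkConj_F4 i hi s hs
  · exact chkConj_E6 i hi s hs
  · exact chkConj_E7 i hi s hs
  · exact chkConj_E8 i hi s hs

end Cfsg.Agent.Lib.Helper5.ChevSym
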