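import Mathlib
import Cfsg.Prelude.Def_ChevF4
import Cfsg.Agent.Lib.Helper5.ChevSymConj

set_option autoImplicit false

namespace Cfsg.Agent.Lib.Helper5.ChevSym

open Cfsg Cfsg.Lie

set_option maxRecDepth 1000000 in
theorem chkInv_F4_0 : checkInv chevF4 0 = true := by
  decide +kernel

set_option maxRecDepth 1000000 in
theorem chkInv_F4_1 : checkInv chevF4 1 = true := by
  decide +kernel

set_option maxRecDepth 1000000 in
theorem chkInv_F4_2 : checkInv chevF4 2 = true := by
  decide +kernel

set_option maxRecDepth 1000000 in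
theorem chkInv_F4_3 : checkInv chevF4 3 = true := by
  decide +kernel

theorem chkInv_F4 (i : ℕ) (hi : i < 4) : checkInv chevF4 i = true := by
  interval_cases i
  · exact chkInv_F4_0
  · exact chkInv_F4_1
  · exact chkInv_F4_2
  · exact chkInv_F4_3

end Cfsg.Agent.Lib.Helper5.ChevSym
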