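import Mathlib
import Cfsg.Prelude.Def_ChevG2
import Cfsg.Agent.Lib.Helper5.ChevSymN

set_option autoImplicit false

namespace Cfsg.Agent.Lib.Helper5.ChevSym

open Cfsg Cfsg.Lie

set_option maxRecDepth 1000000 in
theorem chkN_G2_0 : checkN chevG2 0 = true := by
  decide +kernel

set_option maxRecDepth 1000000 in
theorem chkN_G2_1 : checkN chevG2 1 = true := by
  decide +kernel

theorem chkN_G2 (i : ℕ) (hi : i < 2) : checkN chevG2 i = true := by
  interval_cases i
  · exact chkN_G2_0
  · exact chkN_G2_1

end Cfsg.Agent.Lib.Helper5.ChevSym
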