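import Mathlib
import Cfsg.Prelude.Def_ChevG2
import Cfsg.Prelude.Def_ChevB2
import Cfsg.Prelude.Def_ChevD4
import Cfsg.Prelude.Def_ChevF4
import Cfsg.Prelude.Def_ChevE6
import Cfsg.Prelude.Def_ChevE7
import Cfsg.Prelude.Def_ChevE8
import Cfsg.Agent.Lib.Helper5.ChevBNDef

set_option autoImplicit false

namespace Cfsg.Agent.Lib.Helper5.ChevSym

open Cfsg Cfsg.Lie

def forestG2 : List (ℕ × ℕ) :=
  [(0, 7), (1, 7), (0, 6), (1, 6), (1, 4), (0, 8), (1, 10), (0, 5), (0, 3), (1, 1)]

def dynkinG2 : List (ℕ × ℕ) :=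
  [(0, 1)]

def forestB2 : List (ℕ × ℕ) :=
  [(0, 5), (1, 5), (0, 4), (1, 4), (1, 2), (0, 3)]

def dynkinB2 : List (ℕ × ℕ) :=
  [(0, 1)]

def forestD4 : List (ℕ × ℕ) :=
  [(0, 18), (1, 18), (1, 14), (2, 14), (3, 14), (2, 13), (3, 12), (1, 5), (2, 19), (3, 19),
  (2, 9), (3, 9), (3, 16), (2, 4), (3, 4), (3, 21), (3, 7), (3, 2), (1, 22), (1, 1)]

def dynkinD4 : List (ℕ × ℕ) :=
  [(0, 1), (1, 2), (1, 3)]

def forestF4 : List (ℕ × ℕ) :=
  [(0, 33), (1, 33), (1, 27), (2, 27), (1, 25), (2, 25), (3, 25), (3, 24), (1, 14), (2, 34),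
  (2, 20), (3, 28), (0, 30), (3, 30), (1, 22), (3, 22), (2, 13), (1, 35), (3, 35), (3, 19),
  (3, 41), (2, 31), (0, 17), (3, 17), (1, 12), (3, 12), (3, 37), (2, 42), (3, 6), (2, 16),
  (3, 10), (2, 38), (1, 43), (2, 5), (2, 9), (1, 39), (2, 45), (1, 4), (1, 8), (0, 40),
  (3, 46), (2, 2), (0, 7), (3, 1)]

def dynkinF4 : List (ℕ × ℕ) :=
  [(0, 1), (1, 2), (2, 3)]

def forestE6 : List (ℕ × ℕ) :=
  [(0, 56), (2, 56), (1, 46), (3, 46), (2, 42), (3, 42), (3, 39), (4, 39), (4, 37), (5, 37),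
  (5, 36), (2, 15), (3, 57), (3, 25), (2, 47), (4, 47), (3, 29), (4, 43), (4, 32), (5, 40),
  (5, 34), (3, 14), (1, 58), (4, 58), (2, 24), (4, 24), (4, 50), (5, 48), (4, 28), (5, 44),
  (5, 31), (1, 13), (4, 13), (4, 61), (5, 59), (4, 21), (5, 23), (3, 51), (5, 51), (5, 27),
  (4, 10), (5, 12), (3, 62), (5, 62), (3, 20), (5, 20), (5, 53), (3, 9), (5, 9), (2, 64),
  (5, 64), (5, 18), (4, 54), (2, 7), (5, 7), (5, 67), (4, 65), (4, 17), (5, 4), (4, 6),
  (4, 68), (4, 3), (3, 69), (3, 2), (1, 70), (1, 1)]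

def dynkinE6 : List (ℕ × ℕ) :=
  [(0, 2), (2, 3), (3, 1), (3, 4), (4, 5)]

def forestE7 : List (ℕ × ℕ) :=
  [(0, 93), (2, 93), (1, 78), (3, 78), (2, 73), (3, 73), (3, 69), (4, 69), (4, 66), (5, 66),
  (5, 64), (6, 64), (6, 63), (2, 32), (3, 94), (3, 47), (2, 79), (4, 79), (3, 52), (4, 74),
  (4, 56), (5, 70), (5, 59), (6, 67), (6, 61), (3, 31), (1, 95), (4, 95), (2, 46), (4, 46),
  (4, 83), (5, 80), (4, 51), (5, 75), (5, 55), (6, 71), (6, 58), (1, 30), (4, 30), (4, 99),
  (5, 96), (4, 42), (5, 45), (3, 84), (5, 84), (6, 81), (5, 50), (6, 76), (6, 54), (4, 26),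
  (5, 29), (3, 100), (5, 100), (6, 97), (3, 41), (5, 41), (6, 44), (5, 87), (6, 85), (6, 49),
  (3, 25), (5, 25), (6, 28), (2, 103), (5, 103), (6, 101), (5, 38), (6, 40), (4, 88), (6, 88),
  (2, 22), (5, 22), (6, 24), (5, 109), (4, 104), (6, 104), (4, 37), (6, 37), (6, 90), (5, 16),
  (4, 21), (6, 21), (4, 110), (6, 110), (6, 106), (6, 35), (5, 91), (4, 15), (6, 15), (6, 19),
  (3, 112), (6, 112), (5, 107), (5, 34), (3, 13), (6, 13), (5, 18), (1, 115), (6, 115),
  (5, 113), (1, 10), (6, 10), (5, 12), (6, 119), (5, 116), (6, 6), (5, 9), (5, 120), (4, 117),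
  (5, 5), (4, 8), (4, 121), (4, 4), (3, 122), (3, 3), (2, 123), (2, 2), (0, 124), (0, 1)]

def dynkinE7 : List (ℕ × ℕ) :=
  [(0, 2), (2, 3), (3, 1), (3, 4), (4, 5), (5, 6)]

def forestE8 : List (ℕ × ℕ) :=
  [(0, 162), (2, 162), (1, 141), (3, 141), (2, 135), (3, 135), (3, 130), (4, 130), (4, 126),
  (5, 126), (5, 123), (6, 123), (6, 121), (7, 121), (7, 120), (2, 77), (3, 163), (3, 98),
  (2, 142), (4, 142), (3, 104), (4, 136), (4, 109), (5, 131), (5, 113), (6, 127), (6, 116),
  (7, 124), (7, 118), (3, 76), (1, 164), (4, 164), (2, 97), (4, 97), (4, 147), (5, 143),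
  (4, 103), (5, 137), (5, 108), (6, 132), (6, 112), (7, 128), (7, 115), (1, 75), (4, 75),
  (4, 169), (5, 165), (4, 92), (5, 96), (3, 148), (5, 148), (6, 144), (5, 102), (6, 138),
  (6, 107), (7, 133), (7, 111), (4, 70), (5, 74), (3, 170), (5, 170), (6, 166), (3, 91),
  (5, 91), (6, 95), (5, 152), (6, 149), (7, 145), (6, 101), (7, 139), (7, 106), (3, 69),
  (5, 69), (6, 73), (2, 174), (5, 174), (6, 171), (7, 167), (5, 87), (6, 90), (7, 94),
  (4, 153), (6, 153), (7, 150), (7, 100), (2, 65), (5, 65), (6, 68), (7, 72), (5, 184),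
  (4, 175), (6, 175), (7, 172), (4, 86), (6, 86), (7, 89), (6, 156), (7, 154), (5, 55),
  (4, 64), (6, 64), (7, 67), (4, 185), (6, 185), (6, 178), (7, 176), (6, 83), (7, 85),
  (5, 157), (7, 157), (4, 54), (6, 54), (6, 61), (7, 63), (3, 188), (6, 188), (7, 186),
  (5, 179), (7, 179), (5, 82), (7, 82), (7, 159), (3, 51), (6, 51), (7, 53), (5, 60), (7, 60),
  (1, 194), (6, 194), (5, 189), (7, 189), (7, 181), (7, 80), (6, 160), (1, 45), (6, 45),
  (5, 50), (7, 50), (7, 58), (6, 204), (5, 195), (7, 195), (7, 191), (6, 182), (6, 79),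
  (6, 35), (5, 44), (7, 44), (7, 48), (6, 57), (5, 205), (7, 205), (4, 197), (7, 197),
  (6, 192), (5, 34), (7, 34), (4, 42), (7, 42), (6, 47), (4, 207), (7, 207), (7, 200),
  (6, 198), (4, 32), (7, 32), (7, 39), (6, 41), (3, 210), (7, 210), (6, 208), (6, 201),
  (3, 29), (7, 29), (6, 31), (6, 38), (2, 214), (7, 214), (6, 211), (5, 202), (2, 25), (7, 25),
  (6, 28), (5, 37), (0, 219), (7, 219), (6, 215), (5, 212), (0, 20), (7, 20), (6, 24), (5, 27),
  (7, 226), (6, 220), (5, 216), (7, 13), (6, 19), (5, 23), (6, 227), (5, 221), (4, 217),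
  (6, 12), (5, 18), (4, 22), (5, 228), (4, 222), (5, 11), (4, 17), (4, 229), (3, 223), (4, 10),
  (3, 16), (3, 230), (1, 224), (3, 9), (1, 15), (1, 231), (2, 231), (1, 8), (2, 8), (2, 233),
  (2, 6), (3, 234), (3, 5), (4, 235), (4, 4), (5, 236), (5, 3), (6, 237), (6, 2), (7, 238),
  (7, 1)]

def dynkinE8 : List (ℕ × ℕ) :=
  [(0, 2), (2, 3), (3, 1), (3, 4), (4, 5), (5, 6), (6, 7)]

set_option maxRecDepth 1000000 in
theorem chkForest_G2 : checkForest chevG2 forestG2 = true := by decide +kernel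

set_option maxRecDepth 1000000 in
theorem chkInjS_G2 : checkInjS chevG2 = true := by decide +kernel

set_option maxRecDepth 1000000 in
theorem chkConn_G2 : checkConn chevG2 dynkinG2 = true := by decide +kernel

set_option maxRecDepth 1000000 in
theorem chkForest_B2 : checkForest chevB2 forestB2 = true := by decide +kernel

set_option maxRecDepth 1000000 in
theorem chkInjS_B2 : checkInjS chevB2 = true := by decide +kernel

set_option maxRecDepth 1000000 in
theorem chkConn_B2 : checkConn chevB2 dynkinB2 = true := by decide +kernel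

set_option maxRecDepth 1000000 in
theorem chkForest_D4 : checkForest chevD4 forestD4 = true := by decide +kernel

set_option maxRecDepth 1000000 in
theorem chkInjS_D4 : checkInjS chevD4 = true := by decide +kernel

set_option maxRecDepth 1000000 in
theorem chkConn_D4 : checkConn chevD4 dynkinD4 = true := by decide +kernel

set_option maxRecDepth 1000000 in
theorem chkForest_F4 : checkForest chevF4 forestF4 = true := by decide +kernel

set_option maxRecDepth 1000000 in
theorem chkInjS_F4 : checkInjS chevF4 = true := by decide +kernel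

set_option maxRecDepth 1000000 in
theorem chkConn_F4 : checkConn chevF4 dynkinF4 = true := by decide +kernel

set_option maxRecDepth 1000000 in
theorem chkForest_E6 : checkForest chevE6 forestE6 = true := by decide +kernel

set_option maxRecDepth 1000000 in
theorem chkInjS_E6 : checkInjS chevE6 = true := by decide +kernel

set_option maxRecDepth 1000000 in
theorem chkConn_E6 : checkConn chevE6 dynkinE6 = true := by decide +kernel

set_option maxRecDepth 1000000 in
theorem chkForest_E7 : checkForest chevE7 forestE7 = true := by decide +kernel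

set_option maxRecDepth 1000000 in
theorem chkInjS_E7 : checkInjS chevE7 = true := by decide +kernel

set_option maxRecDepth 1000000 in
theorem chkConn_E7 : checkConn chevE7 dynkinE7 = true := by decide +kernel

set_option maxRecDepth 1000000 in
theorem chkForest_E8 : checkForest chevE8 forestE8 = true := by decide +kernel

set_option maxRecDepth 1000000 in
theorem chkInjS_E8 : checkInjS chevE8 = true := by decide +kernel

set_option maxRecDepth 1000000 in
theorem chkConn_E8 : checkConn chevE8 dynkinE8 = true := by decide +kernel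

/-- the spanning forest of the type -/
def forestOf (D : ChevalleyDatum) : List (ℕ × ℕ) :=
  if D.nroots = 12 then forestG2 else if D.nroots = 8 then forestB2
  else if D.nroots = 24 then forestD4 else if D.nroots = 48 then forestF4
  else if D.nroots = 72 then forestE6 else if D.nroots = 126 then forestE7 else forestE8

/-- the Dynkin diagram of the type -/
def dynkinOf (D : ChevalleyDatum) : List (ℕ × ℕ) :=
  if D.nroots = 12 then dynkinG2 else if D.nroots = 8 then dynkinB2
  else if D.nroots = 24 then dynkinD4 else if D.nroots = 48 then dynkinF4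
  else if D.nroots = 72 then dynkinE6 else if D.nroots = 126 then dynkinE7 else dynkinE8

theorem chkBN_all (D : ChevalleyDatum)
    (hD : D ∈ [chevG2, chevB2, chevD4, chevF4, chevE6, chevE7, chevE8]) :
    checkForest D (forestOf D) = true ∧ checkInjS D = true ∧
      checkConn D (dynkinOf D) = true := by
  simp only [List.mem_cons, List.not_mem_nil, or_false] at hD
  rcases hD with rfl | rfl | rfl | rfl | rfl | rfl | rfl
  · exact ⟨chkForest_G2, chkInjS_G2, chkConn_G2⟩
  · exact ⟨chkForest_B2, chkInjS_B2, chkConn_B2⟩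
  · exact ⟨chkForest_D4, chkInjS_D4, chkConn_D4⟩
  · exact ⟨chkForest_F4, chkInjS_F4, chkConn_F4⟩
  · exact ⟨chkForest_E6, chkInjS_E6, chkConn_E6⟩
  · exact ⟨chkForest_E7, chkInjS_E7, chkConn_E7⟩
  · exact ⟨chkForest_E8, chkInjS_E8, chkConn_E8⟩

end Cfsg.Agent.Lib.Helper5.ChevSym
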