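import Mathlib
import Cfsg.Prelude.Def_ChevE8
import Cfsg.Agent.Lib.Helper5.ChevSymRefl

set_option autoImplicit false

namespace Cfsg.Agent.Lib.Helper5.ChevSym

open Cfsg Cfsg.Lie

set_option maxRecDepth 1000000 in
theorem chkRefl_E8_0 : checkRefl chevE8 0 = true := by
  decide +kernel

set_option maxRecDepth 1000000 in
theorem chkRefl_E8_1 : checkRefl chevE8 1 = true := by
  decide +kernel

set_option maxRecDepth 1000000 in
theorem chkRefl_E8_2 : checkRefl chevE8 2 = true := by
  decide +kernel

set_option maxRecDepth 1000000 in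
theorem chkRefl_E8_3 : checkRefl chevE8 3 = true := by
  decide +kernel

set_option maxRecDepth 1000000 in
theorem chkRefl_E8_4 : checkRefl chevE8 4 = true := by
  decide +kernel

set_option maxRecDepth 1000000 in
theorem chkRefl_E8_5 : checkRefl chevE8 5 = true := by
  decide +kernel

set_option maxRecDepth 1000000 in
theorem chkRefl_E8_6 : checkRefl chevE8 6 = true := by
  decide +kernel

set_option maxRecDepth 1000000 in
theorem chkRefl_E8_7 : checkRefl chevE8 7 = true := by
  decide +kernel

theorem chkRefl_E8 (i : ℕ) (hi : i < 8) : checkRefl chevE8 i = true := by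
  interval_cases i
  · exact chkRefl_E8_0
  · exact chkRefl_E8_1
  · exact chkRefl_E8_2
  · exact chkRefl_E8_3
  · exact chkRefl_E8_4
  · exact chkRefl_E8_5
  · exact chkRefl_E8_6
  · exact chkRefl_E8_7

end Cfsg.Agent.Lib.Helper5.ChevSym
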