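import Mathlib
import Cfsg.Prelude.Def_ChevE7
import Cfsg.Agent.Lib.Helper5.ChevSymMono

set_option autoImplicit false

namespace Cfsg.Agent.Lib.Helper5.ChevSym

open Cfsg Cfsg.Lie

set_option maxRecDepth 1000000 in
theorem chkMonoR_E7_0 : checkRange (checkMonoR chevE7) 0 9 = true := by
  decide +kernel

set_option maxRecDepth 1000000 in
theorem chkMonoR_E7_9 : checkRange (checkMonoR chevE7) 9 9 = true := by
  decide +kernel

set_option maxRecDepth 1000000 in
theorem chkMonoR_E7_18 : checkRange (checkMonoR chevE7) 18 9 = true := by
  decide +kernel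

set_option maxRecDepth 1000000 in
theorem chkMonoR_E7_27 : checkRange (checkMonoR chevE7) 27 9 = true := by
  decide +kernel

set_option maxRecDepth 1000000 in
theorem chkMonoR_E7_36 : checkRange (checkMonoR chevE7) 36 9 = true := by
  decide +kernel

set_option maxRecDepth 1000000 in
theorem chkMonoR_E7_45 : checkRange (checkMonoR chevE7) 45 9 = true := by
  decide +kernel

set_option maxRecDepth 1000000 in
theorem chkMonoR_E7_54 : checkRange (checkMonoR chevE7) 54 9 = true := by
  decide +kernel

end Cfsg.Agent.Lib.Helper5.ChevSym
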