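import Mathlib
import Cfsg.Prelude.Def_ChevE7
import Cfsg.Agent.Lib.Helper5.ChevSymMono

set_option autoImplicit false

namespace Cfsg.Agent.Lib.Helper5.ChevSym

open Cfsg Cfsg.Lie

set_option maxRecDepth 1000000 in
theorem chkMonoR_E7_63 : checkRange (checkMonoR chevE7) 63 9 = true := by
  decide +kernel

set_option maxRecDepth 1000000 in
theorem chkMonoR_E7_72 : checkRange (checkMonoR chevE7) 72 9 = true := by
  decide +kernel

set_option maxRecDepth 1000000 in
theorem chkMonoR_E7_81 : checkRange (checkMonoR chevE7) 81 9 = true := by
  decide +kernel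

set_option maxRecDepth 1000000 in
theorem chkMonoR_E7_90 : checkRange (checkMonoR chevE7) 90 9 = true := by
  decide +kernel

set_option maxRecDepth 1000000 in
theorem chkMonoR_E7_99 : checkRange (checkMonoR chevE7) 99 9 = true := by
  decide +kernel

set_option maxRecDepth 1000000 in
theorem chkMonoR_E7_108 : checkRange (checkMonoR chevE7) 108 9 = true := by
  decide +kernel

set_option maxRecDepth 1000000 in
theorem chkMonoR_E7_117 : checkRange (checkMonoR chevE7) 117 9 = true := by
  decide +kernel

end Cfsg.Agent.Lib.Helper5.ChevSym
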