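import Mathlib
import Cfsg.Prelude.Def_ChevE7
import Cfsg.Agent.Lib.Helper5.ChevSymMono
import Cfsg.Agent.Lib.Helper5.ChevChk.MonoRE7_0
import Cfsg.Agent.Lib.Helper5.ChevChk.MonoRE7_1

set_option autoImplicit false

namespace Cfsg.Agent.Lib.Helper5.ChevSym

open Cfsg Cfsg.Lie

theorem chkMonoR_E7 (r : ℕ) (hr : r < 126) : checkMonoR chevE7 r = true := by
  rcases Nat.lt_or_ge r 9 with h | h
  · exact of_checkRange chkMonoR_E7_0 r (by omega) (by omega)
  rcases Nat.lt_or_ge r 18 with h | h
  · exact of_checkRange chkMonoR_E7_9 r (by omega) (by omega)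
  rcases Nat.lt_or_ge r 27 with h | h
  · exact of_checkRange chkMonoR_E7_18 r (by omega) (by omega)
  rcases Nat.lt_or_ge r 36 with h | h
  · exact of_checkRange chkMonoR_E7_27 r (by omega) (by omega)
  rcases Nat.lt_or_ge r 45 with h | h
  · exact of_checkRange chkMonoR_E7_36 r (by omega) (by omega)
  rcases Nat.lt_or_ge r 54 with h | h
  · exact of_checkRange chkMonoR_E7_45 r (by omega) (by omega)
  rcases Nat.lt_or_ge r 63 with h | h
  · exact of_checkRange chkMonoR_E7_54 r (by omega) (by omega)
  rcases Nat.lt_or_ge r 72 with h | h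
  · exact of_checkRange chkMonoR_E7_63 r (by omega) (by omega)
  rcases Nat.lt_or_ge r 81 with h | h
  · exact of_checkRange chkMonoR_E7_72 r (by omega) (by omega)
  rcases Nat.lt_or_ge r 90 with h | h
  · exact of_checkRange chkMonoR_E7_81 r (by omega) (by omega)
  rcases Nat.lt_or_ge r 99 with h | h
  · exact of_checkRange chkMonoR_E7_90 r (by omega) (by omega)
  rcases Nat.lt_or_ge r 108 with h | h
  · exact of_checkRange chkMonoR_E7_99 r (by omega) (by omega)
  rcases Nat.lt_or_ge r 117 with h | h
  · exact of_checkRange chkMonoR_E7_108 r (by omega) (by omega)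
  rcases Nat.lt_or_ge r 126 with h | h
  · exact of_checkRange chkMonoR_E7_117 r (by omega) (by omega)
  omega

end Cfsg.Agent.Lib.Helper5.ChevSym
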