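import Mathlib
import Cfsg.Prelude.Def_ChevE8
import Cfsg.Agent.Lib.Helper5.ChevSymMono
import Cfsg.Agent.Lib.Helper5.ChevChk.MonoRE8_0
import Cfsg.Agent.Lib.Helper5.ChevChk.MonoRE8_1
import Cfsg.Agent.Lib.Helper5.ChevChk.MonoRE8_2
import Cfsg.Agent.Lib.Helper5.ChevChk.MonoRE8_3

set_option autoImplicit false

namespace Cfsg.Agent.Lib.Helper5.ChevSym

open Cfsg Cfsg.Lie

theorem chkMonoR_E8 (r : ℕ) (hr : r < 240) : checkMonoR chevE8 r = true := by
  rcases Nat.lt_or_ge r 6 with h | h
  · exact of_checkRange chkMonoR_E8_0 r (by omega) (by omega)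
  rcases Nat.lt_or_ge r 12 with h | h
  · exact of_checkRange chkMonoR_E8_6 r (by omega) (by omega)
  rcases Nat.lt_or_ge r 18 with h | h
  · exact of_checkRange chkMonoR_E8_12 r (by omega) (by omega)
  rcases Nat.lt_or_ge r 24 with h | h
  · exact of_checkRange chkMonoR_E8_18 r (by omega) (by omega)
  rcases Nat.lt_or_ge r 30 with h | h
  · exact of_checkRange chkMonoR_E8_24 r (by omega) (by omega)
  rcases Nat.lt_or_ge r 36 with h | h
  · exact of_checkRange chkMonoR_E8_30 r (by omega) (by omega)
  rcases Nat.lt_or_ge r 42 with h | h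
  · exact of_checkRange chkMonoR_E8_36 r (by omega) (by omega)
  rcases Nat.lt_or_ge r 48 with h | h
  · exact of_checkRange chkMonoR_E8_42 r (by omega) (by omega)
  rcases Nat.lt_or_ge r 54 with h | h
  · exact of_checkRange chkMonoR_E8_48 r (by omega) (by omega)
  rcases Nat.lt_or_ge r 60 with h | h
  · exact of_checkRange chkMonoR_E8_54 r (by omega) (by omega)
  rcases Nat.lt_or_ge r 66 with h | h
  · exact of_checkRange chkMonoR_E8_60 r (by omega) (by omega)
  rcases Nat.lt_or_ge r 72 with h | h
  · exact of_checkRange chkMonoR_E8_66 r (by omega) (by omega)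
  rcases Nat.lt_or_ge r 78 with h | h
  · exact of_checkRange chkMonoR_E8_72 r (by omega) (by omega)
  rcases Nat.lt_or_ge r 84 with h | h
  · exact of_checkRange chkMonoR_E8_78 r (by omega) (by omega)
  rcases Nat.lt_or_ge r 90 with h | h
  · exact of_checkRange chkMonoR_E8_84 r (by omega) (by omega)
  rcases Nat.lt_or_ge r 96 with h | h
  · exact of_checkRange chkMonoR_E8_90 r (by omega) (by omega)
  rcases Nat.lt_or_ge r 102 with h | h
  · exact of_checkRange chkMonoR_E8_96 r (by omega) (by omega)
  rcases Nat.lt_or_ge r 108 with h | h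
  · exact of_checkRange chkMonoR_E8_102 r (by omega) (by omega)
  rcases Nat.lt_or_ge r 114 with h | h
  · exact of_checkRange chkMonoR_E8_108 r (by omega) (by omega)
  rcases Nat.lt_or_ge r 120 with h | h
  · exact of_checkRange chkMonoR_E8_114 r (by omega) (by omega)
  rcases Nat.lt_or_ge r 126 with h | h
  · exact of_checkRange chkMonoR_E8_120 r (by omega) (by omega)
  rcases Nat.lt_or_ge r 132 with h | h
  · exact of_checkRange chkMonoR_E8_126 r (by omega) (by omega)
  rcases Nat.lt_or_ge r 138 with h | h
  · exact of_checkRange chkMonoR_E8_132 r (by omega) (by omega)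
  rcases Nat.lt_or_ge r 144 with h | h
  · exact of_checkRange chkMonoR_E8_138 r (by omega) (by omega)
  rcases Nat.lt_or_ge r 150 with h | h
  · exact of_checkRange chkMonoR_E8_144 r (by omega) (by omega)
  rcases Nat.lt_or_ge r 156 with h | h
  · exact of_checkRange chkMonoR_E8_150 r (by omega) (by omega)
  rcases Nat.lt_or_ge r 162 with h | h
  · exact of_checkRange chkMonoR_E8_156 r (by omega) (by omega)
  rcases Nat.lt_or_ge r 168 with h | h
  · exact of_checkRange chkMonoR_E8_162 r (by omega) (by omega)
  rcases Nat.lt_or_ge r 174 with h | h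
  · exact of_checkRange chkMonoR_E8_168 r (by omega) (by omega)
  rcases Nat.lt_or_ge r 180 with h | h
  · exact of_checkRange chkMonoR_E8_174 r (by omega) (by omega)
  rcases Nat.lt_or_ge r 186 with h | h
  · exact of_checkRange chkMonoR_E8_180 r (by omega) (by omega)
  rcases Nat.lt_or_ge r 192 with h | h
  · exact of_checkRange chkMonoR_E8_186 r (by omega) (by omega)
  rcases Nat.lt_or_ge r 198 with h | h
  · exact of_checkRange chkMonoR_E8_192 r (by omega) (by omega)
  rcases Nat.lt_or_ge r 204 with h | h
  · exact of_checkRange chkMonoR_E8_198 r (by omega) (by omega)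
  rcases Nat.lt_or_ge r 210 with h | h
  · exact of_checkRange chkMonoR_E8_204 r (by omega) (by omega)
  rcases Nat.lt_or_ge r 216 with h | h
  · exact of_checkRange chkMonoR_E8_210 r (by omega) (by omega)
  rcases Nat.lt_or_ge r 222 with h | h
  · exact of_checkRange chkMonoR_E8_216 r (by omega) (by omega)
  rcases Nat.lt_or_ge r 228 with h | h
  · exact of_checkRange chkMonoR_E8_222 r (by omega) (by omega)
  rcases Nat.lt_or_ge r 234 with h | h
  · exact of_checkRange chkMonoR_E8_228 r (by omega) (by omega)
  rcases Nat.lt_or_ge r 240 with h | h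
  · exact of_checkRange chkMonoR_E8_234 r (by omega) (by omega)
  omega

end Cfsg.Agent.Lib.Helper5.ChevSym
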