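import Mathlib
import Cfsg.Prelude.Def_ChevF4
import Cfsg.Agent.Lib.Helper5.ChevSymMono

set_option autoImplicit false

namespace Cfsg.Agent.Lib.Helper5.ChevSym

open Cfsg Cfsg.Lie

set_option maxRecDepth 1000000 in
theorem chkMonoR_F4_0 : checkRange (checkMonoR chevF4) 0 16 = true := by
  decide +kernel

set_option maxRecDepth 1000000 in
theorem chkMonoR_F4_16 : checkRange (checkMonoR chevF4) 16 16 = true := by
  decide +kernel

set_option maxRecDepth 1000000 in
theorem chkMonoR_F4_32 : checkRange (checkMonoR chevF4) 32 16 = true := by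
  decide +kernel

end Cfsg.Agent.Lib.Helper5.ChevSym
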