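import Mathlib
import Cfsg.Prelude.Def_ChevF4
import Cfsg.Agent.Lib.Helper5.ChevSymMono
import Cfsg.Agent.Lib.Helper5.ChevChk.MonoRF4_0

set_option autoImplicit false

namespace Cfsg.Agent.Lib.Helper5.ChevSym

open Cfsg Cfsg.Lie

theorem chkMonoR_F4 (r : ℕ) (hr : r < 48) : checkMonoR chevF4 r = true := by
  rcases Nat.lt_or_ge r 16 with h | h
  · exact of_checkRange chkMonoR_F4_0 r (by omega) (by omega)
  rcases Nat.lt_or_ge r 32 with h | h
  · exact of_checkRange chkMonoR_F4_16 r (by omega) (by omega)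
  rcases Nat.lt_or_ge r 48 with h | h
  · exact of_checkRange chkMonoR_F4_32 r (by omega) (by omega)
  omega

end Cfsg.Agent.Lib.Helper5.ChevSym
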