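import Mathlib
import Cfsg.Agent.Lib.Helper5.ChevChk.MonoRG2
import Cfsg.Agent.Lib.Helper5.ChevChk.MonoRB2
import Cfsg.Agent.Lib.Helper5.ChevChk.MonoRD4
import Cfsg.Agent.Lib.Helper5.ChevChk.MonoRF4
import Cfsg.Agent.Lib.Helper5.ChevChk.MonoRE6
import Cfsg.Agent.Lib.Helper5.ChevChk.MonoRE7
import Cfsg.Agent.Lib.Helper5.ChevChk.MonoRE8

set_option autoImplicit false

namespace Cfsg.Agent.Lib.Helper5.ChevSym

open Cfsg Cfsg.Lie

theorem chkMonoR_all (D : ChevalleyDatum)
    (hD : D ∈ [chevG2, chevB2, chevD4, chevF4, chevE6, chevE7, chevE8]) (r : ℕ)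
    (hr : r < D.nroots) : checkMonoR D r = true := by
  simp only [List.mem_cons, List.not_mem_nil, or_false] at hD
  rcases hD with rfl | rfl | rfl | rfl | rfl | rfl | rfl
  · exact chkMonoR_G2 r hr
  · exact chkMonoR_B2 r hr
  · exact chkMonoR_D4 r hr
  · exact chkMonoR_F4 r hr
  · exact chkMonoR_E6 r hr
  · exact chkMonoR_E7 r hr
  · exact chkMonoR_E8 r hr

/-- `n_r(1)` maps root vectors to multiples of root vectors and the Cartan part into itself -/
theorem nMat_isRootMono {F : Type*} [Field F] (D : ChevalleyDatum)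
    (hD : D ∈ [chevG2, chevB2, chevD4, chevF4, chevE6, chevE7, chevE8]) (r : ℕ)
    (hr : r < D.nroots) : IsRootMono D (D.nMat F r 1) :=
  nMat_isRootMono_of_check D r (chkMonoR_all D hD r hr)

end Cfsg.Agent.Lib.Helper5.ChevSym
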