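import Mathlib
import Cfsg.Prelude.Def_ChevG2
import Cfsg.Prelude.Def_ChevB2
import Cfsg.Prelude.Def_ChevD4
import Cfsg.Prelude.Def_ChevF4
import Cfsg.Prelude.Def_ChevE6
import Cfsg.Prelude.Def_ChevE7
import Cfsg.Prelude.Def_ChevE8
import Cfsg.Agent.Lib.Helper5.ChevCoLinDef

set_option autoImplicit false

namespace Cfsg.Agent.Lib.Helper5.ChevSym

open Cfsg Cfsg.Lie

set_option maxRecDepth 1000000 in
theorem chkCoBasis_G2 : checkCoBasis chevG2 = true := by decide +kernel

set_option maxRecDepth 1000000 in
theorem chkCoBasis_B2 : checkCoBasis chevB2 = true := by decide +kernel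

set_option maxRecDepth 1000000 in
theorem chkCoBasis_D4 : checkCoBasis chevD4 = true := by decide +kernel

set_option maxRecDepth 1000000 in
theorem chkCoBasis_F4 : checkCoBasis chevF4 = true := by decide +kernel

set_option maxRecDepth 1000000 in
theorem chkCoBasis_E6 : checkCoBasis chevE6 = true := by decide +kernel

set_option maxRecDepth 1000000 in
theorem chkCoBasis_E7 : checkCoBasis chevE7 = true := by decide +kernel

set_option maxRecDepth 1000000 in
theorem chkCoBasis_E8 : checkCoBasis chevE8 = true := by decide +kernel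

theorem chkCoBasis_all (D : ChevalleyDatum)
    (hD : D ∈ [chevG2, chevB2, chevD4, chevF4, chevE6, chevE7, chevE8]) :
    checkCoBasis D = true := by
  simp only [List.mem_cons, List.not_mem_nil, or_false] at hD
  rcases hD with rfl | rfl | rfl | rfl | rfl | rfl | rfl
  · exact chkCoBasis_G2
  · exact chkCoBasis_B2
  · exact chkCoBasis_D4
  · exact chkCoBasis_F4
  · exact chkCoBasis_E6
  · exact chkCoBasis_E7
  · exact chkCoBasis_E8

end Cfsg.Agent.Lib.Helper5.ChevSym
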