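import Mathlib
import Cfsg.Prelude.Def_ChevF4
import Cfsg.Agent.Lib.Helper5.ChevCoLinDef

set_option autoImplicit false

namespace Cfsg.Agent.Lib.Helper5.ChevSym

open Cfsg Cfsg.Lie

set_option maxRecDepth 1000000 in
theorem chkCoLin_F4_0 : checkCoLin chevF4 0 = true := by
  decide +kernel

set_option maxRecDepth 1000000 in
theorem chkCoLin_F4_1 : checkCoLin chevF4 1 = true := by
  decide +kernel

set_option maxRecDepth 1000000 in
theorem chkCoLin_F4_2 : checkCoLin chevF4 2 = true := by
  decide +kernel

set_option maxRecDepth 1000000 in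
theorem chkCoLin_F4_3 : checkCoLin chevF4 3 = true := by
  decide +kernel

theorem chkCoLin_F4 (i : ℕ) (hi : i < 4) : checkCoLin chevF4 i = true := by
  interval_cases i
  · exact chkCoLin_F4_0
  · exact chkCoLin_F4_1
  · exact chkCoLin_F4_2
  · exact chkCoLin_F4_3

end Cfsg.Agent.Lib.Helper5.ChevSym
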