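import Mathlib
import Cfsg.Prelude.Def_ChevE8
import Cfsg.Agent.Lib.Helper5.ChevOrdDef

set_option autoImplicit false

namespace Cfsg.Agent.Lib.Helper5.ChevSym

open Cfsg Cfsg.Lie

set_option maxRecDepth 1000000 in
theorem chkChainPos_E8_0 : checkRange (checkChainPos chevE8) 0 40 = true := by
  decide +kernel

set_option maxRecDepth 1000000 in
theorem chkChainPos_E8_40 : checkRange (checkChainPos chevE8) 40 40 = true := by
  decide +kernel

set_option maxRecDepth 1000000 in
theorem chkChainPos_E8_80 : checkRange (checkChainPos chevE8) 80 40 = true := by
  decide +kernel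

set_option maxRecDepth 1000000 in
theorem chkChainPos_E8_120 : checkRange (checkChainPos chevE8) 120 40 = true := by
  decide +kernel

set_option maxRecDepth 1000000 in
theorem chkChainPos_E8_160 : checkRange (checkChainPos chevE8) 160 40 = true := by
  decide +kernel

set_option maxRecDepth 1000000 in
theorem chkChainPos_E8_200 : checkRange (checkChainPos chevE8) 200 40 = true := by
  decide +kernel

end Cfsg.Agent.Lib.Helper5.ChevSym
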