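import Mathlib
import Cfsg.Prelude.Def_ChevE6
import Cfsg.Agent.Lib.Helper5.ChevOrdDef

set_option autoImplicit false

namespace Cfsg.Agent.Lib.Helper5.ChevSym

open Cfsg Cfsg.Lie

set_option maxRecDepth 1000000 in
theorem chkOrd_E6_0 : checkRange (checkOrd chevE6) 0 12 = true := by
  decide +kernel

set_option maxRecDepth 1000000 in
theorem chkOrd_E6_12 : checkRange (checkOrd chevE6) 12 12 = true := by
  decide +kernel

set_option maxRecDepth 1000000 in
theorem chkOrd_E6_24 : checkRange (checkOrd chevE6) 24 12 = true := by
  decide +kernel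

set_option maxRecDepth 1000000 in
theorem chkOrd_E6_36 : checkRange (checkOrd chevE6) 36 12 = true := by
  decide +kernel

set_option maxRecDepth 1000000 in
theorem chkOrd_E6_48 : checkRange (checkOrd chevE6) 48 12 = true := by
  decide +kernel

set_option maxRecDepth 1000000 in
theorem chkOrd_E6_60 : checkRange (checkOrd chevE6) 60 12 = true := by
  decide +kernel

end Cfsg.Agent.Lib.Helper5.ChevSym
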