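import Mathlib
import Cfsg.Prelude.Def_ChevE7
import Cfsg.Agent.Lib.Helper5.ChevOrdDef

set_option autoImplicit false

namespace Cfsg.Agent.Lib.Helper5.ChevSym

open Cfsg Cfsg.Lie

set_option maxRecDepth 1000000 in
theorem chkOrd_E7_0 : checkRange (checkOrd chevE7) 0 14 = true := by
  decide +kernel

set_option maxRecDepth 1000000 in
theorem chkOrd_E7_14 : checkRange (checkOrd chevE7) 14 14 = true := by
  decide +kernel

set_option maxRecDepth 1000000 in
theorem chkOrd_E7_28 : checkRange (checkOrd chevE7) 28 14 = true := by
  decide +kernel

set_option maxRecDepth 1000000 in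
theorem chkOrd_E7_42 : checkRange (checkOrd chevE7) 42 14 = true := by
  decide +kernel

set_option maxRecDepth 1000000 in
theorem chkOrd_E7_56 : checkRange (checkOrd chevE7) 56 14 = true := by
  decide +kernel

set_option maxRecDepth 1000000 in
theorem chkOrd_E7_70 : checkRange (checkOrd chevE7) 70 14 = true := by
  decide +kernel

set_option maxRecDepth 1000000 in
theorem chkOrd_E7_84 : checkRange (checkOrd chevE7) 84 14 = true := by
  decide +kernel

set_option maxRecDepth 1000000 in
theorem chkOrd_E7_98 : checkRange (checkOrd chevE7) 98 14 = true := by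
  decide +kernel

set_option maxRecDepth 1000000 in
theorem chkOrd_E7_112 : checkRange (checkOrd chevE7) 112 14 = true := by
  decide +kernel

end Cfsg.Agent.Lib.Helper5.ChevSym
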