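import Mathlib
import Cfsg.Prelude.Def_ChevE7
import Cfsg.Agent.Lib.Helper5.ChevOrdDef
import Cfsg.Agent.Lib.Helper5.ChevChk.OrdE7_0

set_option autoImplicit false

namespace Cfsg.Agent.Lib.Helper5.ChevSym

open Cfsg Cfsg.Lie

theorem chkOrd_E7 (r : ℕ) (hr : r < 126) : checkOrd chevE7 r = true := by
  rcases Nat.lt_or_ge r 14 with h | h
  · exact of_checkRange chkOrd_E7_0 r (by omega) (by omega)
  rcases Nat.lt_or_ge r 28 with h | h
  · exact of_checkRange chkOrd_E7_14 r (by omega) (by omega)
  rcases Nat.lt_or_ge r 42 with h | h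
  · exact of_checkRange chkOrd_E7_28 r (by omega) (by omega)
  rcases Nat.lt_or_ge r 56 with h | h
  · exact of_checkRange chkOrd_E7_42 r (by omega) (by omega)
  rcases Nat.lt_or_ge r 70 with h | h
  · exact of_checkRange chkOrd_E7_56 r (by omega) (by omega)
  rcases Nat.lt_or_ge r 84 with h | h
  · exact of_checkRange chkOrd_E7_70 r (by omega) (by omega)
  rcases Nat.lt_or_ge r 98 with h | h
  · exact of_checkRange chkOrd_E7_84 r (by omega) (by omega)
  rcases Nat.lt_or_ge r 112 with h | h
  · exact of_checkRange chkOrd_E7_98 r (by omega) (by omega)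
  rcases Nat.lt_or_ge r 126 with h | h
  · exact of_checkRange chkOrd_E7_112 r (by omega) (by omega)
  omega

end Cfsg.Agent.Lib.Helper5.ChevSym
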