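import Mathlib
import Cfsg.Prelude.Def_ChevE8
import Cfsg.Agent.Lib.Helper5.ChevOrdDef

set_option autoImplicit false

namespace Cfsg.Agent.Lib.Helper5.ChevSym

open Cfsg Cfsg.Lie

set_option maxRecDepth 1000000 in
theorem chkOrd_E8_160 : checkRange (checkOrd chevE8) 160 10 = true := by
  decide +kernel

set_option maxRecDepth 1000000 in
theorem chkOrd_E8_170 : checkRange (checkOrd chevE8) 170 10 = true := by
  decide +kernel

set_option maxRecDepth 1000000 in
theorem chkOrd_E8_180 : checkRange (checkOrd chevE8) 180 10 = true := by
  decide +kernel

set_option maxRecDepth 1000000 in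
theorem chkOrd_E8_190 : checkRange (checkOrd chevE8) 190 10 = true := by
  decide +kernel

set_option maxRecDepth 1000000 in
theorem chkOrd_E8_200 : checkRange (checkOrd chevE8) 200 10 = true := by
  decide +kernel

set_option maxRecDepth 1000000 in
theorem chkOrd_E8_210 : checkRange (checkOrd chevE8) 210 10 = true := by
  decide +kernel

set_option maxRecDepth 1000000 in
theorem chkOrd_E8_220 : checkRange (checkOrd chevE8) 220 10 = true := by
  decide +kernel

set_option maxRecDepth 1000000 in
theorem chkOrd_E8_230 : checkRange (checkOrd chevE8) 230 10 = true := by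
  decide +kernel

end Cfsg.Agent.Lib.Helper5.ChevSym
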