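import Mathlib
import Cfsg.Agent.Lib.Helper5.ChevChk.OrdG2
import Cfsg.Agent.Lib.Helper5.ChevChk.OrdB2
import Cfsg.Agent.Lib.Helper5.ChevChk.OrdD4
import Cfsg.Agent.Lib.Helper5.ChevChk.OrdF4
import Cfsg.Agent.Lib.Helper5.ChevChk.OrdE6
import Cfsg.Agent.Lib.Helper5.ChevChk.OrdE7
import Cfsg.Agent.Lib.Helper5.ChevChk.OrdE8
import Cfsg.Agent.Lib.Helper5.ChevChk.ChainPosG2
import Cfsg.Agent.Lib.Helper5.ChevChk.ChainPosB2
import Cfsg.Agent.Lib.Helper5.ChevChk.ChainPosD4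
import Cfsg.Agent.Lib.Helper5.ChevChk.ChainPosF4
import Cfsg.Agent.Lib.Helper5.ChevChk.ChainPosE6
import Cfsg.Agent.Lib.Helper5.ChevChk.ChainPosE7
import Cfsg.Agent.Lib.Helper5.ChevChk.ChainPosE8

set_option autoImplicit false

namespace Cfsg.Agent.Lib.Helper5.ChevSym

open Cfsg Cfsg.Lie

theorem chkOrd_all (D : ChevalleyDatum)
    (hD : D ∈ [chevG2, chevB2, chevD4, chevF4, chevE6, chevE7, chevE8]) (r : ℕ)
    (hr : r < D.nroots) : checkOrd D r = true := by
  simp only [List.mem_cons, List.not_mem_nil, or_false] at hD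
  rcases hD with rfl | rfl | rfl | rfl | rfl | rfl | rfl
  · exact chkOrd_G2 r hr
  · exact chkOrd_B2 r hr
  · exact chkOrd_D4 r hr
  · exact chkOrd_F4 r hr
  · exact chkOrd_E6 r hr
  · exact chkOrd_E7 r hr
  · exact chkOrd_E8 r hr

theorem chkChainPos_all (D : ChevalleyDatum)
    (hD : D ∈ [chevG2, chevB2, chevD4, chevF4, chevE6, chevE7, chevE8]) (r : ℕ)
    (hr : r < D.nroots) : checkChainPos D r = true := by
  simp only [List.mem_cons, List.not_mem_nil, or_false] at hD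
  rcases hD with rfl | rfl | rfl | rfl | rfl | rfl | rfl
  · exact chkChainPos_G2 r hr
  · exact chkChainPos_B2 r hr
  · exact chkChainPos_D4 r hr
  · exact chkChainPos_F4 r hr
  · exact chkChainPos_E6 r hr
  · exact chkChainPos_E7 r hr
  · exact chkChainPos_E8 r hr

end Cfsg.Agent.Lib.Helper5.ChevSym
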