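import Mathlib
import Cfsg.Prelude.Def_ChevE7
import Cfsg.Agent.Lib.Helper5.ChevWRelDef

set_option autoImplicit false

namespace Cfsg.Agent.Lib.Helper5.ChevSym

open Cfsg Cfsg.Lie

set_option maxRecDepth 1000000 in
theorem chkCInv_E7_0 : checkCInv chevE7 0 = true := by
  decide +kernel

set_option maxRecDepth 1000000 in
theorem chkCInv_E7_1 : checkCInv chevE7 1 = true := by
  decide +kernel

set_option maxRecDepth 1000000 in
theorem chkCInv_E7_2 : checkCInv chevE7 2 = true := by
  decide +kernel

set_option maxRecDepth 1000000 in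
theorem chkCInv_E7_3 : checkCInv chevE7 3 = true := by
  decide +kernel

set_option maxRecDepth 1000000 in
theorem chkCInv_E7_4 : checkCInv chevE7 4 = true := by
  decide +kernel

set_option maxRecDepth 1000000 in
theorem chkCInv_E7_5 : checkCInv chevE7 5 = true := by
  decide +kernel

set_option maxRecDepth 1000000 in
theorem chkCInv_E7_6 : checkCInv chevE7 6 = true := by
  decide +kernel

theorem chkCInv_E7 (i : ℕ) (hi : i < 7) : checkCInv chevE7 i = true := by
  interval_cases i
  · exact chkCInv_E7_0
  · exact chkCInv_E7_1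
  · exact chkCInv_E7_2
  · exact chkCInv_E7_3
  · exact chkCInv_E7_4
  · exact chkCInv_E7_5
  · exact chkCInv_E7_6

end Cfsg.Agent.Lib.Helper5.ChevSym
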