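import Mathlib
import Cfsg.Agent.Lib.Helper5.ChevChk.CInvG2
import Cfsg.Agent.Lib.Helper5.ChevChk.CInvB2
import Cfsg.Agent.Lib.Helper5.ChevChk.CInvD4
import Cfsg.Agent.Lib.Helper5.ChevChk.CInvF4
import Cfsg.Agent.Lib.Helper5.ChevChk.CInvE6
import Cfsg.Agent.Lib.Helper5.ChevChk.CInvE7
import Cfsg.Agent.Lib.Helper5.ChevChk.CInvE8

set_option autoImplicit false

namespace Cfsg.Agent.Lib.Helper5.ChevSym

open Cfsg Cfsg.Lie

theorem chkCInv_all (D : ChevalleyDatum)
    (hD : D ∈ [chevG2, chevB2, chevD4, chevF4, chevE6, chevE7, chevE8]) (i : ℕ) (hi : i < D.rank) :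
    checkCInv D i = true := by
  simp only [List.mem_cons, List.not_mem_nil, or_false] at hD
  rcases hD with rfl | rfl | rfl | rfl | rfl | rfl | rfl
  · exact chkCInv_G2 i hi
  · exact chkCInv_B2 i hi
  · exact chkCInv_D4 i hi
  · exact chkCInv_F4 i hi
  · exact chkCInv_E6 i hi
  · exact chkCInv_E7 i hi
  · exact chkCInv_E8 i hi

end Cfsg.Agent.Lib.Helper5.ChevSym
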