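import Mathlib
import Cfsg.Prelude.Def_ChevG2
import Cfsg.Prelude.Def_ChevB2
import Cfsg.Prelude.Def_ChevD4
import Cfsg.Prelude.Def_ChevF4
import Cfsg.Prelude.Def_ChevE6
import Cfsg.Prelude.Def_ChevE7
import Cfsg.Prelude.Def_ChevE8
import Cfsg.Agent.Lib.Helper5.ChevW0Def

set_option autoImplicit false

namespace Cfsg.Agent.Lib.Helper5.ChevSym

open Cfsg Cfsg.Lie

set_option maxRecDepth 1000000 in
theorem chkW0_G2 : checkW0 chevG2 [0, 1, 0, 1, 0, 1] = true := by decide +kernel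

set_option maxRecDepth 1000000 in
theorem chkW0_B2 : checkW0 chevB2 [0, 1, 0, 1] = true := by decide +kernel

set_option maxRecDepth 1000000 in
theorem chkW0_D4 : checkW0 chevD4 [0, 1, 0, 2, 1, 0, 3, 1, 0, 2, 1, 3] = true := by decide +kernel

set_option maxRecDepth 1000000 in
theorem chkW0_F4 : checkW0 chevF4
    [0, 1, 0, 2, 1, 0, 2, 1, 2, 3, 2, 1, 0, 2, 1, 2, 3, 2, 1, 0, 2, 1, 2, 3] = true := by
  decide +kernel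

set_option maxRecDepth 1000000 in
theorem chkW0_E6 : checkW0 chevE6
    [0, 1, 2, 0, 3, 1, 2, 0, 3, 2, 4, 3, 1, 2, 0, 3, 2, 4, 3, 1, 5, 4, 3, 1, 2, 0, 3, 2, 4, 3, 1,
      5, 4, 3, 2, 0] = true := by
  decide +kernel

set_option maxRecDepth 1000000 in
theorem chkW0_E7 : checkW0 chevE7
    [0, 1, 2, 0, 3, 1, 2, 0, 3, 2, 4, 3, 1, 2, 0, 3, 2, 4, 3, 1, 5, 4, 3, 1, 2, 0, 3, 2, 4, 3, 1,
      5, 4, 3, 2, 0, 6, 5, 4, 3, 1, 2, 0, 3, 2, 4, 3, 1, 5, 4, 3, 2, 0, 6, 5, 4, 3, 1, 2, 3, 4, 5,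
      6] = true := by
  decide +kernel

set_option maxRecDepth 1000000 in
theorem chkW0_E8 : checkW0 chevE8
    [0, 1, 2, 0, 3, 1, 2, 0, 3, 2, 4, 3, 1, 2, 0, 3, 2, 4, 3, 1, 5, 4, 3, 1, 2, 0, 3, 2, 4, 3, 1,
      5, 4, 3, 2, 0, 6, 5, 4, 3, 1, 2, 0, 3, 2, 4, 3, 1, 5, 4, 3, 2, 0, 6, 5, 4, 3, 1, 2, 3, 4, 5,
      6, 7, 6, 5, 4, 3, 1, 2, 0, 3, 2, 4, 3, 1, 5, 4, 3, 2, 0, 6, 5, 4, 3, 1, 2, 3, 4, 5, 6, 7, 6,
      5, 4, 3, 1, 2, 0, 3, 2, 4, 3, 1, 5, 4, 3, 2, 0, 6, 5, 4, 3, 1, 2, 3, 4, 5, 6, 7] = true := by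
  decide +kernel

theorem exists_w0 (D : ChevalleyDatum)
    (hD : D ∈ [chevG2, chevB2, chevD4, chevF4, chevE6, chevE7, chevE8]) :
    ∃ w : List ℕ, checkW0 D w = true := by
  simp only [List.mem_cons, List.not_mem_nil, or_false] at hD
  rcases hD with rfl | rfl | rfl | rfl | rfl | rfl | rfl
  · exact ⟨_, chkW0_G2⟩
  · exact ⟨_, chkW0_B2⟩
  · exact ⟨_, chkW0_D4⟩
  · exact ⟨_, chkW0_F4⟩
  · exact ⟨_, chkW0_E6⟩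
  · exact ⟨_, chkW0_E7⟩
  · exact ⟨_, chkW0_E8⟩

end Cfsg.Agent.Lib.Helper5.ChevSym
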