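import Mathlib
import Cfsg.Prelude.Def_ChevE6
import Cfsg.Prelude.Def_ChevD4
import Cfsg.Agent.Lib.Helper5.ChevGraphDef

set_option autoImplicit false

namespace Cfsg.Agent.Lib.Helper5.ChevSym

open Cfsg Cfsg.Lie

/-- the graph datum of `E6` for the node permutation `[5, 1, 4, 3, 2, 0]` -/
def gE6 : GraphData where
  rho := [5, 1, 4, 3, 2, 0]
  rhoInv := [5, 1, 4, 3, 2, 0]
  pr := [0, 1, 2, 5, 16, 3, 6, 17, 8, 19, 22, 11, 26, 30, 33, 35, 4, 7, 18, 9, 20, 23, 10, 21, 24, 25, 12, 27, 31, 34, 13, 28, 32, 14, 29, 15, 56, 42, 57, 39, 43, 58, 37, 40, 44, 59, 46, 47, 50, 61, 48, 51, 62, 53, 64, 67, 36, 38, 41, 45, 60, 49, 52, 63, 54, 65, 68, 55, 66, 69, 70, 71]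
  prInv := [0, 1, 2, 5, 16, 3, 6, 17, 8, 19, 22, 11, 26, 30, 33, 35, 4, 7, 18, 9, 20, 23, 10, 21, 24, 25, 12, 27, 31, 34, 13, 28, 32, 14, 29, 15, 56, 42, 57, 39, 43, 58, 37, 40, 44, 59, 46, 47, 50, 61, 48, 51, 62, 53, 64, 67, 36, 38, 41, 45, 60, 49, 52, 63, 54, 65, 68, 55, 66, 69, 70, 71]
  eps := [1, 1, 1, 1, -1, 1, 1, -1, 1, -1, -1, 1, -1, 1, -1, 1, -1, -1, 1, -1, 1, 1, -1, 1, 1, 1, -1, 1, -1, 1, 1, -1, 1, -1, 1, 1, 1, 1, -1, 1, -1, 1, 1, -1, 1, -1, 1, 1, 1, -1, 1, 1, -1, 1, -1, -1, 1, -1, 1, -1, 1, -1, -1, 1, -1, 1, 1, -1, 1, 1, 1, 1]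

/-- the graph datum of `D4` for the node permutation `[2, 1, 3, 0]` -/
def gD4a : GraphData where
  rho := [2, 1, 3, 0]
  rhoInv := [3, 1, 0, 2]
  pr := [0, 1, 6, 2, 7, 10, 3, 8, 4, 9, 11, 5, 18, 12, 14, 19, 15, 20, 13, 16, 21, 17, 22, 23]
  prInv := [0, 1, 3, 6, 8, 11, 2, 4, 7, 9, 5, 10, 13, 18, 14, 16, 19, 21, 12, 15, 17, 20, 22, 23]
  eps := [1, 1, -1, 1, -1, 1, -1, 1, -1, 1, 1, 1, 1, 1, 1, -1, 1, -1, 1, -1, 1, -1, 1, 1]

/-- the graph datum of `D4` for the node permutation `[3, 1, 0, 2]` -/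
def gD4b : GraphData where
  rho := [3, 1, 0, 2]
  rhoInv := [2, 1, 3, 0]
  pr := [0, 1, 3, 6, 8, 11, 2, 4, 7, 9, 5, 10, 13, 18, 14, 16, 19, 21, 12, 15, 17, 20, 22, 23]
  prInv := [0, 1, 6, 2, 7, 10, 3, 8, 4, 9, 11, 5, 18, 12, 14, 19, 15, 20, 13, 16, 21, 17, 22, 23]
  eps := [1, 1, 1, -1, -1, 1, -1, -1, 1, 1, 1, 1, 1, 1, 1, 1, -1, -1, 1, -1, -1, 1, 1, 1]

set_option maxRecDepth 1000000 in
theorem chkGraphPerm_gE6 : checkGraphPerm chevE6 gE6 = true := by
  decide +kernel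

set_option maxRecDepth 1000000 in
theorem chkGraph_gE6_0 : checkRange (checkGraphAt chevE6 gE6) 0 12 = true := by
  decide +kernel

set_option maxRecDepth 1000000 in
theorem chkGraph_gE6_12 : checkRange (checkGraphAt chevE6 gE6) 12 12 = true := by
  decide +kernel

set_option maxRecDepth 1000000 in
theorem chkGraph_gE6_24 : checkRange (checkGraphAt chevE6 gE6) 24 12 = true := by
  decide +kernel

set_option maxRecDepth 1000000 in
theorem chkGraph_gE6_36 : checkRange (checkGraphAt chevE6 gE6) 36 12 = true := by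
  decide +kernel

set_option maxRecDepth 1000000 in
theorem chkGraph_gE6_48 : checkRange (checkGraphAt chevE6 gE6) 48 12 = true := by
  decide +kernel

set_option maxRecDepth 1000000 in
theorem chkGraph_gE6_60 : checkRange (checkGraphAt chevE6 gE6) 60 12 = true := by
  decide +kernel

theorem chkGraph_gE6 (r : ℕ) (hr : r < 72) : checkGraphAt chevE6 gE6 r = true := by
  rcases Nat.lt_or_ge r 12 with h | h
  · exact of_checkRange chkGraph_gE6_0 r (by omega) (by omega)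
  rcases Nat.lt_or_ge r 24 with h | h
  · exact of_checkRange chkGraph_gE6_12 r (by omega) (by omega)
  rcases Nat.lt_or_ge r 36 with h | h
  · exact of_checkRange chkGraph_gE6_24 r (by omega) (by omega)
  rcases Nat.lt_or_ge r 48 with h | h
  · exact of_checkRange chkGraph_gE6_36 r (by omega) (by omega)
  rcases Nat.lt_or_ge r 60 with h | h
  · exact of_checkRange chkGraph_gE6_48 r (by omega) (by omega)
  rcases Nat.lt_or_ge r 72 with h | h
  · exact of_checkRange chkGraph_gE6_60 r (by omega) (by omega)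
  omega

set_option maxRecDepth 1000000 in
theorem chkGraphPerm_gD4a : checkGraphPerm chevD4 gD4a = true := by
  decide +kernel

set_option maxRecDepth 1000000 in
theorem chkGraph_gD4a_0 : checkRange (checkGraphAt chevD4 gD4a) 0 24 = true := by
  decide +kernel

theorem chkGraph_gD4a (r : ℕ) (hr : r < 24) : checkGraphAt chevD4 gD4a r = true := by
  rcases Nat.lt_or_ge r 24 with h | h
  · exact of_checkRange chkGraph_gD4a_0 r (by omega) (by omega)
  omega

set_option maxRecDepth 1000000 in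
theorem chkGraphPerm_gD4b : checkGraphPerm chevD4 gD4b = true := by
  decide +kernel

set_option maxRecDepth 1000000 in
theorem chkGraph_gD4b_0 : checkRange (checkGraphAt chevD4 gD4b) 0 24 = true := by
  decide +kernel

theorem chkGraph_gD4b (r : ℕ) (hr : r < 24) : checkGraphAt chevD4 gD4b r = true := by
  rcases Nat.lt_or_ge r 24 with h | h
  · exact of_checkRange chkGraph_gD4b_0 r (by omega) (by omega)
  omega

end Cfsg.Agent.Lib.Helper5.ChevSym
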