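import Mathlib
import Cfsg.Prelude.Def_ChevB2
import Cfsg.Agent.Lib.Helper5.ChevLvlDef
import Cfsg.Agent.Lib.Helper5.ChevChk.ChainAddB2_0

set_option autoImplicit false

namespace Cfsg.Agent.Lib.Helper5.ChevSym

open Cfsg Cfsg.Lie

theorem chkChainAdd_B2 (r : ℕ) (hr : r < 8) : checkChainAdd chevB2 rlB2 r = true := by
  rcases Nat.lt_or_ge r 8 with h | h
  · exact of_checkRange chkChainAdd_B2_0 r (by omega) (by omega)
  omega

end Cfsg.Agent.Lib.Helper5.ChevSym
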