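import Mathlib
import Cfsg.Prelude.Def_ChevE7
import Cfsg.Agent.Lib.Helper5.ChevLvlDef
import Cfsg.Agent.Lib.Helper5.ChevChk.ChainAddE7_0

set_option autoImplicit false

namespace Cfsg.Agent.Lib.Helper5.ChevSym

open Cfsg Cfsg.Lie

theorem chkChainAdd_E7 (r : ℕ) (hr : r < 126) : checkChainAdd chevE7 rlOne r = true := by
  rcases Nat.lt_or_ge r 21 with h | h
  · exact of_checkRange chkChainAdd_E7_0 r (by omega) (by omega)
  rcases Nat.lt_or_ge r 42 with h | h
  · exact of_checkRange chkChainAdd_E7_21 r (by omega) (by omega)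
  rcases Nat.lt_or_ge r 63 with h | h
  · exact of_checkRange chkChainAdd_E7_42 r (by omega) (by omega)
  rcases Nat.lt_or_ge r 84 with h | h
  · exact of_checkRange chkChainAdd_E7_63 r (by omega) (by omega)
  rcases Nat.lt_or_ge r 105 with h | h
  · exact of_checkRange chkChainAdd_E7_84 r (by omega) (by omega)
  rcases Nat.lt_or_ge r 126 with h | h
  · exact of_checkRange chkChainAdd_E7_105 r (by omega) (by omega)
  omega

end Cfsg.Agent.Lib.Helper5.ChevSym
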