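import Mathlib
import Cfsg.Prelude.Def_ChevE8
import Cfsg.Agent.Lib.Helper5.ChevLvlDef

set_option autoImplicit false

namespace Cfsg.Agent.Lib.Helper5.ChevSym

open Cfsg Cfsg.Lie

set_option maxRecDepth 1000000 in
theorem chkChainAdd_E8_0 : checkRange (checkChainAdd chevE8 rlOne) 0 10 = true := by
  decide +kernel

set_option maxRecDepth 1000000 in
theorem chkChainAdd_E8_10 : checkRange (checkChainAdd chevE8 rlOne) 10 10 = true := by
  decide +kernel

set_option maxRecDepth 1000000 in
theorem chkChainAdd_E8_20 : checkRange (checkChainAdd chevE8 rlOne) 20 10 = true := by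
  decide +kernel

set_option maxRecDepth 1000000 in
theorem chkChainAdd_E8_30 : checkRange (checkChainAdd chevE8 rlOne) 30 10 = true := by
  decide +kernel

set_option maxRecDepth 1000000 in
theorem chkChainAdd_E8_40 : checkRange (checkChainAdd chevE8 rlOne) 40 10 = true := by
  decide +kernel

set_option maxRecDepth 1000000 in
theorem chkChainAdd_E8_50 : checkRange (checkChainAdd chevE8 rlOne) 50 10 = true := by
  decide +kernel

set_option maxRecDepth 1000000 in
theorem chkChainAdd_E8_60 : checkRange (checkChainAdd chevE8 rlOne) 60 10 = true := by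
  decide +kernel

set_option maxRecDepth 1000000 in
theorem chkChainAdd_E8_70 : checkRange (checkChainAdd chevE8 rlOne) 70 10 = true := by
  decide +kernel

end Cfsg.Agent.Lib.Helper5.ChevSym
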