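import Mathlib
import Cfsg.Prelude.Def_ChevE8
import Cfsg.Agent.Lib.Helper5.ChevLvlDef

set_option autoImplicit false

namespace Cfsg.Agent.Lib.Helper5.ChevSym

open Cfsg Cfsg.Lie

set_option maxRecDepth 1000000 in
theorem chkChainAdd_E8_80 : checkRange (checkChainAdd chevE8 rlOne) 80 10 = true := by
  decide +kernel

set_option maxRecDepth 1000000 in
theorem chkChainAdd_E8_90 : checkRange (checkChainAdd chevE8 rlOne) 90 10 = true := by
  decide +kernel

set_option maxRecDepth 1000000 in
theorem chkChainAdd_E8_100 : checkRange (checkChainAdd chevE8 rlOne) 100 10 = true := by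
  decide +kernel

set_option maxRecDepth 1000000 in
theorem chkChainAdd_E8_110 : checkRange (checkChainAdd chevE8 rlOne) 110 10 = true := by
  decide +kernel

set_option maxRecDepth 1000000 in
theorem chkChainAdd_E8_120 : checkRange (checkChainAdd chevE8 rlOne) 120 10 = true := by
  decide +kernel

set_option maxRecDepth 1000000 in
theorem chkChainAdd_E8_130 : checkRange (checkChainAdd chevE8 rlOne) 130 10 = true := by
  decide +kernel

set_option maxRecDepth 1000000 in
theorem chkChainAdd_E8_140 : checkRange (checkChainAdd chevE8 rlOne) 140 10 = true := by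
  decide +kernel

set_option maxRecDepth 1000000 in
theorem chkChainAdd_E8_150 : checkRange (checkChainAdd chevE8 rlOne) 150 10 = true := by
  decide +kernel

end Cfsg.Agent.Lib.Helper5.ChevSym
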