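import Mathlib
import Cfsg.Prelude.Def_ChevE8
import Cfsg.Agent.Lib.Helper5.ChevLvlDef
import Cfsg.Agent.Lib.Helper5.ChevChk.ChainAddE8_0
import Cfsg.Agent.Lib.Helper5.ChevChk.ChainAddE8_1
import Cfsg.Agent.Lib.Helper5.ChevChk.ChainAddE8_2

set_option autoImplicit false

namespace Cfsg.Agent.Lib.Helper5.ChevSym

open Cfsg Cfsg.Lie

theorem chkChainAdd_E8 (r : ℕ) (hr : r < 240) : checkChainAdd chevE8 rlOne r = true := by
  rcases Nat.lt_or_ge r 10 with h | h
  · exact of_checkRange chkChainAdd_E8_0 r (by omega) (by omega)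
  rcases Nat.lt_or_ge r 20 with h | h
  · exact of_checkRange chkChainAdd_E8_10 r (by omega) (by omega)
  rcases Nat.lt_or_ge r 30 with h | h
  · exact of_checkRange chkChainAdd_E8_20 r (by omega) (by omega)
  rcases Nat.lt_or_ge r 40 with h | h
  · exact of_checkRange chkChainAdd_E8_30 r (by omega) (by omega)
  rcases Nat.lt_or_ge r 50 with h | h
  · exact of_checkRange chkChainAdd_E8_40 r (by omega) (by omega)
  rcases Nat.lt_or_ge r 60 with h | h
  · exact of_checkRange chkChainAdd_E8_50 r (by omega) (by omega)
  rcases Nat.lt_or_ge r 70 with h | h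
  · exact of_checkRange chkChainAdd_E8_60 r (by omega) (by omega)
  rcases Nat.lt_or_ge r 80 with h | h
  · exact of_checkRange chkChainAdd_E8_70 r (by omega) (by omega)
  rcases Nat.lt_or_ge r 90 with h | h
  · exact of_checkRange chkChainAdd_E8_80 r (by omega) (by omega)
  rcases Nat.lt_or_ge r 100 with h | h
  · exact of_checkRange chkChainAdd_E8_90 r (by omega) (by omega)
  rcases Nat.lt_or_ge r 110 with h | h
  · exact of_checkRange chkChainAdd_E8_100 r (by omega) (by omega)
  rcases Nat.lt_or_ge r 120 with h | h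
  · exact of_checkRange chkChainAdd_E8_110 r (by omega) (by omega)
  rcases Nat.lt_or_ge r 130 with h | h
  · exact of_checkRange chkChainAdd_E8_120 r (by omega) (by omega)
  rcases Nat.lt_or_ge r 140 with h | h
  · exact of_checkRange chkChainAdd_E8_130 r (by omega) (by omega)
  rcases Nat.lt_or_ge r 150 with h | h
  · exact of_checkRange chkChainAdd_E8_140 r (by omega) (by omega)
  rcases Nat.lt_or_ge r 160 with h | h
  · exact of_checkRange chkChainAdd_E8_150 r (by omega) (by omega)
  rcases Nat.lt_or_ge r 170 with h | h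
  · exact of_checkRange chkChainAdd_E8_160 r (by omega) (by omega)
  rcases Nat.lt_or_ge r 180 with h | h
  · exact of_checkRange chkChainAdd_E8_170 r (by omega) (by omega)
  rcases Nat.lt_or_ge r 190 with h | h
  · exact of_checkRange chkChainAdd_E8_180 r (by omega) (by omega)
  rcases Nat.lt_or_ge r 200 with h | h
  · exact of_checkRange chkChainAdd_E8_190 r (by omega) (by omega)
  rcases Nat.lt_or_ge r 210 with h | h
  · exact of_checkRange chkChainAdd_E8_200 r (by omega) (by omega)
  rcases Nat.lt_or_ge r 220 with h | h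
  · exact of_checkRange chkChainAdd_E8_210 r (by omega) (by omega)
  rcases Nat.lt_or_ge r 230 with h | h
  · exact of_checkRange chkChainAdd_E8_220 r (by omega) (by omega)
  rcases Nat.lt_or_ge r 240 with h | h
  · exact of_checkRange chkChainAdd_E8_230 r (by omega) (by omega)
  omega

end Cfsg.Agent.Lib.Helper5.ChevSym
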