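import Mathlib
import Cfsg.Agent.Lib.Helper5.ChevChk.ChainAddG2
import Cfsg.Agent.Lib.Helper5.ChevChk.ChainAddB2
import Cfsg.Agent.Lib.Helper5.ChevChk.ChainAddD4
import Cfsg.Agent.Lib.Helper5.ChevChk.ChainAddF4
import Cfsg.Agent.Lib.Helper5.ChevChk.ChainAddE6
import Cfsg.Agent.Lib.Helper5.ChevChk.ChainAddE7
import Cfsg.Agent.Lib.Helper5.ChevChk.ChainAddE8

set_option autoImplicit false

namespace Cfsg.Agent.Lib.Helper5.ChevSym

open Cfsg Cfsg.Lie

/-- for each of the seven tabulated data there is a table of squared root lengths passing the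
chain additivity check -/
theorem chkChainAdd_all (D : ChevalleyDatum)
    (hD : D ∈ [chevG2, chevB2, chevD4, chevF4, chevE6, chevE7, chevE8]) :
    ∃ rl : ℕ → ℤ, ∀ r < D.nroots, checkChainAdd D rl r = true := by
  simp only [List.mem_cons, List.not_mem_nil, or_false] at hD
  rcases hD with rfl | rfl | rfl | rfl | rfl | rfl | rfl
  · exact ⟨rlG2, chkChainAdd_G2⟩
  · exact ⟨rlB2, chkChainAdd_B2⟩
  · exact ⟨rlOne, chkChainAdd_D4⟩
  · exact ⟨rlF4, chkChainAdd_F4⟩
  · exact ⟨rlOne, chkChainAdd_E6⟩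
  · exact ⟨rlOne, chkChainAdd_E7⟩
  · exact ⟨rlOne, chkChainAdd_E8⟩

end Cfsg.Agent.Lib.Helper5.ChevSym
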