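import Mathlib
import Cfsg.Prelude.Def_ChevE7
import Cfsg.Agent.Lib.Helper5.ChevCharDiagDef

set_option autoImplicit false

namespace Cfsg.Agent.Lib.Helper5.ChevSym

open Cfsg Cfsg.Lie

set_option maxRecDepth 1000000 in
theorem chkChainStep_E7_0 : checkRange (checkChainStep chevE7) 0 21 = true := by
  decide +kernel

set_option maxRecDepth 1000000 in
theorem chkChainStep_E7_21 : checkRange (checkChainStep chevE7) 21 21 = true := by
  decide +kernel

set_option maxRecDepth 1000000 in
theorem chkChainStep_E7_42 : checkRange (checkChainStep chevE7) 42 21 = true := by
  decide +kernel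

set_option maxRecDepth 1000000 in
theorem chkChainStep_E7_63 : checkRange (checkChainStep chevE7) 63 21 = true := by
  decide +kernel

set_option maxRecDepth 1000000 in
theorem chkChainStep_E7_84 : checkRange (checkChainStep chevE7) 84 21 = true := by
  decide +kernel

set_option maxRecDepth 1000000 in
theorem chkChainStep_E7_105 : checkRange (checkChainStep chevE7) 105 21 = true := by
  decide +kernel

end Cfsg.Agent.Lib.Helper5.ChevSym
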