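import Mathlib
import Cfsg.Prelude.Def_ChevE8
import Cfsg.Agent.Lib.Helper5.ChevCharDiagDef

set_option autoImplicit false

namespace Cfsg.Agent.Lib.Helper5.ChevSym

open Cfsg Cfsg.Lie

set_option maxRecDepth 1000000 in
theorem chkChainStep_E8_84 : checkRange (checkChainStep chevE8) 84 12 = true := by
  decide +kernel

set_option maxRecDepth 1000000 in
theorem chkChainStep_E8_96 : checkRange (checkChainStep chevE8) 96 12 = true := by
  decide +kernel

set_option maxRecDepth 1000000 in
theorem chkChainStep_E8_108 : checkRange (checkChainStep chevE8) 108 12 = true := by
  decide +kernel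

set_option maxRecDepth 1000000 in
theorem chkChainStep_E8_120 : checkRange (checkChainStep chevE8) 120 12 = true := by
  decide +kernel

set_option maxRecDepth 1000000 in
theorem chkChainStep_E8_132 : checkRange (checkChainStep chevE8) 132 12 = true := by
  decide +kernel

set_option maxRecDepth 1000000 in
theorem chkChainStep_E8_144 : checkRange (checkChainStep chevE8) 144 12 = true := by
  decide +kernel

set_option maxRecDepth 1000000 in
theorem chkChainStep_E8_156 : checkRange (checkChainStep chevE8) 156 12 = true := by
  decide +kernel

end Cfsg.Agent.Lib.Helper5.ChevSym
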