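import Mathlib
import Cfsg.Prelude.Def_ChevE8
import Cfsg.Agent.Lib.Helper5.ChevCharDiagDef

set_option autoImplicit false

namespace Cfsg.Agent.Lib.Helper5.ChevSym

open Cfsg Cfsg.Lie

set_option maxRecDepth 1000000 in
theorem chkChainStep_E8_168 : checkRange (checkChainStep chevE8) 168 12 = true := by
  decide +kernel

set_option maxRecDepth 1000000 in
theorem chkChainStep_E8_180 : checkRange (checkChainStep chevE8) 180 12 = true := by
  decide +kernel

set_option maxRecDepth 1000000 in
theorem chkChainStep_E8_192 : checkRange (checkChainStep chevE8) 192 12 = true := by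
  decide +kernel

set_option maxRecDepth 1000000 in
theorem chkChainStep_E8_204 : checkRange (checkChainStep chevE8) 204 12 = true := by
  decide +kernel

set_option maxRecDepth 1000000 in
theorem chkChainStep_E8_216 : checkRange (checkChainStep chevE8) 216 12 = true := by
  decide +kernel

set_option maxRecDepth 1000000 in
theorem chkChainStep_E8_228 : checkRange (checkChainStep chevE8) 228 12 = true := by
  decide +kernel

end Cfsg.Agent.Lib.Helper5.ChevSym
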