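import Mathlib
import Cfsg.Prelude.Def_ChevB2
import Cfsg.Agent.Lib.Helper5.ChevWTblDef

set_option autoImplicit false

namespace Cfsg.Agent.Lib.Helper5.ChevSym

open Cfsg Cfsg.Lie

def wtblKB2_0 : List ℕ := [0, 1]

def wtblJB2_0 : List ℕ := [1]

def wtblB2_0 : List CosetRec := [
  ⟨[], 0, [5, 4], 0, [1, 5]⟩,
  ⟨[0], 0, [2, 7], 5, [0, 2]⟩,
  ⟨[1, 0], 1, [1, 7], 7, [3, 1]⟩,
  ⟨[0, 1, 0], 2, [1, 4], 6, [2, 5]⟩]

set_option maxRecDepth 1000000 in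
theorem chkWTblB2_0_0 : checkRecRange chevB2 wtblKB2_0 wtblJB2_0 wtblB2_0 0 4 = true := by
  decide +kernel

set_option maxRecDepth 1000000 in
theorem chkWTblB2_0_nd : (wtblB2_0.map (·.img)).Nodup := by
  decide +kernel

theorem chkWTblB2_0 (t : ℕ) (ht : t < 4) : checkRec chevB2 wtblKB2_0 wtblJB2_0 wtblB2_0 t = true := by
  exact checkRecRange_spec _ _ _ _ 0 4 chkWTblB2_0_0 t (by omega) ht

end Cfsg.Agent.Lib.Helper5.ChevSym
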