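import Mathlib
import Cfsg.Prelude.Def_ChevD4
import Cfsg.Agent.Lib.Helper5.ChevWTblDef

set_option autoImplicit false

namespace Cfsg.Agent.Lib.Helper5.ChevSym

open Cfsg Cfsg.Lie

def wtblKD4_0 : List ℕ := [0, 1, 2, 3]

def wtblJD4_0 : List ℕ := [1, 2, 3]

def wtblD4_0 : List CosetRec := [
  ⟨[], 0, [18, 14, 13, 12], 0, [1, 9, 10, 11]⟩,
  ⟨[0], 0, [5, 19, 13, 12], 18, [0, 2, 10, 11]⟩,
  ⟨[1, 0], 1, [4, 18, 16, 15], 19, [9, 1, 3, 4]⟩,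
  ⟨[2, 1, 0], 2, [2, 18, 14, 17], 21, [9, 10, 2, 5]⟩,
  ⟨[3, 1, 0], 2, [3, 18, 17, 14], 20, [9, 11, 5, 2]⟩,
  ⟨[3, 2, 1, 0], 3, [1, 18, 15, 16], 20, [9, 6, 4, 3]⟩,
  ⟨[1, 3, 2, 1, 0], 5, [0, 19, 12, 13], 22, [7, 5, 11, 10]⟩,
  ⟨[0, 1, 3, 2, 1, 0], 6, [0, 14, 12, 13], 23, [6, 9, 11, 10]⟩]

set_option maxRecDepth 1000000 in
theorem chkWTblD4_0_0 : checkRecRange chevD4 wtblKD4_0 wtblJD4_0 wtblD4_0 0 8 = true := by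
  decide +kernel

set_option maxRecDepth 1000000 in
theorem chkWTblD4_0_nd : (wtblD4_0.map (·.img)).Nodup := by
  decide +kernel

theorem chkWTblD4_0 (t : ℕ) (ht : t < 8) : checkRec chevD4 wtblKD4_0 wtblJD4_0 wtblD4_0 t = true := by
  exact checkRecRange_spec _ _ _ _ 0 8 chkWTblD4_0_0 t (by omega) ht

end Cfsg.Agent.Lib.Helper5.ChevSym
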