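import Mathlib
import Cfsg.Prelude.Def_ChevD4
import Cfsg.Agent.Lib.Helper5.ChevWTblDef

set_option autoImplicit false

namespace Cfsg.Agent.Lib.Helper5.ChevSym

open Cfsg Cfsg.Lie

def wtblKD4_1 : List ℕ := [1, 2, 3]

def wtblJD4_1 : List ℕ := [1, 3]

def wtblD4_1 : List CosetRec := [
  ⟨[], 0, [18, 14, 13, 12], 0, [0, 5, 1, 7]⟩,
  ⟨[2], 0, [18, 16, 10, 12], 13, [0, 2, 0, 7]⟩,
  ⟨[1, 2], 1, [19, 13, 7, 15], 16, [0, 1, 5, 3]⟩,
  ⟨[3, 1, 2], 2, [20, 13, 6, 14], 17, [0, 7, 5, 2]⟩]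

set_option maxRecDepth 1000000 in
theorem chkWTblD4_1_0 : checkRecRange chevD4 wtblKD4_1 wtblJD4_1 wtblD4_1 0 4 = true := by
  decide +kernel

set_option maxRecDepth 1000000 in
theorem chkWTblD4_1_nd : (wtblD4_1.map (·.img)).Nodup := by
  decide +kernel

theorem chkWTblD4_1 (t : ℕ) (ht : t < 4) : checkRec chevD4 wtblKD4_1 wtblJD4_1 wtblD4_1 t = true := by
  exact checkRecRange_spec _ _ _ _ 0 4 chkWTblD4_1_0 t (by omega) ht

end Cfsg.Agent.Lib.Helper5.ChevSym
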