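import Mathlib
import Cfsg.Prelude.Def_ChevD4
import Cfsg.Agent.Lib.Helper5.ChevWTblDef

set_option autoImplicit false

namespace Cfsg.Agent.Lib.Helper5.ChevSym

open Cfsg Cfsg.Lie

def wtblKD4_2 : List ℕ := [1, 3]

def wtblJD4_2 : List ℕ := [3]

def wtblD4_2 : List CosetRec := [
  ⟨[], 0, [18, 14, 13, 12], 0, [0, 1, 0, 6]⟩,
  ⟨[1], 0, [19, 9, 16, 15], 14, [0, 0, 0, 2]⟩,
  ⟨[3, 1], 1, [20, 8, 17, 14], 15, [0, 6, 0, 1]⟩]

set_option maxRecDepth 1000000 in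
theorem chkWTblD4_2_0 : checkRecRange chevD4 wtblKD4_2 wtblJD4_2 wtblD4_2 0 3 = true := by
  decide +kernel

set_option maxRecDepth 1000000 in
theorem chkWTblD4_2_nd : (wtblD4_2.map (·.img)).Nodup := by
  decide +kernel

theorem chkWTblD4_2 (t : ℕ) (ht : t < 3) : checkRec chevD4 wtblKD4_2 wtblJD4_2 wtblD4_2 t = true := by
  exact checkRecRange_spec _ _ _ _ 0 3 chkWTblD4_2_0 t (by omega) ht

end Cfsg.Agent.Lib.Helper5.ChevSym
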