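import Mathlib
import Cfsg.Prelude.Def_ChevE6
import Cfsg.Agent.Lib.Helper5.ChevWTblDef

set_option autoImplicit false

namespace Cfsg.Agent.Lib.Helper5.ChevSym

open Cfsg Cfsg.Lie

def wtblKE6_0 : List ℕ := [0, 1, 2, 3, 4, 5]

def wtblJE6_0 : List ℕ := [1, 2, 3, 4, 5]

def wtblE6_0 : List CosetRec := [
  ⟨[], 0, [56, 46, 42, 39, 37, 36], 0, [1, 28, 29, 30, 31, 32]⟩,
  ⟨[0], 0, [15, 46, 57, 39, 37, 36], 56, [0, 28, 2, 30, 31, 32]⟩,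
  ⟨[2, 0], 1, [14, 46, 56, 43, 37, 36], 57, [29, 28, 1, 3, 31, 32]⟩,
  ⟨[3, 2, 0], 2, [13, 47, 56, 42, 40, 36], 58, [29, 4, 30, 2, 5, 32]⟩,
  ⟨[1, 3, 2, 0], 3, [10, 39, 56, 42, 48, 36], 61, [29, 3, 30, 28, 6, 32]⟩,
  ⟨[4, 3, 2, 0], 3, [12, 48, 56, 42, 39, 38], 59, [29, 6, 30, 31, 3, 7]⟩,
  ⟨[4, 1, 3, 2, 0], 4, [9, 40, 56, 42, 47, 38], 59, [29, 5, 30, 8, 4, 9]⟩,
  ⟨[5, 4, 3, 2, 0], 5, [11, 49, 56, 42, 39, 37], 60, [29, 9, 30, 31, 32, 5]⟩,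
  ⟨[3, 4, 1, 3, 2, 0], 6, [7, 37, 56, 43, 46, 41], 62, [29, 31, 10, 6, 28, 11]⟩,
  ⟨[5, 4, 1, 3, 2, 0], 6, [8, 41, 56, 42, 47, 37], 60, [29, 7, 30, 11, 32, 6]⟩,
  ⟨[2, 3, 4, 1, 3, 2, 0], 8, [4, 37, 57, 39, 46, 45], 64, [12, 31, 8, 30, 28, 13]⟩,
  ⟨[5, 3, 4, 1, 3, 2, 0], 8, [6, 38, 56, 43, 46, 40], 60, [29, 31, 13, 9, 14, 8]⟩,
  ⟨[0, 2, 3, 4, 1, 3, 2, 0], 10, [4, 37, 42, 39, 46, 60], 67, [10, 31, 29, 30, 28, 15]⟩,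
  ⟨[5, 2, 3, 4, 1, 3, 2, 0], 10, [3, 38, 57, 39, 46, 44], 60, [15, 31, 11, 30, 16, 10]⟩,
  ⟨[4, 5, 3, 4, 1, 3, 2, 0], 11, [5, 36, 56, 44, 46, 39], 63, [29, 31, 16, 32, 11, 28]⟩,
  ⟨[5, 0, 2, 3, 4, 1, 3, 2, 0], 12, [3, 38, 42, 39, 46, 59], 60, [13, 31, 29, 30, 17, 12]⟩,
  ⟨[4, 5, 2, 3, 4, 1, 3, 2, 0], 13, [2, 36, 57, 40, 46, 43], 63, [17, 31, 14, 18, 13, 28]⟩,
  ⟨[4, 5, 0, 2, 3, 4, 1, 3, 2, 0], 15, [2, 36, 42, 40, 46, 58], 63, [16, 31, 29, 19, 15, 28]⟩,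
  ⟨[3, 4, 5, 2, 3, 4, 1, 3, 2, 0], 16, [1, 36, 58, 37, 47, 42], 65, [19, 20, 32, 16, 30, 28]⟩,
  ⟨[3, 4, 5, 0, 2, 3, 4, 1, 3, 2, 0], 17, [1, 36, 43, 37, 47, 57], 65, [18, 21, 22, 17, 30, 28]⟩,
  ⟨[1, 3, 4, 5, 2, 3, 4, 1, 3, 2, 0], 18, [0, 36, 61, 37, 39, 42], 66, [21, 18, 32, 31, 30, 28]⟩,
  ⟨[1, 3, 4, 5, 0, 2, 3, 4, 1, 3, 2, 0], 19, [0, 36, 50, 37, 39, 57], 66, [20, 19, 23, 31, 30, 28]⟩,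
  ⟨[2, 3, 4, 5, 0, 2, 3, 4, 1, 3, 2, 0], 19, [1, 36, 39, 37, 50, 56], 68, [32, 23, 19, 29, 30, 28]⟩,
  ⟨[2, 1, 3, 4, 5, 0, 2, 3, 4, 1, 3, 2, 0], 21, [0, 36, 47, 37, 43, 56], 68, [32, 22, 21, 24, 30, 28]⟩,
  ⟨[3, 2, 1, 3, 4, 5, 0, 2, 3, 4, 1, 3, 2, 0], 23, [0, 36, 46, 40, 42, 56], 69, [32, 29, 31, 23, 25, 28]⟩,
  ⟨[4, 3, 2, 1, 3, 4, 5, 0, 2, 3, 4, 1, 3, 2, 0], 24, [0, 38, 46, 39, 42, 56], 70, [32, 29, 31, 30, 24, 26]⟩,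
  ⟨[5, 4, 3, 2, 1, 3, 4, 5, 0, 2, 3, 4, 1, 3, 2, 0], 25, [0, 37, 46, 39, 42, 56], 71, [32, 29, 31, 30, 28, 25]⟩]

set_option maxRecDepth 1000000 in
theorem chkWTblE6_0_0 : checkRecRange chevE6 wtblKE6_0 wtblJE6_0 wtblE6_0 0 27 = true := by
  decide +kernel

set_option maxRecDepth 1000000 in
theorem chkWTblE6_0_nd : (wtblE6_0.map (·.img)).Nodup := by
  decide +kernel

theorem chkWTblE6_0 (t : ℕ) (ht : t < 27) : checkRec chevE6 wtblKE6_0 wtblJE6_0 wtblE6_0 t = true := by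
  exact checkRecRange_spec _ _ _ _ 0 27 chkWTblE6_0_0 t (by omega) ht

end Cfsg.Agent.Lib.Helper5.ChevSym
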