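import Mathlib
import Cfsg.Prelude.Def_ChevE6
import Cfsg.Agent.Lib.Helper5.ChevWTblDef

set_option autoImplicit false

namespace Cfsg.Agent.Lib.Helper5.ChevSym

open Cfsg Cfsg.Lie

def wtblKE6_1 : List ℕ := [1, 2, 3, 4, 5]

def wtblJE6_1 : List ℕ := [1, 2, 3, 4]

def wtblE6_1 : List CosetRec := [
  ⟨[], 0, [56, 46, 42, 39, 37, 36], 0, [0, 11, 12, 13, 14, 1]⟩,
  ⟨[5], 0, [56, 46, 42, 39, 38, 35], 36, [0, 11, 12, 13, 2, 0]⟩,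
  ⟨[4, 5], 1, [56, 46, 42, 40, 36, 33], 38, [0, 11, 12, 3, 1, 14]⟩,
  ⟨[3, 4, 5], 2, [56, 47, 43, 37, 36, 30], 41, [0, 4, 5, 2, 13, 14]⟩,
  ⟨[1, 3, 4, 5], 3, [56, 39, 50, 37, 36, 22], 49, [0, 3, 6, 11, 13, 14]⟩,
  ⟨[2, 3, 4, 5], 3, [57, 50, 39, 37, 36, 26], 45, [0, 6, 3, 12, 13, 14]⟩,
  ⟨[2, 1, 3, 4, 5], 4, [57, 43, 47, 37, 36, 19], 45, [0, 5, 4, 7, 13, 14]⟩,
  ⟨[3, 2, 1, 3, 4, 5], 6, [58, 42, 46, 40, 36, 17], 52, [0, 12, 11, 6, 8, 14]⟩,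
  ⟨[4, 3, 2, 1, 3, 4, 5], 7, [59, 42, 46, 39, 38, 16], 54, [0, 12, 11, 13, 7, 9]⟩,
  ⟨[5, 4, 3, 2, 1, 3, 4, 5], 8, [60, 42, 46, 39, 37, 16], 55, [0, 12, 11, 13, 14, 8]⟩]

set_option maxRecDepth 1000000 in
theorem chkWTblE6_1_0 : checkRecRange chevE6 wtblKE6_1 wtblJE6_1 wtblE6_1 0 10 = true := by
  decide +kernel

set_option maxRecDepth 1000000 in
theorem chkWTblE6_1_nd : (wtblE6_1.map (·.img)).Nodup := by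
  decide +kernel

theorem chkWTblE6_1 (t : ℕ) (ht : t < 10) : checkRec chevE6 wtblKE6_1 wtblJE6_1 wtblE6_1 t = true := by
  exact checkRecRange_spec _ _ _ _ 0 10 chkWTblE6_1_0 t (by omega) ht

end Cfsg.Agent.Lib.Helper5.ChevSym
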