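import Mathlib
import Cfsg.Prelude.Def_ChevE6
import Cfsg.Agent.Lib.Helper5.ChevWTblDef

set_option autoImplicit false

namespace Cfsg.Agent.Lib.Helper5.ChevSym

open Cfsg Cfsg.Lie

def wtblKE6_2 : List ℕ := [1, 2, 3, 4]

def wtblJE6_2 : List ℕ := [2, 3, 4]

def wtblE6_2 : List CosetRec := [
  ⟨[], 0, [56, 46, 42, 39, 37, 36], 0, [0, 1, 10, 11, 12, 0]⟩,
  ⟨[1], 0, [56, 25, 42, 47, 37, 36], 46, [0, 0, 10, 2, 12, 0]⟩,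
  ⟨[3, 1], 1, [56, 24, 43, 46, 40, 36], 47, [0, 11, 3, 1, 4, 0]⟩,
  ⟨[2, 3, 1], 2, [57, 21, 39, 46, 44, 36], 50, [0, 11, 2, 10, 5, 0]⟩,
  ⟨[4, 3, 1], 2, [56, 23, 44, 46, 39, 38], 48, [0, 11, 5, 12, 2, 0]⟩,
  ⟨[4, 2, 3, 1], 3, [57, 20, 40, 46, 43, 38], 48, [0, 11, 4, 6, 3, 0]⟩,
  ⟨[3, 4, 2, 3, 1], 5, [58, 18, 37, 47, 42, 41], 51, [0, 7, 12, 5, 10, 0]⟩,
  ⟨[1, 3, 4, 2, 3, 1], 6, [61, 18, 37, 39, 42, 49], 53, [0, 6, 12, 11, 10, 0]⟩]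

set_option maxRecDepth 1000000 in
theorem chkWTblE6_2_0 : checkRecRange chevE6 wtblKE6_2 wtblJE6_2 wtblE6_2 0 8 = true := by
  decide +kernel

set_option maxRecDepth 1000000 in
theorem chkWTblE6_2_nd : (wtblE6_2.map (·.img)).Nodup := by
  decide +kernel

theorem chkWTblE6_2 (t : ℕ) (ht : t < 8) : checkRec chevE6 wtblKE6_2 wtblJE6_2 wtblE6_2 t = true := by
  exact checkRecRange_spec _ _ _ _ 0 8 chkWTblE6_2_0 t (by omega) ht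

end Cfsg.Agent.Lib.Helper5.ChevSym
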