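import Mathlib
import Cfsg.Prelude.Def_ChevE6
import Cfsg.Agent.Lib.Helper5.ChevWTblDef

set_option autoImplicit false

namespace Cfsg.Agent.Lib.Helper5.ChevSym

open Cfsg Cfsg.Lie

def wtblKE6_3 : List ℕ := [2, 3, 4]

def wtblJE6_3 : List ℕ := [3, 4]

def wtblE6_3 : List CosetRec := [
  ⟨[], 0, [56, 46, 42, 39, 37, 36], 0, [0, 0, 1, 7, 8, 0]⟩,
  ⟨[2], 0, [57, 46, 29, 43, 37, 36], 42, [0, 0, 0, 2, 8, 0]⟩,
  ⟨[3, 2], 1, [58, 47, 28, 42, 40, 36], 43, [0, 0, 7, 1, 3, 0]⟩,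
  ⟨[4, 3, 2], 2, [59, 48, 27, 42, 39, 38], 44, [0, 0, 7, 8, 2, 0]⟩]

set_option maxRecDepth 1000000 in
theorem chkWTblE6_3_0 : checkRecRange chevE6 wtblKE6_3 wtblJE6_3 wtblE6_3 0 4 = true := by
  decide +kernel

set_option maxRecDepth 1000000 in
theorem chkWTblE6_3_nd : (wtblE6_3.map (·.img)).Nodup := by
  decide +kernel

theorem chkWTblE6_3 (t : ℕ) (ht : t < 4) : checkRec chevE6 wtblKE6_3 wtblJE6_3 wtblE6_3 t = true := by
  exact checkRecRange_spec _ _ _ _ 0 4 chkWTblE6_3_0 t (by omega) ht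

end Cfsg.Agent.Lib.Helper5.ChevSym
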