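import Mathlib
import Cfsg.Prelude.Def_ChevE6
import Cfsg.Agent.Lib.Helper5.ChevWTblDef

set_option autoImplicit false

namespace Cfsg.Agent.Lib.Helper5.ChevSym

open Cfsg Cfsg.Lie

def wtblKE6_4 : List ℕ := [3, 4]

def wtblJE6_4 : List ℕ := [4]

def wtblE6_4 : List CosetRec := [
  ⟨[], 0, [56, 46, 42, 39, 37, 36], 0, [0, 0, 0, 1, 7, 0]⟩,
  ⟨[3], 0, [56, 47, 43, 32, 40, 36], 39, [0, 0, 0, 0, 2, 0]⟩,
  ⟨[4, 3], 1, [56, 48, 44, 31, 39, 38], 40, [0, 0, 0, 7, 1, 0]⟩]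

set_option maxRecDepth 1000000 in
theorem chkWTblE6_4_0 : checkRecRange chevE6 wtblKE6_4 wtblJE6_4 wtblE6_4 0 3 = true := by
  decide +kernel

set_option maxRecDepth 1000000 in
theorem chkWTblE6_4_nd : (wtblE6_4.map (·.img)).Nodup := by
  decide +kernel

theorem chkWTblE6_4 (t : ℕ) (ht : t < 3) : checkRec chevE6 wtblKE6_4 wtblJE6_4 wtblE6_4 t = true := by
  exact checkRecRange_spec _ _ _ _ 0 3 chkWTblE6_4_0 t (by omega) ht

end Cfsg.Agent.Lib.Helper5.ChevSym
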