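import Mathlib
import Cfsg.Prelude.Def_ChevE6
import Cfsg.Agent.Lib.Helper5.ChevWTblDef

set_option autoImplicit false

namespace Cfsg.Agent.Lib.Helper5.ChevSym

open Cfsg Cfsg.Lie

def wtblKE6_5 : List ℕ := [4]

def wtblJE6_5 : List ℕ := []

def wtblE6_5 : List CosetRec := [
  ⟨[], 0, [56, 46, 42, 39, 37, 36], 0, [0, 0, 0, 0, 1, 0]⟩,
  ⟨[4], 0, [56, 46, 42, 40, 34, 38], 37, [0, 0, 0, 0, 0, 0]⟩]

set_option maxRecDepth 1000000 in
theorem chkWTblE6_5_0 : checkRecRange chevE6 wtblKE6_5 wtblJE6_5 wtblE6_5 0 2 = true := by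
  decide +kernel

set_option maxRecDepth 1000000 in
theorem chkWTblE6_5_nd : (wtblE6_5.map (·.img)).Nodup := by
  decide +kernel

theorem chkWTblE6_5 (t : ℕ) (ht : t < 2) : checkRec chevE6 wtblKE6_5 wtblJE6_5 wtblE6_5 t = true := by
  exact checkRecRange_spec _ _ _ _ 0 2 chkWTblE6_5_0 t (by omega) ht

end Cfsg.Agent.Lib.Helper5.ChevSym
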