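import Mathlib
import Cfsg.Prelude.Def_ChevE7
import Cfsg.Agent.Lib.Helper5.ChevWTblDef

set_option autoImplicit false

namespace Cfsg.Agent.Lib.Helper5.ChevSym

open Cfsg Cfsg.Lie

def wtblKE7_1 : List ℕ := [0, 1, 2, 3, 4, 5]

def wtblJE7_1 : List ℕ := [1, 2, 3, 4, 5]

def wtblE7_1 : List CosetRec := [
  ⟨[], 0, [93, 78, 73, 69, 66, 64, 63], 0, [1, 28, 29, 30, 31, 32, 0]⟩,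
  ⟨[0], 0, [32, 78, 94, 69, 66, 64, 63], 93, [0, 28, 2, 30, 31, 32, 0]⟩,
  ⟨[2, 0], 1, [31, 78, 93, 74, 66, 64, 63], 94, [29, 28, 1, 3, 31, 32, 0]⟩,
  ⟨[3, 2, 0], 2, [30, 79, 93, 73, 70, 64, 63], 95, [29, 4, 30, 2, 5, 32, 0]⟩,
  ⟨[1, 3, 2, 0], 3, [26, 69, 93, 73, 80, 64, 63], 99, [29, 3, 30, 28, 6, 32, 0]⟩,
  ⟨[4, 3, 2, 0], 3, [29, 80, 93, 73, 69, 67, 63], 96, [29, 6, 30, 31, 3, 7, 0]⟩,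
  ⟨[4, 1, 3, 2, 0], 4, [25, 70, 93, 73, 79, 67, 63], 96, [29, 5, 30, 8, 4, 9, 0]⟩,
  ⟨[5, 4, 3, 2, 0], 5, [28, 81, 93, 73, 69, 66, 65], 97, [29, 9, 30, 31, 32, 5, 0]⟩,
  ⟨[3, 4, 1, 3, 2, 0], 6, [22, 66, 93, 74, 78, 71, 63], 100, [29, 31, 10, 6, 28, 11, 0]⟩,
  ⟨[5, 4, 1, 3, 2, 0], 6, [24, 71, 93, 73, 79, 66, 65], 97, [29, 7, 30, 11, 32, 6, 0]⟩,
  ⟨[2, 3, 4, 1, 3, 2, 0], 8, [16, 66, 94, 69, 78, 76, 63], 103, [12, 31, 8, 30, 28, 13, 0]⟩,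
  ⟨[5, 3, 4, 1, 3, 2, 0], 8, [21, 67, 93, 74, 78, 70, 65], 97, [29, 31, 13, 9, 14, 8, 0]⟩,
  ⟨[0, 2, 3, 4, 1, 3, 2, 0], 10, [16, 66, 73, 69, 78, 97, 63], 109, [10, 31, 29, 30, 28, 15, 0]⟩,
  ⟨[5, 2, 3, 4, 1, 3, 2, 0], 10, [15, 67, 94, 69, 78, 75, 65], 97, [15, 31, 11, 30, 16, 10, 0]⟩,
  ⟨[4, 5, 3, 4, 1, 3, 2, 0], 11, [19, 64, 93, 75, 78, 69, 68], 101, [29, 31, 16, 32, 11, 28, 0]⟩,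
  ⟨[5, 0, 2, 3, 4, 1, 3, 2, 0], 12, [15, 67, 73, 69, 78, 96, 65], 97, [13, 31, 29, 30, 17, 12, 0]⟩,
  ⟨[4, 5, 2, 3, 4, 1, 3, 2, 0], 13, [13, 64, 94, 70, 78, 74, 68], 101, [17, 31, 14, 18, 13, 28, 0]⟩,
  ⟨[4, 5, 0, 2, 3, 4, 1, 3, 2, 0], 15, [13, 64, 73, 70, 78, 95, 68], 101, [16, 31, 29, 19, 15, 28, 0]⟩,
  ⟨[3, 4, 5, 2, 3, 4, 1, 3, 2, 0], 16, [10, 64, 95, 66, 79, 73, 72], 104, [19, 20, 32, 16, 30, 28, 0]⟩,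
  ⟨[3, 4, 5, 0, 2, 3, 4, 1, 3, 2, 0], 17, [10, 64, 74, 66, 79, 94, 72], 104, [18, 21, 22, 17, 30, 28, 0]⟩,
  ⟨[1, 3, 4, 5, 2, 3, 4, 1, 3, 2, 0], 18, [6, 64, 99, 66, 69, 73, 82], 106, [21, 18, 32, 31, 30, 28, 0]⟩,
  ⟨[1, 3, 4, 5, 0, 2, 3, 4, 1, 3, 2, 0], 19, [6, 64, 83, 66, 69, 94, 82], 106, [20, 19, 23, 31, 30, 28, 0]⟩,
  ⟨[2, 3, 4, 5, 0, 2, 3, 4, 1, 3, 2, 0], 19, [10, 64, 69, 66, 83, 93, 77], 110, [32, 23, 19, 29, 30, 28, 0]⟩,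
  ⟨[2, 1, 3, 4, 5, 0, 2, 3, 4, 1, 3, 2, 0], 21, [6, 64, 79, 66, 74, 93, 86], 110, [32, 22, 21, 24, 30, 28, 0]⟩,
  ⟨[3, 2, 1, 3, 4, 5, 0, 2, 3, 4, 1, 3, 2, 0], 23, [6, 64, 78, 70, 73, 93, 89], 112, [32, 29, 31, 23, 25, 28, 0]⟩,
  ⟨[4, 3, 2, 1, 3, 4, 5, 0, 2, 3, 4, 1, 3, 2, 0], 24, [6, 67, 78, 69, 73, 93, 91], 115, [32, 29, 31, 30, 24, 26, 0]⟩,
  ⟨[5, 4, 3, 2, 1, 3, 4, 5, 0, 2, 3, 4, 1, 3, 2, 0], 25, [6, 66, 78, 69, 73, 93, 92], 119, [32, 29, 31, 30, 28, 25, 0]⟩]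

set_option maxRecDepth 1000000 in
theorem chkWTblE7_1_0 : checkRecRange chevE7 wtblKE7_1 wtblJE7_1 wtblE7_1 0 27 = true := by
  decide +kernel

set_option maxRecDepth 1000000 in
theorem chkWTblE7_1_nd : (wtblE7_1.map (·.img)).Nodup := by
  decide +kernel

theorem chkWTblE7_1 (t : ℕ) (ht : t < 27) : checkRec chevE7 wtblKE7_1 wtblJE7_1 wtblE7_1 t = true := by
  exact checkRecRange_spec _ _ _ _ 0 27 chkWTblE7_1_0 t (by omega) ht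

end Cfsg.Agent.Lib.Helper5.ChevSym
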