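import Mathlib
import Cfsg.Prelude.Def_ChevE7
import Cfsg.Agent.Lib.Helper5.ChevWTblDef

set_option autoImplicit false

namespace Cfsg.Agent.Lib.Helper5.ChevSym

open Cfsg Cfsg.Lie

def wtblKE7_2 : List ℕ := [1, 2, 3, 4, 5]

def wtblJE7_2 : List ℕ := [1, 2, 3, 4]

def wtblE7_2 : List CosetRec := [
  ⟨[], 0, [93, 78, 73, 69, 66, 64, 63], 0, [0, 11, 12, 13, 14, 1, 0]⟩,
  ⟨[5], 0, [93, 78, 73, 69, 67, 61, 65], 64, [0, 11, 12, 13, 2, 0, 0]⟩,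
  ⟨[4, 5], 1, [93, 78, 73, 70, 64, 58, 68], 67, [0, 11, 12, 3, 1, 14, 0]⟩,
  ⟨[3, 4, 5], 2, [93, 79, 74, 66, 64, 54, 72], 71, [0, 4, 5, 2, 13, 14, 0]⟩,
  ⟨[1, 3, 4, 5], 3, [93, 69, 83, 66, 64, 44, 82], 81, [0, 3, 6, 11, 13, 14, 0]⟩,
  ⟨[2, 3, 4, 5], 3, [94, 83, 69, 66, 64, 49, 77], 76, [0, 6, 3, 12, 13, 14, 0]⟩,
  ⟨[2, 1, 3, 4, 5], 4, [94, 74, 79, 66, 64, 40, 86], 76, [0, 5, 4, 7, 13, 14, 0]⟩,
  ⟨[3, 2, 1, 3, 4, 5], 6, [95, 73, 78, 70, 64, 37, 89], 85, [0, 12, 11, 6, 8, 14, 0]⟩,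
  ⟨[4, 3, 2, 1, 3, 4, 5], 7, [96, 73, 78, 69, 67, 35, 91], 88, [0, 12, 11, 13, 7, 9, 0]⟩,
  ⟨[5, 4, 3, 2, 1, 3, 4, 5], 8, [97, 73, 78, 69, 66, 35, 92], 90, [0, 12, 11, 13, 14, 8, 0]⟩]

set_option maxRecDepth 1000000 in
theorem chkWTblE7_2_0 : checkRecRange chevE7 wtblKE7_2 wtblJE7_2 wtblE7_2 0 10 = true := by
  decide +kernel

set_option maxRecDepth 1000000 in
theorem chkWTblE7_2_nd : (wtblE7_2.map (·.img)).Nodup := by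
  decide +kernel

theorem chkWTblE7_2 (t : ℕ) (ht : t < 10) : checkRec chevE7 wtblKE7_2 wtblJE7_2 wtblE7_2 t = true := by
  exact checkRecRange_spec _ _ _ _ 0 10 chkWTblE7_2_0 t (by omega) ht

end Cfsg.Agent.Lib.Helper5.ChevSym
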