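import Mathlib
import Cfsg.Prelude.Def_ChevE7
import Cfsg.Agent.Lib.Helper5.ChevWTblDef

set_option autoImplicit false

namespace Cfsg.Agent.Lib.Helper5.ChevSym

open Cfsg Cfsg.Lie

def wtblKE7_3 : List ℕ := [1, 2, 3, 4]

def wtblJE7_3 : List ℕ := [2, 3, 4]

def wtblE7_3 : List CosetRec := [
  ⟨[], 0, [93, 78, 73, 69, 66, 64, 63], 0, [0, 1, 10, 11, 12, 0, 0]⟩,
  ⟨[1], 0, [93, 47, 73, 79, 66, 64, 63], 78, [0, 0, 10, 2, 12, 0, 0]⟩,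
  ⟨[3, 1], 1, [93, 46, 74, 78, 70, 64, 63], 79, [0, 11, 3, 1, 4, 0, 0]⟩,
  ⟨[2, 3, 1], 2, [94, 42, 69, 78, 75, 64, 63], 83, [0, 11, 2, 10, 5, 0, 0]⟩,
  ⟨[4, 3, 1], 2, [93, 45, 75, 78, 69, 67, 63], 80, [0, 11, 5, 12, 2, 0, 0]⟩,
  ⟨[4, 2, 3, 1], 3, [94, 41, 70, 78, 74, 67, 63], 80, [0, 11, 4, 6, 3, 0, 0]⟩,
  ⟨[3, 4, 2, 3, 1], 5, [95, 38, 66, 79, 73, 71, 63], 84, [0, 7, 12, 5, 10, 0, 0]⟩,
  ⟨[1, 3, 4, 2, 3, 1], 6, [99, 38, 66, 69, 73, 81, 63], 87, [0, 6, 12, 11, 10, 0, 0]⟩]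

set_option maxRecDepth 1000000 in
theorem chkWTblE7_3_0 : checkRecRange chevE7 wtblKE7_3 wtblJE7_3 wtblE7_3 0 8 = true := by
  decide +kernel

set_option maxRecDepth 1000000 in
theorem chkWTblE7_3_nd : (wtblE7_3.map (·.img)).Nodup := by
  decide +kernel

theorem chkWTblE7_3 (t : ℕ) (ht : t < 8) : checkRec chevE7 wtblKE7_3 wtblJE7_3 wtblE7_3 t = true := by
  exact checkRecRange_spec _ _ _ _ 0 8 chkWTblE7_3_0 t (by omega) ht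

end Cfsg.Agent.Lib.Helper5.ChevSym
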