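import Mathlib
import Cfsg.Prelude.Def_ChevE7
import Cfsg.Agent.Lib.Helper5.ChevWTblDef

set_option autoImplicit false

namespace Cfsg.Agent.Lib.Helper5.ChevSym

open Cfsg Cfsg.Lie

def wtblKE7_4 : List ℕ := [2, 3, 4]

def wtblJE7_4 : List ℕ := [3, 4]

def wtblE7_4 : List CosetRec := [
  ⟨[], 0, [93, 78, 73, 69, 66, 64, 63], 0, [0, 0, 1, 7, 8, 0, 0]⟩,
  ⟨[2], 0, [94, 78, 52, 74, 66, 64, 63], 73, [0, 0, 0, 2, 8, 0, 0]⟩,
  ⟨[3, 2], 1, [95, 79, 51, 73, 70, 64, 63], 74, [0, 0, 7, 1, 3, 0, 0]⟩,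
  ⟨[4, 3, 2], 2, [96, 80, 50, 73, 69, 67, 63], 75, [0, 0, 7, 8, 2, 0, 0]⟩]

set_option maxRecDepth 1000000 in
theorem chkWTblE7_4_0 : checkRecRange chevE7 wtblKE7_4 wtblJE7_4 wtblE7_4 0 4 = true := by
  decide +kernel

set_option maxRecDepth 1000000 in
theorem chkWTblE7_4_nd : (wtblE7_4.map (·.img)).Nodup := by
  decide +kernel

theorem chkWTblE7_4 (t : ℕ) (ht : t < 4) : checkRec chevE7 wtblKE7_4 wtblJE7_4 wtblE7_4 t = true := by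
  exact checkRecRange_spec _ _ _ _ 0 4 chkWTblE7_4_0 t (by omega) ht

end Cfsg.Agent.Lib.Helper5.ChevSym
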