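import Mathlib
import Cfsg.Prelude.Def_ChevE7
import Cfsg.Agent.Lib.Helper5.ChevWTblDef

set_option autoImplicit false

namespace Cfsg.Agent.Lib.Helper5.ChevSym

open Cfsg Cfsg.Lie

def wtblKE7_5 : List ℕ := [3, 4]

def wtblJE7_5 : List ℕ := [4]

def wtblE7_5 : List CosetRec := [
  ⟨[], 0, [93, 78, 73, 69, 66, 64, 63], 0, [0, 0, 0, 1, 7, 0, 0]⟩,
  ⟨[3], 0, [93, 79, 74, 56, 70, 64, 63], 69, [0, 0, 0, 0, 2, 0, 0]⟩,
  ⟨[4, 3], 1, [93, 80, 75, 55, 69, 67, 63], 70, [0, 0, 0, 7, 1, 0, 0]⟩]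

set_option maxRecDepth 1000000 in
theorem chkWTblE7_5_0 : checkRecRange chevE7 wtblKE7_5 wtblJE7_5 wtblE7_5 0 3 = true := by
  decide +kernel

set_option maxRecDepth 1000000 in
theorem chkWTblE7_5_nd : (wtblE7_5.map (·.img)).Nodup := by
  decide +kernel

theorem chkWTblE7_5 (t : ℕ) (ht : t < 3) : checkRec chevE7 wtblKE7_5 wtblJE7_5 wtblE7_5 t = true := by
  exact checkRecRange_spec _ _ _ _ 0 3 chkWTblE7_5_0 t (by omega) ht

end Cfsg.Agent.Lib.Helper5.ChevSym
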