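import Mathlib
import Cfsg.Prelude.Def_ChevE7
import Cfsg.Agent.Lib.Helper5.ChevWTblDef

set_option autoImplicit false

namespace Cfsg.Agent.Lib.Helper5.ChevSym

open Cfsg Cfsg.Lie

def wtblKE7_6 : List ℕ := [4]

def wtblJE7_6 : List ℕ := []

def wtblE7_6 : List CosetRec := [
  ⟨[], 0, [93, 78, 73, 69, 66, 64, 63], 0, [0, 0, 0, 0, 1, 0, 0]⟩,
  ⟨[4], 0, [93, 78, 73, 70, 59, 67, 63], 66, [0, 0, 0, 0, 0, 0, 0]⟩]

set_option maxRecDepth 1000000 in
theorem chkWTblE7_6_0 : checkRecRange chevE7 wtblKE7_6 wtblJE7_6 wtblE7_6 0 2 = true := by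
  decide +kernel

set_option maxRecDepth 1000000 in
theorem chkWTblE7_6_nd : (wtblE7_6.map (·.img)).Nodup := by
  decide +kernel

theorem chkWTblE7_6 (t : ℕ) (ht : t < 2) : checkRec chevE7 wtblKE7_6 wtblJE7_6 wtblE7_6 t = true := by
  exact checkRecRange_spec _ _ _ _ 0 2 chkWTblE7_6_0 t (by omega) ht

end Cfsg.Agent.Lib.Helper5.ChevSym
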