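import Mathlib
import Cfsg.Prelude.Def_ChevE8
import Cfsg.Agent.Lib.Helper5.ChevWTblDef

set_option autoImplicit false

namespace Cfsg.Agent.Lib.Helper5.ChevSym

open Cfsg Cfsg.Lie

def wtblKE8_2 : List ℕ := [0, 1, 2, 3, 4, 5]

def wtblJE8_2 : List ℕ := [1, 2, 3, 4, 5]

def wtblE8_2 : List CosetRec := [
  ⟨[], 0, [162, 141, 135, 130, 126, 123, 121, 120], 0, [1, 28, 29, 30, 31, 32, 0, 0]⟩,
  ⟨[0], 0, [77, 141, 163, 130, 126, 123, 121, 120], 162, [0, 28, 2, 30, 31, 32, 0, 0]⟩,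
  ⟨[2, 0], 1, [76, 141, 162, 136, 126, 123, 121, 120], 163, [29, 28, 1, 3, 31, 32, 0, 0]⟩,
  ⟨[3, 2, 0], 2, [75, 142, 162, 135, 131, 123, 121, 120], 164, [29, 4, 30, 2, 5, 32, 0, 0]⟩,
  ⟨[1, 3, 2, 0], 3, [70, 130, 162, 135, 143, 123, 121, 120], 169, [29, 3, 30, 28, 6, 32, 0, 0]⟩,
  ⟨[4, 3, 2, 0], 3, [74, 143, 162, 135, 130, 127, 121, 120], 165, [29, 6, 30, 31, 3, 7, 0, 0]⟩,
  ⟨[4, 1, 3, 2, 0], 4, [69, 131, 162, 135, 142, 127, 121, 120], 165, [29, 5, 30, 8, 4, 9, 0, 0]⟩,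
  ⟨[5, 4, 3, 2, 0], 5, [73, 144, 162, 135, 130, 126, 124, 120], 166, [29, 9, 30, 31, 32, 5, 0, 0]⟩,
  ⟨[3, 4, 1, 3, 2, 0], 6, [65, 126, 162, 136, 141, 132, 121, 120], 170, [29, 31, 10, 6, 28, 11, 0, 0]⟩,
  ⟨[5, 4, 1, 3, 2, 0], 6, [68, 132, 162, 135, 142, 126, 124, 120], 166, [29, 7, 30, 11, 32, 6, 0, 0]⟩,
  ⟨[2, 3, 4, 1, 3, 2, 0], 8, [55, 126, 163, 130, 141, 138, 121, 120], 174, [12, 31, 8, 30, 28, 13, 0, 0]⟩,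
  ⟨[5, 3, 4, 1, 3, 2, 0], 8, [64, 127, 162, 136, 141, 131, 124, 120], 166, [29, 31, 13, 9, 14, 8, 0, 0]⟩,
  ⟨[0, 2, 3, 4, 1, 3, 2, 0], 10, [55, 126, 135, 130, 141, 166, 121, 120], 184, [10, 31, 29, 30, 28, 15, 0, 0]⟩,
  ⟨[5, 2, 3, 4, 1, 3, 2, 0], 10, [54, 127, 163, 130, 141, 137, 124, 120], 166, [15, 31, 11, 30, 16, 10, 0, 0]⟩,
  ⟨[4, 5, 3, 4, 1, 3, 2, 0], 11, [61, 123, 162, 137, 141, 130, 128, 120], 171, [29, 31, 16, 32, 11, 28, 0, 0]⟩,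
  ⟨[5, 0, 2, 3, 4, 1, 3, 2, 0], 12, [54, 127, 135, 130, 141, 165, 124, 120], 166, [13, 31, 29, 30, 17, 12, 0, 0]⟩,
  ⟨[4, 5, 2, 3, 4, 1, 3, 2, 0], 13, [51, 123, 163, 131, 141, 136, 128, 120], 171, [17, 31, 14, 18, 13, 28, 0, 0]⟩,
  ⟨[4, 5, 0, 2, 3, 4, 1, 3, 2, 0], 15, [51, 123, 135, 131, 141, 164, 128, 120], 171, [16, 31, 29, 19, 15, 28, 0, 0]⟩,
  ⟨[3, 4, 5, 2, 3, 4, 1, 3, 2, 0], 16, [45, 123, 164, 126, 142, 135, 133, 120], 175, [19, 20, 32, 16, 30, 28, 0, 0]⟩,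
  ⟨[3, 4, 5, 0, 2, 3, 4, 1, 3, 2, 0], 17, [45, 123, 136, 126, 142, 163, 133, 120], 175, [18, 21, 22, 17, 30, 28, 0, 0]⟩,
  ⟨[1, 3, 4, 5, 2, 3, 4, 1, 3, 2, 0], 18, [35, 123, 169, 126, 130, 135, 145, 120], 178, [21, 18, 32, 31, 30, 28, 0, 0]⟩,
  ⟨[1, 3, 4, 5, 0, 2, 3, 4, 1, 3, 2, 0], 19, [35, 123, 147, 126, 130, 163, 145, 120], 178, [20, 19, 23, 31, 30, 28, 0, 0]⟩,
  ⟨[2, 3, 4, 5, 0, 2, 3, 4, 1, 3, 2, 0], 19, [45, 123, 130, 126, 147, 162, 139, 120], 185, [32, 23, 19, 29, 30, 28, 0, 0]⟩,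
  ⟨[2, 1, 3, 4, 5, 0, 2, 3, 4, 1, 3, 2, 0], 21, [35, 123, 142, 126, 136, 162, 150, 120], 185, [32, 22, 21, 24, 30, 28, 0, 0]⟩,
  ⟨[3, 2, 1, 3, 4, 5, 0, 2, 3, 4, 1, 3, 2, 0], 23, [35, 123, 141, 131, 135, 162, 154, 120], 188, [32, 29, 31, 23, 25, 28, 0, 0]⟩,
  ⟨[4, 3, 2, 1, 3, 4, 5, 0, 2, 3, 4, 1, 3, 2, 0], 24, [35, 127, 141, 130, 135, 162, 157, 120], 194, [32, 29, 31, 30, 24, 26, 0, 0]⟩,
  ⟨[5, 4, 3, 2, 1, 3, 4, 5, 0, 2, 3, 4, 1, 3, 2, 0], 25, [35, 126, 141, 130, 135, 162, 159, 120], 204, [32, 29, 31, 30, 28, 25, 0, 0]⟩]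

set_option maxRecDepth 1000000 in
theorem chkWTblE8_2_0 : checkRecRange chevE8 wtblKE8_2 wtblJE8_2 wtblE8_2 0 27 = true := by
  decide +kernel

set_option maxRecDepth 1000000 in
theorem chkWTblE8_2_nd : (wtblE8_2.map (·.img)).Nodup := by
  decide +kernel

theorem chkWTblE8_2 (t : ℕ) (ht : t < 27) : checkRec chevE8 wtblKE8_2 wtblJE8_2 wtblE8_2 t = true := by
  exact checkRecRange_spec _ _ _ _ 0 27 chkWTblE8_2_0 t (by omega) ht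

end Cfsg.Agent.Lib.Helper5.ChevSym
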