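import Mathlib
import Cfsg.Prelude.Def_ChevE8
import Cfsg.Agent.Lib.Helper5.ChevWTblDef

set_option autoImplicit false

namespace Cfsg.Agent.Lib.Helper5.ChevSym

open Cfsg Cfsg.Lie

def wtblKE8_3 : List ℕ := [1, 2, 3, 4, 5]

def wtblJE8_3 : List ℕ := [1, 2, 3, 4]

def wtblE8_3 : List CosetRec := [
  ⟨[], 0, [162, 141, 135, 130, 126, 123, 121, 120], 0, [0, 11, 12, 13, 14, 1, 0, 0]⟩,
  ⟨[5], 0, [162, 141, 135, 130, 127, 116, 124, 120], 123, [0, 11, 12, 13, 2, 0, 0, 0]⟩,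
  ⟨[4, 5], 1, [162, 141, 135, 131, 123, 112, 128, 120], 127, [0, 11, 12, 3, 1, 14, 0, 0]⟩,
  ⟨[3, 4, 5], 2, [162, 142, 136, 126, 123, 107, 133, 120], 132, [0, 4, 5, 2, 13, 14, 0, 0]⟩,
  ⟨[1, 3, 4, 5], 3, [162, 130, 147, 126, 123, 95, 145, 120], 144, [0, 3, 6, 11, 13, 14, 0, 0]⟩,
  ⟨[2, 3, 4, 5], 3, [163, 147, 130, 126, 123, 101, 139, 120], 138, [0, 6, 3, 12, 13, 14, 0, 0]⟩,
  ⟨[2, 1, 3, 4, 5], 4, [163, 136, 142, 126, 123, 90, 150, 120], 138, [0, 5, 4, 7, 13, 14, 0, 0]⟩,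
  ⟨[3, 2, 1, 3, 4, 5], 6, [164, 135, 141, 131, 123, 86, 154, 120], 149, [0, 12, 11, 6, 8, 14, 0, 0]⟩,
  ⟨[4, 3, 2, 1, 3, 4, 5], 7, [165, 135, 141, 130, 127, 83, 157, 120], 153, [0, 12, 11, 13, 7, 9, 0, 0]⟩,
  ⟨[5, 4, 3, 2, 1, 3, 4, 5], 8, [166, 135, 141, 130, 126, 83, 159, 120], 156, [0, 12, 11, 13, 14, 8, 0, 0]⟩]

set_option maxRecDepth 1000000 in
theorem chkWTblE8_3_0 : checkRecRange chevE8 wtblKE8_3 wtblJE8_3 wtblE8_3 0 10 = true := by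
  decide +kernel

set_option maxRecDepth 1000000 in
theorem chkWTblE8_3_nd : (wtblE8_3.map (·.img)).Nodup := by
  decide +kernel

theorem chkWTblE8_3 (t : ℕ) (ht : t < 10) : checkRec chevE8 wtblKE8_3 wtblJE8_3 wtblE8_3 t = true := by
  exact checkRecRange_spec _ _ _ _ 0 10 chkWTblE8_3_0 t (by omega) ht

end Cfsg.Agent.Lib.Helper5.ChevSym
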