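import Mathlib
import Cfsg.Prelude.Def_ChevE8
import Cfsg.Agent.Lib.Helper5.ChevWTblDef

set_option autoImplicit false

namespace Cfsg.Agent.Lib.Helper5.ChevSym

open Cfsg Cfsg.Lie

def wtblKE8_5 : List ℕ := [2, 3, 4]

def wtblJE8_5 : List ℕ := [3, 4]

def wtblE8_5 : List CosetRec := [
  ⟨[], 0, [162, 141, 135, 130, 126, 123, 121, 120], 0, [0, 0, 1, 7, 8, 0, 0, 0]⟩,
  ⟨[2], 0, [163, 141, 104, 136, 126, 123, 121, 120], 135, [0, 0, 0, 2, 8, 0, 0, 0]⟩,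
  ⟨[3, 2], 1, [164, 142, 103, 135, 131, 123, 121, 120], 136, [0, 0, 7, 1, 3, 0, 0, 0]⟩,
  ⟨[4, 3, 2], 2, [165, 143, 102, 135, 130, 127, 121, 120], 137, [0, 0, 7, 8, 2, 0, 0, 0]⟩]

set_option maxRecDepth 1000000 in
theorem chkWTblE8_5_0 : checkRecRange chevE8 wtblKE8_5 wtblJE8_5 wtblE8_5 0 4 = true := by
  decide +kernel

set_option maxRecDepth 1000000 in
theorem chkWTblE8_5_nd : (wtblE8_5.map (·.img)).Nodup := by
  decide +kernel

theorem chkWTblE8_5 (t : ℕ) (ht : t < 4) : checkRec chevE8 wtblKE8_5 wtblJE8_5 wtblE8_5 t = true := by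
  exact checkRecRange_spec _ _ _ _ 0 4 chkWTblE8_5_0 t (by omega) ht

end Cfsg.Agent.Lib.Helper5.ChevSym
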