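import Mathlib
import Cfsg.Prelude.Def_ChevE8
import Cfsg.Agent.Lib.Helper5.ChevWTblDef

set_option autoImplicit false

namespace Cfsg.Agent.Lib.Helper5.ChevSym

open Cfsg Cfsg.Lie

def wtblKE8_6 : List ℕ := [3, 4]

def wtblJE8_6 : List ℕ := [4]

def wtblE8_6 : List CosetRec := [
  ⟨[], 0, [162, 141, 135, 130, 126, 123, 121, 120], 0, [0, 0, 0, 1, 7, 0, 0, 0]⟩,
  ⟨[3], 0, [162, 142, 136, 109, 131, 123, 121, 120], 130, [0, 0, 0, 0, 2, 0, 0, 0]⟩,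
  ⟨[4, 3], 1, [162, 143, 137, 108, 130, 127, 121, 120], 131, [0, 0, 0, 7, 1, 0, 0, 0]⟩]

set_option maxRecDepth 1000000 in
theorem chkWTblE8_6_0 : checkRecRange chevE8 wtblKE8_6 wtblJE8_6 wtblE8_6 0 3 = true := by
  decide +kernel

set_option maxRecDepth 1000000 in
theorem chkWTblE8_6_nd : (wtblE8_6.map (·.img)).Nodup := by
  decide +kernel

theorem chkWTblE8_6 (t : ℕ) (ht : t < 3) : checkRec chevE8 wtblKE8_6 wtblJE8_6 wtblE8_6 t = true := by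
  exact checkRecRange_spec _ _ _ _ 0 3 chkWTblE8_6_0 t (by omega) ht

end Cfsg.Agent.Lib.Helper5.ChevSym
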