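import Mathlib
import Cfsg.Prelude.Def_ChevE8
import Cfsg.Agent.Lib.Helper5.ChevWTblDef

set_option autoImplicit false

namespace Cfsg.Agent.Lib.Helper5.ChevSym

open Cfsg Cfsg.Lie

def wtblKE8_7 : List ℕ := [4]

def wtblJE8_7 : List ℕ := []

def wtblE8_7 : List CosetRec := [
  ⟨[], 0, [162, 141, 135, 130, 126, 123, 121, 120], 0, [0, 0, 0, 0, 1, 0, 0, 0]⟩,
  ⟨[4], 0, [162, 141, 135, 131, 113, 127, 121, 120], 126, [0, 0, 0, 0, 0, 0, 0, 0]⟩]

set_option maxRecDepth 1000000 in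
theorem chkWTblE8_7_0 : checkRecRange chevE8 wtblKE8_7 wtblJE8_7 wtblE8_7 0 2 = true := by
  decide +kernel

set_option maxRecDepth 1000000 in
theorem chkWTblE8_7_nd : (wtblE8_7.map (·.img)).Nodup := by
  decide +kernel

theorem chkWTblE8_7 (t : ℕ) (ht : t < 2) : checkRec chevE8 wtblKE8_7 wtblJE8_7 wtblE8_7 t = true := by
  exact checkRecRange_spec _ _ _ _ 0 2 chkWTblE8_7_0 t (by omega) ht

end Cfsg.Agent.Lib.Helper5.ChevSym
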