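import Mathlib
import Cfsg.Prelude.Def_ChevF4
import Cfsg.Agent.Lib.Helper5.ChevWTblDef

set_option autoImplicit false

namespace Cfsg.Agent.Lib.Helper5.ChevSym

open Cfsg Cfsg.Lie

def wtblKF4_0 : List ℕ := [0, 1, 2, 3]

def wtblJF4_0 : List ℕ := [1, 2, 3]

def wtblF4_0 : List CosetRec := [
  ⟨[], 0, [33, 27, 25, 24], 0, [1, 25, 26, 27]⟩,
  ⟨[0], 0, [14, 34, 25, 24], 33, [0, 2, 26, 27]⟩,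
  ⟨[1, 0], 1, [13, 33, 30, 24], 34, [25, 1, 3, 27]⟩,
  ⟨[2, 1, 0], 2, [12, 33, 30, 26], 41, [25, 4, 2, 5]⟩,
  ⟨[1, 2, 1, 0], 3, [10, 34, 25, 31], 35, [6, 3, 26, 7]⟩,
  ⟨[3, 2, 1, 0], 3, [11, 33, 31, 25], 42, [25, 7, 27, 3]⟩,
  ⟨[0, 1, 2, 1, 0], 4, [10, 27, 25, 42], 37, [4, 25, 26, 8]⟩,
  ⟨[3, 1, 2, 1, 0], 4, [9, 34, 26, 30], 42, [8, 5, 9, 4]⟩,
  ⟨[3, 0, 1, 2, 1, 0], 6, [9, 27, 26, 41], 42, [7, 25, 10, 6]⟩,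
  ⟨[2, 3, 1, 2, 1, 0], 7, [8, 35, 24, 30], 43, [10, 11, 7, 26]⟩,
  ⟨[2, 3, 0, 1, 2, 1, 0], 8, [8, 28, 24, 41], 43, [9, 12, 8, 26]⟩,
  ⟨[1, 2, 3, 1, 2, 1, 0], 9, [7, 37, 24, 25], 36, [13, 9, 27, 26]⟩,
  ⟨[1, 2, 3, 0, 1, 2, 1, 0], 10, [7, 28, 24, 41], 44, [14, 10, 15, 26]⟩,
  ⟨[0, 1, 2, 3, 1, 2, 1, 0], 11, [3, 37, 24, 25], 44, [11, 14, 27, 26]⟩,
  ⟨[0, 1, 2, 3, 0, 1, 2, 1, 0], 12, [3, 35, 24, 30], 36, [12, 13, 16, 26]⟩,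
  ⟨[2, 1, 2, 3, 0, 1, 2, 1, 0], 12, [7, 27, 26, 41], 45, [16, 25, 12, 17]⟩,
  ⟨[2, 0, 1, 2, 3, 0, 1, 2, 1, 0], 14, [3, 34, 26, 30], 45, [15, 18, 14, 19]⟩,
  ⟨[3, 2, 1, 2, 3, 0, 1, 2, 1, 0], 15, [7, 27, 25, 42], 46, [19, 25, 26, 15]⟩,
  ⟨[1, 2, 0, 1, 2, 3, 0, 1, 2, 1, 0], 16, [3, 33, 31, 25], 38, [25, 16, 27, 20]⟩,
  ⟨[3, 2, 0, 1, 2, 3, 0, 1, 2, 1, 0], 16, [3, 34, 25, 31], 46, [17, 20, 26, 16]⟩,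
  ⟨[3, 1, 2, 0, 1, 2, 3, 0, 1, 2, 1, 0], 18, [3, 33, 30, 26], 46, [25, 19, 21, 18]⟩,
  ⟨[2, 3, 1, 2, 0, 1, 2, 3, 0, 1, 2, 1, 0], 20, [3, 33, 30, 24], 47, [25, 22, 20, 27]⟩,
  ⟨[1, 2, 3, 1, 2, 0, 1, 2, 3, 0, 1, 2, 1, 0], 21, [3, 34, 25, 24], 39, [23, 21, 26, 27]⟩,
  ⟨[0, 1, 2, 3, 1, 2, 0, 1, 2, 3, 0, 1, 2, 1, 0], 22, [7, 27, 25, 24], 40, [22, 25, 26, 27]⟩]

set_option maxRecDepth 1000000 in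
theorem chkWTblF4_0_0 : checkRecRange chevF4 wtblKF4_0 wtblJF4_0 wtblF4_0 0 24 = true := by
  decide +kernel

set_option maxRecDepth 1000000 in
theorem chkWTblF4_0_nd : (wtblF4_0.map (·.img)).Nodup := by
  decide +kernel

theorem chkWTblF4_0 (t : ℕ) (ht : t < 24) : checkRec chevF4 wtblKF4_0 wtblJF4_0 wtblF4_0 t = true := by
  exact checkRecRange_spec _ _ _ _ 0 24 chkWTblF4_0_0 t (by omega) ht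

end Cfsg.Agent.Lib.Helper5.ChevSym
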