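import Mathlib
import Cfsg.Prelude.Def_ChevF4
import Cfsg.Agent.Lib.Helper5.ChevWTblDef

set_option autoImplicit false

namespace Cfsg.Agent.Lib.Helper5.ChevSym

open Cfsg Cfsg.Lie

def wtblKF4_1 : List ℕ := [1, 2, 3]

def wtblJF4_1 : List ℕ := [1, 2]

def wtblF4_1 : List CosetRec := [
  ⟨[], 0, [33, 27, 25, 24], 0, [0, 7, 8, 1]⟩,
  ⟨[3], 0, [33, 27, 26, 23], 24, [0, 7, 2, 0]⟩,
  ⟨[2, 3], 1, [33, 28, 24, 21], 26, [0, 3, 1, 8]⟩,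
  ⟨[1, 2, 3], 2, [34, 28, 24, 16], 29, [0, 2, 4, 8]⟩,
  ⟨[2, 1, 2, 3], 3, [35, 27, 26, 15], 31, [0, 7, 3, 5]⟩,
  ⟨[3, 2, 1, 2, 3], 4, [36, 27, 25, 15], 32, [0, 7, 8, 4]⟩]

set_option maxRecDepth 1000000 in
theorem chkWTblF4_1_0 : checkRecRange chevF4 wtblKF4_1 wtblJF4_1 wtblF4_1 0 6 = true := by
  decide +kernel

set_option maxRecDepth 1000000 in
theorem chkWTblF4_1_nd : (wtblF4_1.map (·.img)).Nodup := by
  decide +kernel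

theorem chkWTblF4_1 (t : ℕ) (ht : t < 6) : checkRec chevF4 wtblKF4_1 wtblJF4_1 wtblF4_1 t = true := by
  exact checkRecRange_spec _ _ _ _ 0 6 chkWTblF4_1_0 t (by omega) ht

end Cfsg.Agent.Lib.Helper5.ChevSym
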