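import Mathlib
import Cfsg.Prelude.Def_ChevF4
import Cfsg.Agent.Lib.Helper5.ChevWTblDef

set_option autoImplicit false

namespace Cfsg.Agent.Lib.Helper5.ChevSym

open Cfsg Cfsg.Lie

def wtblKF4_2 : List ℕ := [1, 2]

def wtblJF4_2 : List ℕ := [2]

def wtblF4_2 : List CosetRec := [
  ⟨[], 0, [33, 27, 25, 24], 0, [0, 1, 6, 0]⟩,
  ⟨[1], 0, [34, 20, 30, 24], 27, [0, 0, 2, 0]⟩,
  ⟨[2, 1], 1, [35, 19, 30, 26], 30, [0, 3, 1, 0]⟩,
  ⟨[1, 2, 1], 2, [37, 19, 25, 31], 28, [0, 2, 6, 0]⟩]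

set_option maxRecDepth 1000000 in
theorem chkWTblF4_2_0 : checkRecRange chevF4 wtblKF4_2 wtblJF4_2 wtblF4_2 0 4 = true := by
  decide +kernel

set_option maxRecDepth 1000000 in
theorem chkWTblF4_2_nd : (wtblF4_2.map (·.img)).Nodup := by
  decide +kernel

theorem chkWTblF4_2 (t : ℕ) (ht : t < 4) : checkRec chevF4 wtblKF4_2 wtblJF4_2 wtblF4_2 t = true := by
  exact checkRecRange_spec _ _ _ _ 0 4 chkWTblF4_2_0 t (by omega) ht

end Cfsg.Agent.Lib.Helper5.ChevSym
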