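import Mathlib
import Cfsg.Prelude.Def_ChevF4
import Cfsg.Agent.Lib.Helper5.ChevWTblDef

set_option autoImplicit false

namespace Cfsg.Agent.Lib.Helper5.ChevSym

open Cfsg Cfsg.Lie

def wtblKF4_3 : List ℕ := [2]

def wtblJF4_3 : List ℕ := []

def wtblF4_3 : List CosetRec := [
  ⟨[], 0, [33, 27, 25, 24], 0, [0, 0, 1, 0]⟩,
  ⟨[2], 0, [33, 28, 22, 26], 25, [0, 0, 0, 0]⟩]

set_option maxRecDepth 1000000 in
theorem chkWTblF4_3_0 : checkRecRange chevF4 wtblKF4_3 wtblJF4_3 wtblF4_3 0 2 = true := by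
  decide +kernel

set_option maxRecDepth 1000000 in
theorem chkWTblF4_3_nd : (wtblF4_3.map (·.img)).Nodup := by
  decide +kernel

theorem chkWTblF4_3 (t : ℕ) (ht : t < 2) : checkRec chevF4 wtblKF4_3 wtblJF4_3 wtblF4_3 t = true := by
  exact checkRecRange_spec _ _ _ _ 0 2 chkWTblF4_3_0 t (by omega) ht

end Cfsg.Agent.Lib.Helper5.ChevSym
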