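import Mathlib
import Cfsg.Prelude.Def_ChevG2
import Cfsg.Agent.Lib.Helper5.ChevWTblDef

set_option autoImplicit false

namespace Cfsg.Agent.Lib.Helper5.ChevSym

open Cfsg Cfsg.Lie

def wtblKG2_0 : List ℕ := [0, 1]

def wtblJG2_0 : List ℕ := [1]

def wtblG2_0 : List CosetRec := [
  ⟨[], 0, [7, 6], 0, [1, 7]⟩,
  ⟨[0], 0, [4, 10], 7, [0, 2]⟩,
  ⟨[1, 0], 1, [3, 11], 10, [3, 1]⟩,
  ⟨[0, 1, 0], 2, [2, 11], 9, [2, 4]⟩,
  ⟨[1, 0, 1, 0], 3, [2, 10], 11, [5, 3]⟩,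
  ⟨[0, 1, 0, 1, 0], 4, [3, 6], 8, [4, 7]⟩]

set_option maxRecDepth 1000000 in
theorem chkWTblG2_0_0 : checkRecRange chevG2 wtblKG2_0 wtblJG2_0 wtblG2_0 0 6 = true := by
  decide +kernel

set_option maxRecDepth 1000000 in
theorem chkWTblG2_0_nd : (wtblG2_0.map (·.img)).Nodup := by
  decide +kernel

theorem chkWTblG2_0 (t : ℕ) (ht : t < 6) : checkRec chevG2 wtblKG2_0 wtblJG2_0 wtblG2_0 t = true := by
  exact checkRecRange_spec _ _ _ _ 0 6 chkWTblG2_0_0 t (by omega) ht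

end Cfsg.Agent.Lib.Helper5.ChevSym
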