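import Mathlib
import Cfsg.Prelude.Def_ChevG2
import Cfsg.Agent.Lib.Helper5.ChevWTblDef

set_option autoImplicit false

namespace Cfsg.Agent.Lib.Helper5.ChevSym

open Cfsg Cfsg.Lie

def wtblKG2_1 : List ℕ := [1]

def wtblJG2_1 : List ℕ := []

def wtblG2_1 : List CosetRec := [
  ⟨[], 0, [7, 6], 0, [0, 1]⟩,
  ⟨[1], 0, [8, 5], 6, [0, 0]⟩]

set_option maxRecDepth 1000000 in
theorem chkWTblG2_1_0 : checkRecRange chevG2 wtblKG2_1 wtblJG2_1 wtblG2_1 0 2 = true := by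
  decide +kernel

set_option maxRecDepth 1000000 in
theorem chkWTblG2_1_nd : (wtblG2_1.map (·.img)).Nodup := by
  decide +kernel

theorem chkWTblG2_1 (t : ℕ) (ht : t < 2) : checkRec chevG2 wtblKG2_1 wtblJG2_1 wtblG2_1 t = true := by
  exact checkRecRange_spec _ _ _ _ 0 2 chkWTblG2_1_0 t (by omega) ht

end Cfsg.Agent.Lib.Helper5.ChevSym
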