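import Mathlib
import Cfsg.Prelude.Def_ChevE6
import Cfsg.Prelude.Def_ChevD4
import Cfsg.Agent.Lib.Helper5.ChevTwistChk
import Cfsg.Agent.Lib.Helper5.ChevChk.GraphData

set_option autoImplicit false

namespace Cfsg.Agent.Lib.Helper5.ChevSym

open Cfsg Cfsg.Lie

/-- the twist datum of type `E6` -/
def twE6 : TwistData where
  D := chevE6
  G := gE6
  m := 2
  blocks := [[36, 56], [37, 42], [39], [46], [38, 57], [40, 43], [47], [41, 58], [44], [48, 50], [45, 59], [49, 61], [51], [52, 62], [53], [60], [54, 64], [63], [55, 67], [65], [66, 68], [69], [70], [71]]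
  rep := [0, 0, 0, 0, 0, 0, 0, 0, 0, 0, 0, 0, 0, 0, 0, 0, 0, 0, 0, 0, 0, 0, 0, 0, 0, 0, 0, 0, 0, 0, 0, 0, 0, 0, 0, 0, 36, 37, 38, 39, 40, 41, 37, 40, 44, 45, 46, 47, 48, 49, 48, 51, 52, 53, 54, 55, 36, 38, 41, 45, 60, 49, 52, 63, 54, 65, 66, 55, 66, 69, 70, 71]
  idx := [0, 0, 0, 0, 0, 0, 0, 0, 0, 0, 0, 0, 0, 0, 0, 0, 0, 0, 0, 0, 0, 0, 0, 0, 0, 0, 0, 0, 0, 0, 0, 0, 0, 0, 0, 0, 0, 0, 0, 0, 0, 0, 1, 1, 0, 0, 0, 0, 0, 0, 1, 0, 0, 0, 0, 0, 1, 1, 1, 1, 0, 1, 1, 0, 1, 0, 0, 1, 1, 0, 0, 0]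
  sg := [1, 1, 1, 1, 1, 1, 1, 1, 1, 1, 1, 1, 1, 1, 1, 1, 1, 1, 1, 1, 1, 1, 1, 1, 1, 1, 1, 1, 1, 1, 1, 1, 1, 1, 1, 1, 1, 1, 1, 1, 1, 1, 1, -1, 1, 1, 1, 1, 1, 1, 1, 1, 1, 1, 1, 1, 1, -1, 1, -1, 1, -1, -1, 1, -1, 1, 1, -1, 1, 1, 1, 1]

set_option maxRecDepth 1000000 in
theorem twE6_check : twE6.check = true := by decide +kernel

theorem twE6_ok : twE6.OK := twE6.ok_of_check twE6_check

/-- the twist datum of type `D4` -/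
def twD4 : TwistData where
  D := chevD4
  G := gD4a
  m := 3
  blocks := [[12, 18, 13], [14], [15, 19, 16], [17, 20, 21], [22], [23]]
  rep := [0, 0, 0, 0, 0, 0, 0, 0, 0, 0, 0, 0, 12, 12, 14, 15, 15, 17, 12, 15, 17, 17, 22, 23]
  idx := [0, 0, 0, 0, 0, 0, 0, 0, 0, 0, 0, 0, 0, 2, 0, 0, 2, 0, 1, 1, 1, 2, 0, 0]
  sg := [1, 1, 1, 1, 1, 1, 1, 1, 1, 1, 1, 1, 1, 1, 1, 1, 1, 1, 1, -1, -1, -1, 1, 1]

set_option maxRecDepth 1000000 in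
theorem twD4_check : twD4.check = true := by decide +kernel

theorem twD4_ok : twD4.OK := twD4.ok_of_check twD4_check

end Cfsg.Agent.Lib.Helper5.ChevSym
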