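import Mathlib
import Cfsg.Prelude.Def_ChevE8
import Cfsg.Agent.Lib.Helper5.ChevSymComm

set_option autoImplicit false

namespace Cfsg.Agent.Lib.Helper5.ChevSym

open Cfsg Cfsg.Lie

set_option maxRecDepth 1000000 in
theorem chkBase_E8_0 : checkCommRow chevE8 162 0 20 = true := by
  decide +kernel

set_option maxRecDepth 1000000 in
theorem chkBase_E8_20 : checkCommRow chevE8 162 20 20 = true := by
  decide +kernel

set_option maxRecDepth 1000000 in
theorem chkBase_E8_40 : checkCommRow chevE8 162 40 20 = true := by
  decide +kernel

set_option maxRecDepth 1000000 in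
theorem chkBase_E8_60 : checkCommRow chevE8 162 60 20 = true := by
  decide +kernel

set_option maxRecDepth 1000000 in
theorem chkBase_E8_80 : checkCommRow chevE8 162 80 20 = true := by
  decide +kernel

set_option maxRecDepth 1000000 in
theorem chkBase_E8_100 : checkCommRow chevE8 162 100 20 = true := by
  decide +kernel

end Cfsg.Agent.Lib.Helper5.ChevSym
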