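import Mathlib
import Cfsg.Prelude.Def_ChevE8
import Cfsg.Agent.Lib.Helper5.ChevSymComm
import Cfsg.Agent.Lib.Helper5.ChevSymEdge
import Cfsg.Agent.Lib.Helper5.ChevTreeDef
import Cfsg.Agent.Lib.Helper5.ChevChk.BaseE8_0
import Cfsg.Agent.Lib.Helper5.ChevChk.BaseE8_1

set_option autoImplicit false

namespace Cfsg.Agent.Lib.Helper5.ChevSym

open Cfsg Cfsg.Lie

/-- a spanning tree of the roots of `E8` under the fundamental reflections, from the root `162` -/
def treeE8 : List (ℕ × ℕ) :=
    [(0, 162), (2, 162), (2, 77), (0, 163), (3, 163), (0, 76), (3, 76), (3, 135), (1, 164),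
     (4, 164), (3, 104), (1, 75), (4, 75), (1, 136), (2, 136), (4, 136), (4, 169), (5, 165),
     (1, 103), (2, 103), (4, 103), (4, 70), (5, 74), (2, 147), (4, 147), (4, 130), (5, 137),
     (3, 170), (5, 170), (6, 166), (2, 92), (4, 92), (4, 109), (5, 102), (3, 69), (5, 69),
     (6, 73), (3, 142), (4, 142), (3, 148), (5, 148), (3, 131), (5, 131), (6, 138), (2, 174),
     (5, 174), (6, 171), (7, 167), (3, 97), (4, 97), (3, 91), (5, 91), (3, 108), (5, 108),
     (6, 101), (2, 65), (5, 65), (6, 68), (7, 72), (5, 143), (5, 152), (6, 149), (5, 126),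
     (6, 132), (7, 139), (5, 184), (4, 175), (6, 175), (7, 172), (5, 96), (5, 87), (6, 90),
     (5, 113), (6, 107), (7, 100), (5, 55), (4, 64), (6, 64), (7, 67), (6, 144), (4, 153),
     (6, 153), (7, 150), (4, 127), (6, 127), (7, 133), (4, 185), (6, 185), (6, 178), (7, 176),
     (6, 95), (4, 86), (6, 86), (7, 89), (4, 112), (6, 112), (7, 106), (4, 54), (6, 54),
     (6, 61), (7, 63), (7, 145), (6, 156), (7, 154), (6, 123), (7, 128), (3, 188), (6, 188),
     (7, 186), (5, 179), (7, 179), (7, 94), (6, 83), (7, 85), (6, 116), (7, 111), (3, 51),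
     (6, 51), (7, 53), (5, 60), (7, 60), (5, 157), (7, 157), (5, 124), (7, 124), (1, 194),
     (6, 194), (5, 189), (7, 189), (7, 181), (5, 82), (7, 82), (5, 115), (7, 115), (1, 45),
     (6, 45), (5, 50), (7, 50), (7, 58), (7, 159), (7, 121), (6, 204), (5, 195), (7, 195),
     (7, 191), (6, 182), (7, 80), (7, 118), (6, 35), (5, 44), (7, 44), (7, 48), (6, 57),
     (6, 160), (6, 122), (5, 205), (7, 205), (4, 197), (7, 197), (6, 192), (6, 79), (6, 117),
     (5, 34), (7, 34), (4, 42), (7, 42), (6, 47), (4, 207), (7, 207), (7, 200), (6, 198),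
     (4, 32), (7, 32), (7, 39), (6, 41), (3, 210), (7, 210), (6, 208), (6, 201), (3, 29),
     (7, 29), (6, 31), (6, 38), (2, 214), (7, 214), (6, 211), (5, 202), (2, 25), (7, 25),
     (6, 28), (5, 37), (0, 219), (7, 219), (6, 215), (5, 212), (0, 20), (7, 20), (6, 24),
     (5, 27), (7, 226), (6, 220), (5, 216), (7, 13), (6, 19), (5, 23), (6, 227), (5, 221),
     (4, 217), (6, 12), (5, 18), (4, 22), (5, 228), (4, 222), (5, 11), (4, 17), (4, 229),
     (3, 223), (4, 10), (3, 16), (3, 230), (1, 224), (3, 9), (1, 15), (1, 231), (2, 231),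
     (1, 8), (2, 8), (2, 233), (2, 6), (3, 234), (3, 5), (4, 235), (4, 4), (5, 236), (5, 3),
     (6, 237), (6, 2), (7, 238), (7, 1)]

set_option maxRecDepth 1000000 in
theorem chkTree_E8 : checkTree chevE8 162 treeE8 = true := by
  decide +kernel

set_option maxRecDepth 1000000 in
theorem chkSL_E8 : checkSL chevE8 = true := by
  decide +kernel

set_option maxRecDepth 1000000 in
theorem chkEdges_E8_0 : checkEdges chevE8 0 (edgesOf treeE8 0) = true := by
  decide +kernel

set_option maxRecDepth 1000000 in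
theorem chkNegRefl_E8_0 : checkNegRefl chevE8 0 = true := by
  decide +kernel

set_option maxRecDepth 1000000 in
theorem chkEdges_E8_1 : checkEdges chevE8 1 (edgesOf treeE8 1) = true := by
  decide +kernel

set_option maxRecDepth 1000000 in
theorem chkNegRefl_E8_1 : checkNegRefl chevE8 1 = true := by
  decide +kernel

set_option maxRecDepth 1000000 in
theorem chkEdges_E8_2 : checkEdges chevE8 2 (edgesOf treeE8 2) = true := by
  decide +kernel

set_option maxRecDepth 1000000 in
theorem chkNegRefl_E8_2 : checkNegRefl chevE8 2 = true := by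
  decide +kernel

set_option maxRecDepth 1000000 in
theorem chkEdges_E8_3 : checkEdges chevE8 3 (edgesOf treeE8 3) = true := by
  decide +kernel

set_option maxRecDepth 1000000 in
theorem chkNegRefl_E8_3 : checkNegRefl chevE8 3 = true := by
  decide +kernel

set_option maxRecDepth 1000000 in
theorem chkEdges_E8_4 : checkEdges chevE8 4 (edgesOf treeE8 4) = true := by
  decide +kernel

set_option maxRecDepth 1000000 in
theorem chkNegRefl_E8_4 : checkNegRefl chevE8 4 = true := by
  decide +kernel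

set_option maxRecDepth 1000000 in
theorem chkEdges_E8_5 : checkEdges chevE8 5 (edgesOf treeE8 5) = true := by
  decide +kernel

set_option maxRecDepth 1000000 in
theorem chkNegRefl_E8_5 : checkNegRefl chevE8 5 = true := by
  decide +kernel

set_option maxRecDepth 1000000 in
theorem chkEdges_E8_6 : checkEdges chevE8 6 (edgesOf treeE8 6) = true := by
  decide +kernel

set_option maxRecDepth 1000000 in
theorem chkNegRefl_E8_6 : checkNegRefl chevE8 6 = true := by
  decide +kernel

set_option maxRecDepth 1000000 in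
theorem chkEdges_E8_7 : checkEdges chevE8 7 (edgesOf treeE8 7) = true := by
  decide +kernel

set_option maxRecDepth 1000000 in
theorem chkNegRefl_E8_7 : checkNegRefl chevE8 7 = true := by
  decide +kernel

theorem chkEdges_E8 (i : ℕ) (hi : i < 8) :
    checkEdges chevE8 i (edgesOf treeE8 i) = true ∧ checkNegRefl chevE8 i = true := by
  interval_cases i
  · exact ⟨chkEdges_E8_0, chkNegRefl_E8_0⟩
  · exact ⟨chkEdges_E8_1, chkNegRefl_E8_1⟩
  · exact ⟨chkEdges_E8_2, chkNegRefl_E8_2⟩
  · exact ⟨chkEdges_E8_3, chkNegRefl_E8_3⟩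
  · exact ⟨chkEdges_E8_4, chkNegRefl_E8_4⟩
  · exact ⟨chkEdges_E8_5, chkNegRefl_E8_5⟩
  · exact ⟨chkEdges_E8_6, chkNegRefl_E8_6⟩
  · exact ⟨chkEdges_E8_7, chkNegRefl_E8_7⟩

theorem chkBase_E8 (s : ℕ) (hs : s < 240) :
    ∃ lo n, checkCommRow chevE8 162 lo n = true ∧ lo ≤ s ∧ s < lo + n := by
  rcases Nat.lt_or_ge s 20 with h | h
  · exact ⟨0, 20, chkBase_E8_0, by omega, by omega⟩
  rcases Nat.lt_or_ge s 40 with h | h
  · exact ⟨20, 20, chkBase_E8_20, by omega, by omega⟩
  rcases Nat.lt_or_ge s 60 with h | h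
  · exact ⟨40, 20, chkBase_E8_40, by omega, by omega⟩
  rcases Nat.lt_or_ge s 80 with h | h
  · exact ⟨60, 20, chkBase_E8_60, by omega, by omega⟩
  rcases Nat.lt_or_ge s 100 with h | h
  · exact ⟨80, 20, chkBase_E8_80, by omega, by omega⟩
  rcases Nat.lt_or_ge s 120 with h | h
  · exact ⟨100, 20, chkBase_E8_100, by omega, by omega⟩
  rcases Nat.lt_or_ge s 140 with h | h
  · exact ⟨120, 20, chkBase_E8_120, by omega, by omega⟩
  rcases Nat.lt_or_ge s 160 with h | h
  · exact ⟨140, 20, chkBase_E8_140, by omega, by omega⟩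
  rcases Nat.lt_or_ge s 180 with h | h
  · exact ⟨160, 20, chkBase_E8_160, by omega, by omega⟩
  rcases Nat.lt_or_ge s 200 with h | h
  · exact ⟨180, 20, chkBase_E8_180, by omega, by omega⟩
  rcases Nat.lt_or_ge s 220 with h | h
  · exact ⟨200, 20, chkBase_E8_200, by omega, by omega⟩
  rcases Nat.lt_or_ge s 240 with h | h
  · exact ⟨220, 20, chkBase_E8_220, by omega, by omega⟩
  omega

end Cfsg.Agent.Lib.Helper5.ChevSym
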