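import Mathlib
import Cfsg.Prelude.Def_ChevAutomorphisms
import Cfsg.Prelude.Def_ChevG2
import Cfsg.Prelude.Def_ChevB2
import Cfsg.Prelude.Def_ChevD4
import Cfsg.Prelude.Def_ChevF4
import Cfsg.Prelude.Def_ChevE6
import Cfsg.Prelude.Def_ChevE7
import Cfsg.Prelude.Def_ChevE8
import Cfsg.Agent.Lib.Helper5.ChevGenNDef

set_option autoImplicit false

/-!
Orbit checks for the generation of the Chevalley groups by `N` and one or two root subgroups.
-/

namespace Cfsg.Agent.Lib.Helper5.ChevSym

open Cfsg Cfsg.Lie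

set_option maxRecDepth 1000000 in
theorem reach_D4 : ∀ i < chevD4.rank, checkReach chevD4 [chevD4.simple i] = true := by
  decide +kernel

set_option maxRecDepth 1000000 in
theorem reach_E6 : ∀ i < chevE6.rank, checkReach chevE6 [chevE6.simple i] = true := by
  decide +kernel

set_option maxRecDepth 1000000 in
theorem short_B2 : ∀ i < chevB2.rank, chevB2.isLong (chevB2.simple i) = false → i = 0 := by
  decide +kernel

set_option maxRecDepth 1000000 in
theorem short_G2 : ∀ i < chevG2.rank, chevG2.isLong (chevG2.simple i) = false → i = 0 := by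
  decide +kernel

set_option maxRecDepth 1000000 in
theorem short_F4 : ∀ i < chevF4.rank, chevF4.isLong (chevF4.simple i) = false → i < 2 := by
  decide +kernel

set_option maxRecDepth 1000000 in
theorem reach_B2 : 5 ∈ orb chevB2 (chevB2.simple 0) ∧ 6 ∈ orb chevB2 (chevB2.simple 0) ∧
    chevB2.commTerms 5 6 = [(7, 2, 1, 1)] ∧ 6 ≠ chevB2.neg 5 ∧ 7 < chevB2.nroots ∧
    checkReach chevB2 [chevB2.simple 0, 7] = true := by
  decide +kernel

set_option maxRecDepth 1000000 in
theorem reach_G2 : 4 ∈ orb chevG2 (chevG2.simple 0) ∧ 8 ∈ orb chevG2 (chevG2.simple 0) ∧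
    chevG2.commTerms 4 8 = [(6, -3, 1, 1)] ∧ 8 ≠ chevG2.neg 4 ∧ 6 < chevG2.nroots ∧
    checkReach chevG2 [chevG2.simple 0, 6] = true := by
  decide +kernel

set_option maxRecDepth 1000000 in
theorem reach_F4a : ∀ i < 2, 3 ∈ orb chevF4 (chevF4.simple i) ∧
    18 ∈ orb chevF4 (chevF4.simple i) ∧ chevF4.commTerms 3 18 = [(0, 2, 1, 1)] := by
  decide +kernel

set_option maxRecDepth 1000000 in
theorem reach_F4b : ∀ i < 2, 18 ≠ chevF4.neg 3 ∧ 0 < chevF4.nroots ∧
    checkReach chevF4 [chevF4.simple i, 0] = true := by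
  decide +kernel

theorem reach_F4 : ∀ i < 2, 3 ∈ orb chevF4 (chevF4.simple i) ∧ 18 ∈ orb chevF4 (chevF4.simple i) ∧
    chevF4.commTerms 3 18 = [(0, 2, 1, 1)] ∧ 18 ≠ chevF4.neg 3 ∧ 0 < chevF4.nroots ∧
    checkReach chevF4 [chevF4.simple i, 0] = true := by
  intro i hi
  obtain ⟨a1, a2, a3⟩ := reach_F4a i hi
  obtain ⟨a4, a5, a6⟩ := reach_F4b i hi
  exact ⟨a1, a2, a3, a4, a5, a6⟩

set_option maxRecDepth 1000000 in
theorem reach2_B2 : ∀ i < chevB2.rank, ∀ j < chevB2.rank,
    chevB2.isLong (chevB2.simple i) = false → chevB2.isLong (chevB2.simple j) = true →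
    checkReach chevB2 [chevB2.simple i, chevB2.simple j] = true := by
  decide +kernel

set_option maxRecDepth 1000000 in
theorem reach2_G2 : ∀ i < chevG2.rank, ∀ j < chevG2.rank,
    chevG2.isLong (chevG2.simple i) = false → chevG2.isLong (chevG2.simple j) = true →
    checkReach chevG2 [chevG2.simple i, chevG2.simple j] = true := by
  decide +kernel

set_option maxRecDepth 1000000 in
theorem reach2_F4 : ∀ i < chevF4.rank, ∀ j < chevF4.rank,
    chevF4.isLong (chevF4.simple i) = false → chevF4.isLong (chevF4.simple j) = true →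
    checkReach chevF4 [chevF4.simple i, chevF4.simple j] = true := by
  decide +kernel

end Cfsg.Agent.Lib.Helper5.ChevSym
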