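import Mathlib
import Cfsg.Prelude.Def_ChevAutomorphisms
import Cfsg.Prelude.Def_ChevG2
import Cfsg.Prelude.Def_ChevB2
import Cfsg.Prelude.Def_ChevD4
import Cfsg.Prelude.Def_ChevF4
import Cfsg.Prelude.Def_ChevE6
import Cfsg.Prelude.Def_ChevE7
import Cfsg.Prelude.Def_ChevE8
import Cfsg.Agent.Lib.Helper5.ChevGenNDef

set_option autoImplicit false

/-!
Orbit checks for the generation of the Chevalley groups by `N` and one or two root subgroups.
-/

namespace Cfsg.Agent.Lib.Helper5.ChevSym

open Cfsg Cfsg.Lie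

set_option maxRecDepth 1000000 in
theorem reach_E7 : ∀ i < chevE7.rank, checkReach chevE7 [chevE7.simple i] = true := by
  decide +kernel

end Cfsg.Agent.Lib.Helper5.ChevSym
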