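import Mathlib
import Cfsg.Prelude.Def_ChevAutomorphisms
import Cfsg.Prelude.Def_ChevG2
import Cfsg.Prelude.Def_ChevB2
import Cfsg.Prelude.Def_ChevD4
import Cfsg.Prelude.Def_ChevF4
import Cfsg.Prelude.Def_ChevE6
import Cfsg.Prelude.Def_ChevE7
import Cfsg.Prelude.Def_ChevE8
import Cfsg.Agent.Lib.Helper5.ChevGenNDef

set_option autoImplicit false

/-!
Orbit checks for the generation of the Chevalley groups by `N` and one or two root subgroups.
-/

namespace Cfsg.Agent.Lib.Helper5.ChevSym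

open Cfsg Cfsg.Lie

/-- words carrying the fundamental roots of `E₈` to the first one -/
def wtabE8 : List (List ℕ) :=
  [[], [2, 3, 0, 2, 1, 3], [2, 0], [2, 3, 0, 2], [2, 3, 4, 0, 2, 3], [2, 3, 4, 5, 0, 2, 3, 4],
    [2, 3, 4, 5, 6, 0, 2, 3, 4, 5], [2, 3, 4, 5, 6, 7, 0, 2, 3, 4, 5, 6]]

set_option maxRecDepth 1000000 in
theorem wtabE8_ok : ∀ i < chevE8.rank, (∀ j ∈ wtabE8.getD i [], j < chevE8.rank) ∧
    wAct chevE8 (wtabE8.getD i []) (chevE8.simple i) = chevE8.simple 0 := by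
  decide +kernel

set_option maxRecDepth 1000000 in
theorem reach_E8 : checkReach chevE8 [chevE8.simple 0] = true := by
  decide +kernel

end Cfsg.Agent.Lib.Helper5.ChevSym
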