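import Mathlib
import Cfsg.Prelude.Def_ChevE6
import Cfsg.Agent.Lib.Helper5.ChevTwistTbl

set_option autoImplicit false

/-!
Transversals in the group generated by the `w_J` (type `E6`).
-/

namespace Cfsg.Agent.Lib.Helper5.ChevSym

open Cfsg Cfsg.Lie Cfsg.Agent.Lib.Helper5.ChevStruct

/-- the orbits `K` of step 0 -/
def ttblKE6_0 : List (List ℕ) := [[0, 5], [1], [2, 4], [3]]
/-- the orbits `J` of step 0 -/
def ttblJE6_0 : List (List ℕ) := [[1], [2, 4], [3]]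
/-- the transversal of step 0 -/
def ttblE6_0 : List TRec := [
  ⟨[], [1, 24, 25, 26]⟩,
  ⟨[[0, 5]], [0, 24, 2, 26]⟩,
  ⟨[[2, 4], [0, 5]], [25, 24, 1, 3]⟩,
  ⟨[[3], [2, 4], [0, 5]], [25, 4, 5, 2]⟩,
  ⟨[[1], [3], [2, 4], [0, 5]], [25, 3, 6, 24]⟩,
  ⟨[[2, 4], [3], [2, 4], [0, 5]], [7, 6, 3, 26]⟩,
  ⟨[[2, 4], [1], [3], [2, 4], [0, 5]], [8, 5, 4, 9]⟩,
  ⟨[[0, 5], [2, 4], [3], [2, 4], [0, 5]], [5, 8, 25, 26]⟩,
  ⟨[[0, 5], [2, 4], [1], [3], [2, 4], [0, 5]], [6, 7, 25, 10]⟩,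
  ⟨[[3], [2, 4], [1], [3], [2, 4], [0, 5]], [10, 26, 11, 6]⟩,
  ⟨[[3], [0, 5], [2, 4], [1], [3], [2, 4], [0, 5]], [9, 26, 12, 8]⟩,
  ⟨[[2, 4], [3], [2, 4], [1], [3], [2, 4], [0, 5]], [13, 26, 9, 24]⟩,
  ⟨[[2, 4], [3], [0, 5], [2, 4], [1], [3], [2, 4], [0, 5]], [14, 26, 10, 15]⟩,
  ⟨[[0, 5], [2, 4], [3], [2, 4], [1], [3], [2, 4], [0, 5]], [11, 26, 14, 24]⟩,
  ⟨[[0, 5], [2, 4], [3], [0, 5], [2, 4], [1], [3], [2, 4], [0, 5]], [12, 26, 13, 16]⟩,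
  ⟨[[3], [2, 4], [3], [0, 5], [2, 4], [1], [3], [2, 4], [0, 5]], [16, 17, 25, 12]⟩,
  ⟨[[3], [0, 5], [2, 4], [3], [0, 5], [2, 4], [1], [3], [2, 4], [0, 5]], [15, 18, 19, 14]⟩,
  ⟨[[1], [3], [2, 4], [3], [0, 5], [2, 4], [1], [3], [2, 4], [0, 5]], [18, 15, 25, 26]⟩,
  ⟨[[1], [3], [0, 5], [2, 4], [3], [0, 5], [2, 4], [1], [3], [2, 4], [0, 5]], [17, 16, 20, 26]⟩,
  ⟨[[2, 4], [3], [0, 5], [2, 4], [3], [0, 5], [2, 4], [1], [3], [2, 4], [0, 5]], [25, 20, 16, 24]⟩,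
  ⟨[[2, 4], [1], [3], [0, 5], [2, 4], [3], [0, 5], [2, 4], [1], [3], [2, 4], [0, 5]], [25, 19, 18, 21]⟩,
  ⟨[[3], [2, 4], [1], [3], [0, 5], [2, 4], [3], [0, 5], [2, 4], [1], [3], [2, 4], [0, 5]], [25, 24, 22, 20]⟩,
  ⟨[[2, 4], [3], [2, 4], [1], [3], [0, 5], [2, 4], [3], [0, 5], [2, 4], [1], [3], [2, 4], [0, 5]], [23, 24, 21, 26]⟩,
  ⟨[[0, 5], [2, 4], [3], [2, 4], [1], [3], [0, 5], [2, 4], [3], [0, 5], [2, 4], [1], [3], [2, 4], [0, 5]], [22, 24, 25, 26]⟩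
]

set_option maxRecDepth 1000000 in
theorem chkTTblE6_0 : ∀ t < 24, checkTRec chevE6 ttblKE6_0 ttblJE6_0 ttblE6_0 t = true := by
  decide +kernel

set_option maxRecDepth 1000000 in
theorem chkTTblE6_0_nd : (ttblE6_0.map fun R => imgW chevE6 R.os.flatten).Nodup := by
  decide +kernel

set_option maxRecDepth 1000000 in
theorem stepPolyTE6_0 : stepPolyT chevE6 ttblE6_0 = [1, 0, 1, 0, 1, 1, 1, 1, 1, 2, 1, 2, 0, 2, 1, 2, 1, 1, 1, 1, 1, 0, 1, 0, 1] := by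
  decide +kernel

/-- the orbits `K` of step 1 -/
def ttblKE6_1 : List (List ℕ) := [[1], [2, 4], [3]]
/-- the orbits `J` of step 1 -/
def ttblJE6_1 : List (List ℕ) := [[1], [3]]
/-- the transversal of step 1 -/
def ttblE6_1 : List TRec := [
  ⟨[], [8, 1, 9]⟩,
  ⟨[[2, 4]], [8, 0, 2]⟩,
  ⟨[[3], [2, 4]], [3, 4, 1]⟩,
  ⟨[[1], [3], [2, 4]], [2, 5, 8]⟩,
  ⟨[[2, 4], [3], [2, 4]], [5, 2, 9]⟩,
  ⟨[[2, 4], [1], [3], [2, 4]], [4, 3, 6]⟩,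
  ⟨[[3], [2, 4], [1], [3], [2, 4]], [9, 7, 5]⟩,
  ⟨[[2, 4], [3], [2, 4], [1], [3], [2, 4]], [9, 6, 8]⟩
]

set_option maxRecDepth 1000000 in
theorem chkTTblE6_1 : ∀ t < 8, checkTRec chevE6 ttblKE6_1 ttblJE6_1 ttblE6_1 t = true := by
  decide +kernel

set_option maxRecDepth 1000000 in
theorem chkTTblE6_1_nd : (ttblE6_1.map fun R => imgW chevE6 R.os.flatten).Nodup := by
  decide +kernel

set_option maxRecDepth 1000000 in
theorem stepPolyTE6_1 : stepPolyT chevE6 ttblE6_1 = [1, 0, 1, 1, 1, 1, 1, 1, 0, 1] := by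
  decide +kernel

/-- the orbits `K` of step 2 -/
def ttblKE6_2 : List (List ℕ) := [[1], [3]]
/-- the orbits `J` of step 2 -/
def ttblJE6_2 : List (List ℕ) := [[1]]
/-- the transversal of step 2 -/
def ttblE6_2 : List TRec := [
  ⟨[], [3, 1]⟩,
  ⟨[[3]], [2, 0]⟩,
  ⟨[[1], [3]], [1, 3]⟩
]

set_option maxRecDepth 1000000 in
theorem chkTTblE6_2 : ∀ t < 3, checkTRec chevE6 ttblKE6_2 ttblJE6_2 ttblE6_2 t = true := by
  decide +kernel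

set_option maxRecDepth 1000000 in
theorem chkTTblE6_2_nd : (ttblE6_2.map fun R => imgW chevE6 R.os.flatten).Nodup := by
  decide +kernel

set_option maxRecDepth 1000000 in
theorem stepPolyTE6_2 : stepPolyT chevE6 ttblE6_2 = [1, 1, 1] := by
  decide +kernel

/-- the orbits `K` of step 3 -/
def ttblKE6_3 : List (List ℕ) := [[1]]
/-- the orbits `J` of step 3 -/
def ttblJE6_3 : List (List ℕ) := []
/-- the transversal of step 3 -/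
def ttblE6_3 : List TRec := [
  ⟨[], [1]⟩,
  ⟨[[1]], [0]⟩
]

set_option maxRecDepth 1000000 in
theorem chkTTblE6_3 : ∀ t < 2, checkTRec chevE6 ttblKE6_3 ttblJE6_3 ttblE6_3 t = true := by
  decide +kernel

set_option maxRecDepth 1000000 in
theorem chkTTblE6_3_nd : (ttblE6_3.map fun R => imgW chevE6 R.os.flatten).Nodup := by
  decide +kernel

set_option maxRecDepth 1000000 in
theorem stepPolyTE6_3 : stepPolyT chevE6 ttblE6_3 = [1, 1] := by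
  decide +kernel

end Cfsg.Agent.Lib.Helper5.ChevSym
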