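import Mathlib
import Cfsg.Prelude.Def_ChevE6
import Cfsg.Prelude.Def_ChevD4
import Cfsg.Agent.Lib.Helper5.ChevTwistSigma
import Cfsg.Agent.Lib.Helper5.ChevChk.GraphData

set_option autoImplicit false

namespace Cfsg.Agent.Lib.Helper5.ChevSym

open Cfsg Cfsg.Lie

set_option maxRecDepth 1000000 in
theorem chkSigma_gE6 : checkSigma chevE6 gE6 = true := by decide +kernel

theorem sigmaOK_gE6 : SigmaOK chevE6 gE6 := sigmaOK_of_check _ _ chkSigma_gE6

set_option maxRecDepth 1000000 in
theorem chkSigma_gD4a : checkSigma chevD4 gD4a = true := by decide +kernel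

theorem sigmaOK_gD4a : SigmaOK chevD4 gD4a := sigmaOK_of_check _ _ chkSigma_gD4a

end Cfsg.Agent.Lib.Helper5.ChevSym
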