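import Mathlib
import Cfsg.Prelude.Def_ChevD4
import Cfsg.Agent.Lib.Helper5.ChevTwistTbl

set_option autoImplicit false

/-!
Transversals in the group generated by the `w_J` (type `D4`).
-/

namespace Cfsg.Agent.Lib.Helper5.ChevSym

open Cfsg Cfsg.Lie Cfsg.Agent.Lib.Helper5.ChevStruct

/-- the orbits `K` of step 0 -/
def ttblKD4_0 : List (List ℕ) := [[0, 2, 3], [1]]
/-- the orbits `J` of step 0 -/
def ttblJD4_0 : List (List ℕ) := [[1]]
/-- the transversal of step 0 -/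
def ttblD4_0 : List TRec := [
  ⟨[], [1, 6]⟩,
  ⟨[[0, 2, 3]], [0, 2]⟩,
  ⟨[[1], [0, 2, 3]], [3, 1]⟩,
  ⟨[[0, 2, 3], [1], [0, 2, 3]], [2, 4]⟩,
  ⟨[[1], [0, 2, 3], [1], [0, 2, 3]], [5, 3]⟩,
  ⟨[[0, 2, 3], [1], [0, 2, 3], [1], [0, 2, 3]], [4, 6]⟩
]

set_option maxRecDepth 1000000 in
theorem chkTTblD4_0 : ∀ t < 6, checkTRec chevD4 ttblKD4_0 ttblJD4_0 ttblD4_0 t = true := by
  decide +kernel

set_option maxRecDepth 1000000 in
theorem chkTTblD4_0_nd : (ttblD4_0.map fun R => imgW chevD4 R.os.flatten).Nodup := by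
  decide +kernel

set_option maxRecDepth 1000000 in
theorem stepPolyTD4_0 : stepPolyT chevD4 ttblD4_0 = [1, 0, 0, 1, 1, 0, 0, 1, 1, 0, 0, 1] := by
  decide +kernel

/-- the orbits `K` of step 1 -/
def ttblKD4_1 : List (List ℕ) := [[1]]
/-- the orbits `J` of step 1 -/
def ttblJD4_1 : List (List ℕ) := []
/-- the transversal of step 1 -/
def ttblD4_1 : List TRec := [
  ⟨[], [1]⟩,
  ⟨[[1]], [0]⟩
]

set_option maxRecDepth 1000000 in
theorem chkTTblD4_1 : ∀ t < 2, checkTRec chevD4 ttblKD4_1 ttblJD4_1 ttblD4_1 t = true := by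
  decide +kernel

set_option maxRecDepth 1000000 in
theorem chkTTblD4_1_nd : (ttblD4_1.map fun R => imgW chevD4 R.os.flatten).Nodup := by
  decide +kernel

set_option maxRecDepth 1000000 in
theorem stepPolyTD4_1 : stepPolyT chevD4 ttblD4_1 = [1, 1] := by
  decide +kernel

end Cfsg.Agent.Lib.Helper5.ChevSym
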