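import Mathlib
import Cfsg.Prelude.Def_ChevD4
import Cfsg.Agent.Lib.Helper5.ChevOrdDef

set_option autoImplicit false

namespace Cfsg.Agent.Lib.Helper5.ChevSym

open Cfsg Cfsg.Lie

set_option maxRecDepth 1000000 in
theorem chkChainPos_D4_0 : checkRange (checkChainPos chevD4) 0 24 = true := by
  decide +kernel

end Cfsg.Agent.Lib.Helper5.ChevSym
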