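import Mathlib
import Cfsg.Prelude.Def_ChevE6
import Cfsg.Agent.Lib.Helper5.ChevWOrdDef

set_option autoImplicit false

namespace Cfsg.Agent.Lib.Helper5.ChevSym

open Cfsg Cfsg.Lie

/-- the Coxeter matrix of type E6, nodes numbered as the fundamental roots -/
def coxListE6 : List (List ℕ) := [[1, 2, 3, 2, 2, 2], [2, 1, 2, 3, 2, 2], [3, 2, 1, 3, 2, 2], [2, 3, 3, 1, 3, 2], [2, 2, 2, 3, 1, 3], [2, 2, 2, 2, 3, 1]]

set_option maxRecDepth 1000000 in
theorem chkCoxMat_E6 : checkCoxMat chevE6 coxListE6 = true := by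
  decide +kernel

set_option maxRecDepth 1000000 in
theorem chkCoxElt_E6 : checkWordOrd chevE6 [0, 1, 2, 3, 4, 5] 12 [2, 3, 5] = true := by
  decide +kernel

end Cfsg.Agent.Lib.Helper5.ChevSym
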