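import Mathlib
import Cfsg.Prelude.Def_ChevE7
import Cfsg.Agent.Lib.Helper5.ChevWOrdDef

set_option autoImplicit false

namespace Cfsg.Agent.Lib.Helper5.ChevSym

open Cfsg Cfsg.Lie

/-- the Coxeter matrix of type E7, nodes numbered as the fundamental roots -/
def coxListE7 : List (List ℕ) := [[1, 2, 3, 2, 2, 2, 2], [2, 1, 2, 3, 2, 2, 2], [3, 2, 1, 3, 2, 2, 2], [2, 3, 3, 1, 3, 2, 2], [2, 2, 2, 3, 1, 3, 2], [2, 2, 2, 2, 3, 1, 3], [2, 2, 2, 2, 2, 3, 1]]

set_option maxRecDepth 1000000 in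
theorem chkCoxMat_E7 : checkCoxMat chevE7 coxListE7 = true := by
  decide +kernel

set_option maxRecDepth 1000000 in
theorem chkCoxElt_E7 : checkWordOrd chevE7 [0, 1, 2, 3, 4, 5, 6] 18 [2, 3, 5] = true := by
  decide +kernel

end Cfsg.Agent.Lib.Helper5.ChevSym
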