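import Mathlib
import Cfsg.Prelude.Def_ChevG2
import Cfsg.Agent.Lib.Helper5.ChevWOrdDef

set_option autoImplicit false

namespace Cfsg.Agent.Lib.Helper5.ChevSym

open Cfsg Cfsg.Lie

/-- the Coxeter matrix of type G2, nodes numbered as the fundamental roots -/
def coxListG2 : List (List ℕ) := [[1, 6], [6, 1]]

set_option maxRecDepth 1000000 in
theorem chkCoxMat_G2 : checkCoxMat chevG2 coxListG2 = true := by
  decide +kernel

set_option maxRecDepth 1000000 in
theorem chkCoxElt_G2 : checkWordOrd chevG2 [0, 1] 6 [2, 3, 5] = true := by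
  decide +kernel

end Cfsg.Agent.Lib.Helper5.ChevSym
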