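import Mathlib
import Cfsg.Prelude.Def_ChevE8
import Cfsg.Agent.Lib.Helper5.ChevSymH

set_option autoImplicit false

namespace Cfsg.Agent.Lib.Helper5.ChevSym

open Cfsg Cfsg.Lie

set_option maxRecDepth 1000000 in
theorem chkH_E8_200 : checkRange (checkH chevE8) 200 2 = true := by
  decide +kernel

set_option maxRecDepth 1000000 in
theorem chkH_E8_202 : checkRange (checkH chevE8) 202 2 = true := by
  decide +kernel

set_option maxRecDepth 1000000 in
theorem chkH_E8_204 : checkRange (checkH chevE8) 204 2 = true := by
  decide +kernel

set_option maxRecDepth 1000000 in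
theorem chkH_E8_206 : checkRange (checkH chevE8) 206 2 = true := by
  decide +kernel

set_option maxRecDepth 1000000 in
theorem chkH_E8_208 : checkRange (checkH chevE8) 208 2 = true := by
  decide +kernel

set_option maxRecDepth 1000000 in
theorem chkH_E8_210 : checkRange (checkH chevE8) 210 2 = true := by
  decide +kernel

set_option maxRecDepth 1000000 in
theorem chkH_E8_212 : checkRange (checkH chevE8) 212 2 = true := by
  decide +kernel

set_option maxRecDepth 1000000 in
theorem chkH_E8_214 : checkRange (checkH chevE8) 214 2 = true := by
  decide +kernel

set_option maxRecDepth 1000000 in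
theorem chkH_E8_216 : checkRange (checkH chevE8) 216 2 = true := by
  decide +kernel

set_option maxRecDepth 1000000 in
theorem chkH_E8_218 : checkRange (checkH chevE8) 218 2 = true := by
  decide +kernel

end Cfsg.Agent.Lib.Helper5.ChevSym
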