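import Mathlib
import Cfsg.Prelude.Def_ChevD4
import Cfsg.Agent.Lib.Helper5.ChevWTblDef

set_option autoImplicit false

namespace Cfsg.Agent.Lib.Helper5.ChevSym

open Cfsg Cfsg.Lie

def wtblKD4_3 : List ℕ := [3]

def wtblJD4_3 : List ℕ := []

def wtblD4_3 : List CosetRec := [
  ⟨[], 0, [18, 14, 13, 12], 0, [0, 0, 0, 1]⟩,
  ⟨[3], 0, [18, 15, 13, 11], 12, [0, 0, 0, 0]⟩]

set_option maxRecDepth 1000000 in
theorem chkWTblD4_3_0 : checkRecRange chevD4 wtblKD4_3 wtblJD4_3 wtblD4_3 0 2 = true := by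
  decide +kernel

set_option maxRecDepth 1000000 in
theorem chkWTblD4_3_nd : (wtblD4_3.map (·.img)).Nodup := by
  decide +kernel

theorem chkWTblD4_3 (t : ℕ) (ht : t < 2) : checkRec chevD4 wtblKD4_3 wtblJD4_3 wtblD4_3 t = true := by
  exact checkRecRange_spec _ _ _ _ 0 2 chkWTblD4_3_0 t (by omega) ht

end Cfsg.Agent.Lib.Helper5.ChevSym
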