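import Mathlib
import Cfsg.Prelude.Def_ChevE7
import Cfsg.Agent.Lib.Helper5.ChevWTblDef

set_option autoImplicit false

namespace Cfsg.Agent.Lib.Helper5.ChevSym

open Cfsg Cfsg.Lie

def wtblKE7_0 : List ℕ := [0, 1, 2, 3, 4, 5, 6]

def wtblJE7_0 : List ℕ := [0, 1, 2, 3, 4, 5]

def wtblE7_0 : List CosetRec := [
  ⟨[], 0, [93, 78, 73, 69, 66, 64, 63], 0, [56, 57, 58, 59, 60, 61, 1]⟩,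
  ⟨[6], 0, [93, 78, 73, 69, 66, 65, 62], 63, [56, 57, 58, 59, 60, 2, 0]⟩,
  ⟨[5, 6], 1, [93, 78, 73, 69, 67, 63, 60], 65, [56, 57, 58, 59, 3, 1, 61]⟩,
  ⟨[4, 5, 6], 2, [93, 78, 73, 70, 64, 63, 57], 68, [56, 57, 58, 4, 2, 60, 61]⟩,
  ⟨[3, 4, 5, 6], 3, [93, 79, 74, 66, 64, 63, 53], 72, [56, 5, 6, 3, 59, 60, 61]⟩,
  ⟨[1, 3, 4, 5, 6], 4, [93, 69, 83, 66, 64, 63, 43], 82, [56, 4, 7, 57, 59, 60, 61]⟩,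
  ⟨[2, 3, 4, 5, 6], 4, [94, 83, 69, 66, 64, 63, 48], 77, [8, 7, 4, 58, 59, 60, 61]⟩,
  ⟨[2, 1, 3, 4, 5, 6], 5, [94, 74, 79, 66, 64, 63, 39], 77, [9, 6, 5, 10, 59, 60, 61]⟩,
  ⟨[0, 2, 3, 4, 5, 6], 6, [73, 99, 69, 66, 64, 63, 27], 98, [6, 9, 56, 58, 59, 60, 61]⟩,
  ⟨[0, 2, 1, 3, 4, 5, 6], 7, [73, 95, 79, 66, 64, 63, 23], 98, [7, 8, 56, 11, 59, 60, 61]⟩,
  ⟨[3, 2, 1, 3, 4, 5, 6], 7, [95, 73, 78, 70, 64, 63, 36], 86, [11, 58, 57, 7, 12, 60, 61]⟩,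
  ⟨[3, 0, 2, 1, 3, 4, 5, 6], 9, [74, 94, 78, 70, 64, 63, 20], 86, [10, 58, 13, 9, 14, 60, 61]⟩,
  ⟨[4, 3, 2, 1, 3, 4, 5, 6], 10, [96, 73, 78, 69, 67, 63, 34], 89, [14, 58, 57, 59, 10, 15, 61]⟩,
  ⟨[2, 3, 0, 2, 1, 3, 4, 5, 6], 11, [69, 93, 78, 75, 64, 63, 14], 102, [57, 58, 11, 56, 16, 60, 61]⟩,
  ⟨[4, 3, 0, 2, 1, 3, 4, 5, 6], 11, [75, 94, 78, 69, 67, 63, 18], 89, [12, 58, 16, 59, 11, 17, 61]⟩,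
  ⟨[5, 4, 3, 2, 1, 3, 4, 5, 6], 12, [97, 73, 78, 69, 66, 65, 33], 91, [17, 58, 57, 59, 60, 12, 18]⟩,
  ⟨[4, 2, 3, 0, 2, 1, 3, 4, 5, 6], 13, [70, 93, 78, 74, 67, 63, 12], 89, [57, 58, 14, 19, 13, 20, 61]⟩,
  ⟨[5, 4, 3, 0, 2, 1, 3, 4, 5, 6], 14, [76, 94, 78, 69, 66, 65, 17], 91, [15, 58, 20, 59, 60, 14, 21]⟩,
  ⟨[6, 5, 4, 3, 2, 1, 3, 4, 5, 6], 15, [98, 73, 78, 69, 66, 64, 33], 92, [21, 58, 57, 59, 60, 61, 15]⟩,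
  ⟨[3, 4, 2, 3, 0, 2, 1, 3, 4, 5, 6], 16, [66, 93, 79, 73, 71, 63, 9], 105, [57, 22, 59, 16, 56, 23, 61]⟩,
  ⟨[5, 4, 2, 3, 0, 2, 1, 3, 4, 5, 6], 16, [71, 93, 78, 74, 66, 65, 11], 91, [57, 58, 17, 23, 60, 16, 24]⟩,
  ⟨[6, 5, 4, 3, 0, 2, 1, 3, 4, 5, 6], 17, [77, 94, 78, 69, 66, 64, 17], 92, [18, 58, 24, 59, 60, 61, 17]⟩,
  ⟨[1, 3, 4, 2, 3, 0, 2, 1, 3, 4, 5, 6], 19, [66, 93, 69, 73, 81, 63, 5], 111, [57, 19, 59, 58, 56, 25, 61]⟩,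
  ⟨[5, 3, 4, 2, 3, 0, 2, 1, 3, 4, 5, 6], 19, [67, 93, 79, 73, 70, 65, 8], 91, [57, 25, 59, 20, 26, 19, 27]⟩,
  ⟨[6, 5, 4, 2, 3, 0, 2, 1, 3, 4, 5, 6], 20, [72, 93, 78, 74, 66, 64, 11], 92, [57, 58, 21, 27, 60, 61, 20]⟩,
  ⟨[5, 1, 3, 4, 2, 3, 0, 2, 1, 3, 4, 5, 6], 22, [67, 93, 69, 73, 80, 65, 4], 91, [57, 23, 59, 58, 28, 22, 29]⟩,
  ⟨[4, 5, 3, 4, 2, 3, 0, 2, 1, 3, 4, 5, 6], 23, [64, 93, 80, 73, 69, 68, 7], 107, [57, 28, 59, 60, 23, 56, 30]⟩,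
  ⟨[6, 5, 3, 4, 2, 3, 0, 2, 1, 3, 4, 5, 6], 23, [68, 93, 79, 73, 70, 64, 8], 92, [57, 29, 59, 24, 30, 61, 23]⟩,
  ⟨[4, 5, 1, 3, 4, 2, 3, 0, 2, 1, 3, 4, 5, 6], 25, [64, 93, 70, 73, 79, 68, 3], 107, [57, 26, 59, 31, 25, 56, 32]⟩,
  ⟨[6, 5, 1, 3, 4, 2, 3, 0, 2, 1, 3, 4, 5, 6], 25, [68, 93, 69, 73, 80, 64, 4], 92, [57, 27, 59, 58, 32, 61, 25]⟩,
  ⟨[6, 4, 5, 3, 4, 2, 3, 0, 2, 1, 3, 4, 5, 6], 26, [65, 93, 80, 73, 69, 67, 7], 92, [57, 32, 59, 60, 27, 33, 26]⟩,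
  ⟨[3, 4, 5, 1, 3, 4, 2, 3, 0, 2, 1, 3, 4, 5, 6], 28, [64, 93, 66, 74, 78, 72, 2], 113, [57, 60, 34, 28, 58, 56, 35]⟩,
  ⟨[6, 4, 5, 1, 3, 4, 2, 3, 0, 2, 1, 3, 4, 5, 6], 28, [65, 93, 70, 73, 79, 67, 3], 92, [57, 30, 59, 35, 29, 36, 28]⟩,
  ⟨[5, 6, 4, 5, 3, 4, 2, 3, 0, 2, 1, 3, 4, 5, 6], 30, [63, 93, 81, 73, 69, 66, 7], 108, [57, 36, 59, 60, 61, 30, 56]⟩,
  ⟨[2, 3, 4, 5, 1, 3, 4, 2, 3, 0, 2, 1, 3, 4, 5, 6], 31, [64, 94, 66, 69, 78, 77, 1], 116, [37, 60, 31, 59, 58, 56, 38]⟩,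
  ⟨[6, 3, 4, 5, 1, 3, 4, 2, 3, 0, 2, 1, 3, 4, 5, 6], 31, [65, 93, 66, 74, 78, 71, 2], 92, [57, 60, 38, 32, 58, 39, 31]⟩,
  ⟨[5, 6, 4, 5, 1, 3, 4, 2, 3, 0, 2, 1, 3, 4, 5, 6], 32, [63, 93, 71, 73, 79, 66, 3], 108, [57, 33, 59, 39, 61, 32, 56]⟩,
  ⟨[0, 2, 3, 4, 5, 1, 3, 4, 2, 3, 0, 2, 1, 3, 4, 5, 6], 34, [64, 73, 66, 69, 78, 98, 0], 120, [34, 60, 57, 59, 58, 56, 40]⟩,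
  ⟨[6, 2, 3, 4, 5, 1, 3, 4, 2, 3, 0, 2, 1, 3, 4, 5, 6], 34, [65, 94, 66, 69, 78, 76, 1], 92, [40, 60, 35, 59, 58, 41, 34]⟩,
  ⟨[5, 6, 3, 4, 5, 1, 3, 4, 2, 3, 0, 2, 1, 3, 4, 5, 6], 35, [63, 93, 67, 74, 78, 70, 2], 108, [57, 60, 41, 36, 42, 35, 56]⟩,
  ⟨[6, 0, 2, 3, 4, 5, 1, 3, 4, 2, 3, 0, 2, 1, 3, 4, 5, 6], 37, [65, 73, 66, 69, 78, 97, 0], 92, [38, 60, 57, 59, 58, 43, 37]⟩,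
  ⟨[5, 6, 2, 3, 4, 5, 1, 3, 4, 2, 3, 0, 2, 1, 3, 4, 5, 6], 38, [63, 94, 67, 69, 78, 75, 1], 108, [43, 60, 39, 59, 44, 38, 56]⟩,
  ⟨[4, 5, 6, 3, 4, 5, 1, 3, 4, 2, 3, 0, 2, 1, 3, 4, 5, 6], 39, [63, 93, 64, 75, 78, 69, 2], 114, [57, 60, 44, 61, 39, 58, 56]⟩,
  ⟨[5, 6, 0, 2, 3, 4, 5, 1, 3, 4, 2, 3, 0, 2, 1, 3, 4, 5, 6], 40, [63, 73, 67, 69, 78, 96, 0], 108, [41, 60, 57, 59, 45, 40, 56]⟩,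
  ⟨[4, 5, 6, 2, 3, 4, 5, 1, 3, 4, 2, 3, 0, 2, 1, 3, 4, 5, 6], 41, [63, 94, 64, 70, 78, 74, 1], 114, [45, 60, 42, 46, 41, 58, 56]⟩,
  ⟨[4, 5, 6, 0, 2, 3, 4, 5, 1, 3, 4, 2, 3, 0, 2, 1, 3, 4, 5, 6], 43, [63, 73, 64, 70, 78, 95, 0], 114, [44, 60, 57, 47, 43, 58, 56]⟩,
  ⟨[3, 4, 5, 6, 2, 3, 4, 5, 1, 3, 4, 2, 3, 0, 2, 1, 3, 4, 5, 6], 44, [63, 95, 64, 66, 79, 73, 1], 117, [47, 48, 61, 44, 59, 58, 56]⟩,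
  ⟨[3, 4, 5, 6, 0, 2, 3, 4, 5, 1, 3, 4, 2, 3, 0, 2, 1, 3, 4, 5, 6], 45, [63, 74, 64, 66, 79, 94, 0], 117, [46, 49, 50, 45, 59, 58, 56]⟩,
  ⟨[1, 3, 4, 5, 6, 2, 3, 4, 5, 1, 3, 4, 2, 3, 0, 2, 1, 3, 4, 5, 6], 46, [63, 99, 64, 66, 69, 73, 1], 118, [49, 46, 61, 60, 59, 58, 56]⟩,
  ⟨[1, 3, 4, 5, 6, 0, 2, 3, 4, 5, 1, 3, 4, 2, 3, 0, 2, 1, 3, 4, 5, 6], 47, [63, 83, 64, 66, 69, 94, 0], 118, [48, 47, 51, 60, 59, 58, 56]⟩,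
  ⟨[2, 3, 4, 5, 6, 0, 2, 3, 4, 5, 1, 3, 4, 2, 3, 0, 2, 1, 3, 4, 5, 6], 47, [63, 69, 64, 66, 83, 93, 0], 121, [61, 51, 47, 57, 59, 58, 56]⟩,
  ⟨[2, 1, 3, 4, 5, 6, 0, 2, 3, 4, 5, 1, 3, 4, 2, 3, 0, 2, 1, 3, 4, 5, 6], 49, [63, 79, 64, 66, 74, 93, 0], 121, [61, 50, 49, 52, 59, 58, 56]⟩,
  ⟨[3, 2, 1, 3, 4, 5, 6, 0, 2, 3, 4, 5, 1, 3, 4, 2, 3, 0, 2, 1, 3, 4, 5, 6], 51, [63, 78, 64, 70, 73, 93, 0], 122, [61, 57, 60, 51, 53, 58, 56]⟩,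
  ⟨[4, 3, 2, 1, 3, 4, 5, 6, 0, 2, 3, 4, 5, 1, 3, 4, 2, 3, 0, 2, 1, 3, 4, 5, 6], 52, [63, 78, 67, 69, 73, 93, 0], 123, [61, 57, 60, 59, 52, 54, 56]⟩,
  ⟨[5, 4, 3, 2, 1, 3, 4, 5, 6, 0, 2, 3, 4, 5, 1, 3, 4, 2, 3, 0, 2, 1, 3, 4, 5, 6], 53, [65, 78, 66, 69, 73, 93, 0], 124, [61, 57, 60, 59, 58, 53, 55]⟩,
  ⟨[6, 5, 4, 3, 2, 1, 3, 4, 5, 6, 0, 2, 3, 4, 5, 1, 3, 4, 2, 3, 0, 2, 1, 3, 4, 5, 6], 54, [64, 78, 66, 69, 73, 93, 0], 125, [61, 57, 60, 59, 58, 56, 54]⟩]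

set_option maxRecDepth 1000000 in
theorem chkWTblE7_0_0 : checkRecRange chevE7 wtblKE7_0 wtblJE7_0 wtblE7_0 0 56 = true := by
  decide +kernel

set_option maxRecDepth 1000000 in
theorem chkWTblE7_0_nd : (wtblE7_0.map (·.img)).Nodup := by
  decide +kernel

theorem chkWTblE7_0 (t : ℕ) (ht : t < 56) : checkRec chevE7 wtblKE7_0 wtblJE7_0 wtblE7_0 t = true := by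
  exact checkRecRange_spec _ _ _ _ 0 56 chkWTblE7_0_0 t (by omega) ht

end Cfsg.Agent.Lib.Helper5.ChevSym
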