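import Mathlib
import Cfsg.Prelude.Def_ChevE8
import Cfsg.Agent.Lib.Helper5.ChevWTblDef

set_option autoImplicit false

namespace Cfsg.Agent.Lib.Helper5.ChevSym

open Cfsg Cfsg.Lie

def wtblKE8_4 : List ℕ := [1, 2, 3, 4]

def wtblJE8_4 : List ℕ := [2, 3, 4]

def wtblE8_4 : List CosetRec := [
  ⟨[], 0, [162, 141, 135, 130, 126, 123, 121, 120], 0, [0, 1, 10, 11, 12, 0, 0, 0]⟩,
  ⟨[1], 0, [162, 98, 135, 142, 126, 123, 121, 120], 141, [0, 0, 10, 2, 12, 0, 0, 0]⟩,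
  ⟨[3, 1], 1, [162, 97, 136, 141, 131, 123, 121, 120], 142, [0, 11, 3, 1, 4, 0, 0, 0]⟩,
  ⟨[2, 3, 1], 2, [163, 92, 130, 141, 137, 123, 121, 120], 147, [0, 11, 2, 10, 5, 0, 0, 0]⟩,
  ⟨[4, 3, 1], 2, [162, 96, 137, 141, 130, 127, 121, 120], 143, [0, 11, 5, 12, 2, 0, 0, 0]⟩,
  ⟨[4, 2, 3, 1], 3, [163, 91, 131, 141, 136, 127, 121, 120], 143, [0, 11, 4, 6, 3, 0, 0, 0]⟩,
  ⟨[3, 4, 2, 3, 1], 5, [164, 87, 126, 142, 135, 132, 121, 120], 148, [0, 7, 12, 5, 10, 0, 0, 0]⟩,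
  ⟨[1, 3, 4, 2, 3, 1], 6, [169, 87, 126, 130, 135, 144, 121, 120], 152, [0, 6, 12, 11, 10, 0, 0, 0]⟩]

set_option maxRecDepth 1000000 in
theorem chkWTblE8_4_0 : checkRecRange chevE8 wtblKE8_4 wtblJE8_4 wtblE8_4 0 8 = true := by
  decide +kernel

set_option maxRecDepth 1000000 in
theorem chkWTblE8_4_nd : (wtblE8_4.map (·.img)).Nodup := by
  decide +kernel

theorem chkWTblE8_4 (t : ℕ) (ht : t < 8) : checkRec chevE8 wtblKE8_4 wtblJE8_4 wtblE8_4 t = true := by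
  exact checkRecRange_spec _ _ _ _ 0 8 chkWTblE8_4_0 t (by omega) ht

end Cfsg.Agent.Lib.Helper5.ChevSym
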